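import Groth.Agent.SimpsonEst.Regularity
import Groth.Agent.GrothLem.OnX
import Groth.Agent.GrothLem.Semistable
import Groth.Agent.AmpleVan.ThickPush

/-!
# Boundedness of pure sheaves with slopes bounded above
-/

set_option autoImplicit false
set_option linter.style.haveILetI false
set_option linter.unusedSectionVars false
set_option backward.isDefEq.respectTransparency false
set_option backward.isDefEq.respectTransparency.types false
set_option maxHeartbeats 1000000

universe u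

open CategoryTheory CategoryTheory.Limits AlgebraicGeometry TopologicalSpace Opposite

noncomputable section

namespace Groth.Agent.SimpsonEst

open Groth.Agent Groth.Agent.RegEpi Groth.Agent.HilbBound Groth.Agent.PnCoh.Finite

variable {k : Type u} [Field k] {n d : ℕ}

local notation "PP" => Proj (CohB1.polyGrading n k)
local notation "MOD" => Scheme.Modules (Proj (CohB1.polyGrading n k))
local notation "Lin" => (CohB1.polyGrading n k) 1

attribute [local instance 10000] HilbBound.projOver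

/-- Bounded slopes give a projection with degrees bounded below. -/
theorem PureBd.exists_adapted [Infinite k] [CharZero k] [NeZero d] {E : MOD} {μ : ℚ} (h : PureBd E d μ)
    {P : Polynomial ℚ} (hP : ∀ t : ℤ, (chi (k := k) (n := n) E t : ℚ) = P.eval (t : ℚ)) :
    ∃ (l : Lin) (y : Fin d → Lin), Adapted E l y ⌈μ + StabCat.alpha d P⌉ := by
  haveI : IsNoetherian PP := Proj16.isNoetherian_proj _
  obtain ⟨l, hl⟩ := exists_lin_avoid (finite_weakAss h.coh)
  have hA := QCoh.isClosed_support_of_isFT h.coh.1 h.coh.2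
  have hB : IsClosed (CohB1.support E ∩ (UL l : Set PP)ᶜ) := hA.inter (UL l).2.isClosed_compl
  obtain ⟨y, hy⟩ := exists_cover (k := k) (n := n) d _ hB
    (dim_lt_of_avoid hA hB Set.inter_subset_left
      (fun z hz hmax hzB => hzB.2 (hl z (AssPtX.isWeakAssPoint_of_maximal h.coh.1 hz hmax))) h.dim)
  have hcov : ∀ x ∈ CohB1.support E, ∃ i, x ∈ UL ((Fin.cons l y : Fin (d + 1) → Lin) i) := fun x hx => by
    by_cases hxl : x ∈ UL l
    · exact ⟨0, hxl⟩
    · obtain ⟨i, hi⟩ := hy x ⟨hx, hxl⟩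
      exact ⟨i.succ, by rwa [Fin.cons_succ]⟩
  obtain ⟨m₀, hm₀⟩ := exists_gen h.coh _ hcov
  have S : Setup E l y := ⟨h.coh, hl, h.pure, h.dim, m₀, fun m hm x => by
    obtain ⟨b, rfl⟩ := hm₀ m hm x
    exact ⟨b 0, fun i => b i.succ, by rw [Fin.sum_univ_succ]; simp only [Fin.cons_zero, Fin.cons_succ]⟩⟩
  obtain ⟨r, θ, z, hθ, hz⟩ := S.exists_coords
  obtain ⟨N₀, hN₀⟩ := S.exists_finrank_eq hP
  have hr := (S.filt.alpha_eq hz hθ (GrothLem.natDegree_le_of_dim S.coh S.dim hP).1 hN₀).1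
  refine ⟨l, y, S, hcov, r, θ, z, hθ, hz, fun α => ?_⟩
  have h1 := h.exists_deg_le hP S hθ hz α
  have h2 := Int.le_ceil (μ + StabCat.alpha d P)
  have h3 : ((-⌈μ + StabCat.alpha d P⌉ : ℤ) : ℚ) ≤ ((S.filt.sys θ z hz).deg α : ℚ) := by
    push_cast
    rw [hr] at h2 ⊢
    have : (0 : ℚ) ≤ ((d : ℚ) + 1) / 2 := by positivity
    linarith
  exact_mod_cast h3

variable (k) in
/-- Pure sheaves with given polynomial and bounded slopes are uniformly regular. -/
theorem exists_reg_pureBd [Infinite k] [CharZero k] (n d : ℕ) (P : Polynomial ℚ) (μ : ℚ) : ∃ R : ℤ,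
    ∀ E : Scheme.Modules (Proj (CohB1.polyGrading n k)), PureBd E d μ →
      (∀ t : ℤ, (chi (k := k) (n := n) E t : ℚ) = P.eval (t : ℚ)) → Bdd.Reg E R := by
  rcases Nat.eq_zero_or_pos d with rfl | hd
  · exact ⟨0, fun E h _ => reg_of_dimLT_one h.coh h.dim 0⟩
  obtain ⟨e, rfl⟩ : ∃ e, d = e + 1 := ⟨d - 1, by omega⟩
  obtain ⟨R, hR⟩ := exists_reg k n e P ⌈μ + StabCat.alpha (e + 1) P⌉
  refine ⟨R, fun E h hP => ?_⟩
  obtain ⟨l, y, had⟩ := h.exists_adapted hP
  exact hR E l y had hP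

variable (k) in
/-- Pure sheaves on projective space with given polynomial and bounded slopes form a bounded family. -/
theorem isBounded_pureBd [Infinite k] [CharZero k] (n d : ℕ) (P : Polynomial ℚ) (μ : ℚ) :
    Pic13.IsBounded k (CohB1.ProjSpace n k)
      (fun E => PureBd E d μ ∧ ∀ t : ℤ, (chi (k := k) (n := n) E t : ℚ) = P.eval (t : ℚ)) := by
  obtain ⟨R, hR⟩ := exists_reg_pureBd k n d P μ
  refine Bdd.isBounded_mono (Bdd.isBounded_reg_poly R P) fun E hE =>
    ⟨E, ⟨hE.1.coh, hR E hE.1 hE.2, fun t => hE.2 t⟩, ⟨Iso.refl _⟩⟩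

theorem slope_le_of_cross_le {d : ℕ} {ψ φ : Polynomial ℚ} (hψ : 0 < StabCat.alpha d ψ) (hφ : 0 < StabCat.alpha d φ)
    (h1 : ψ.natDegree ≤ d) (h2 : φ.natDegree ≤ d)
    (h : ∃ N : ℕ, ∀ m : ℕ, N ≤ m → StabCat.alpha d φ * ψ.eval (m : ℚ) ≤ StabCat.alpha d ψ * φ.eval (m : ℚ)) :
    StabCat.alpha (d - 1) ψ ≤ StabCat.hatSlope d φ * StabCat.alpha d ψ := by
  obtain ⟨N, hN⟩ := h
  have hc := GrothLem.coeff_le_of_eventually (P := StabCat.alpha d ψ • φ - StabCat.alpha d φ • ψ) (d := d)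
    ((Polynomial.natDegree_sub_le _ _).trans
      (max_le ((Polynomial.natDegree_smul_le _ _).trans h2) ((Polynomial.natDegree_smul_le _ _).trans h1)))
    (by
      rw [Polynomial.coeff_sub, Polynomial.coeff_smul, Polynomial.coeff_smul, smul_eq_mul, smul_eq_mul,
        StabCat.alpha, StabCat.alpha]
      ring)
    fun M => ⟨max M N, le_max_left _ _, by
      rw [Polynomial.eval_sub, Polynomial.eval_smul, Polynomial.eval_smul, smul_eq_mul, smul_eq_mul]
      linarith [hN _ (le_max_right M N)]⟩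
  rw [Polynomial.coeff_sub, Polynomial.coeff_smul, Polynomial.coeff_smul, smul_eq_mul, smul_eq_mul] at hc
  rw [StabCat.hatSlope, div_mul_eq_mul_div, le_div_iff₀ hφ]
  show ((d - 1).factorial : ℚ) * ψ.coeff (d - 1) * StabCat.alpha d φ ≤
    ((d - 1).factorial : ℚ) * φ.coeff (d - 1) * StabCat.alpha d ψ
  rw [mul_assoc, mul_assoc]
  exact mul_le_mul_of_nonneg_left (by linarith) (Nat.cast_nonneg _)

section OnX

variable {X : Scheme.{u}} [X.Over (Spec (CommRingCat.of k))] [IsProper (X ↘ Spec (CommRingCat.of k))]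
  (r : X ⟶ CohB1.ProjSpace n k) [IsClosedImmersion r]
  (hr : r ≫ CohB1.ProjSpace.toSpec n k = X ↘ Spec (CommRingCat.of k))
  {L : X.Modules} (hL : CohB1.IsAmple L) {c : ℕ} (hc0 : 0 < c)
  (hc : Nonempty ((Scheme.Modules.pullback r).obj (Twist.twistProjSpace n k 1) ≅ CohB1.tensorPow L c))

omit [X.Over (Spec (CommRingCat.of k))] [IsProper (X ↘ Spec (CommRingCat.of k))] in
/-- Subsheaves of a direct image are direct images. -/
theorem exists_sub_push {E : X.Modules} (hE : Coh.IsCoh E) {G : MOD}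
    (ι : G ⟶ (Scheme.Modules.pushforward r).obj E) [Mono ι] (hG : Coh.IsCoh G) :
    ∃ (G' : X.Modules) (ι' : G' ⟶ E), Mono ι' ∧ Coh.IsCoh G' ∧
      Nonempty (G ≅ (Scheme.Modules.pushforward r).obj G') := by
  obtain ⟨e⟩ := AmpleVan.exists_eq_push r hG.1 fun U a ha s => by
    refine ZClosLib.app_injective_of_mono ι U.1 ?_
    rw [map_zero, Scheme.Modules.Hom.app_smul]
    rw [FComplLib.ideal_ker, RingHom.mem_ker] at ha
    show (r.app U.1).hom a • (show Γ(E, r ⁻¹ᵁ U.1) from ι.app U.1 s) = 0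
    rw [ha, zero_smul]
  have hG' : Coh.IsCoh ((Scheme.Modules.pullback r).obj G) := ZClosLib.isCoh_pullback r hG
  obtain ⟨ψ, hψ⟩ := AmpleVan.exists_push_map r hG'.1 hE.1 (e.inv ≫ ι)
  haveI : (Scheme.Modules.pushforward r).Faithful := AmpleVan.faithful_push r
  haveI : Mono ((Scheme.Modules.pushforward r).map ψ) := hψ ▸ inferInstance
  exact ⟨_, ψ, (Scheme.Modules.pushforward r).mono_of_mono_map ‹_›, hG', ⟨e⟩⟩

include hr hL hc0 hc in
/-- Direct images of pure sheaves with bounded slopes. -/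
theorem pureBd_pushforward {E : X.Modules} (hE : Coh.IsCoh E) (hp : ShStab.IsPure X E d) (h0 : ¬ IsZero E) {b : ℚ}
    (hs : ∀ (G : X.Modules) (ι : G ⟶ E), Mono ι → Coh.IsCoh G → ¬ IsZero G →
      ∀ pG : Polynomial ℚ, ShStab.IsHilbPoly k X L G pG → StabCat.alpha (d - 1) pG ≤ b * StabCat.alpha d pG) :
    PureBd ((Scheme.Modules.pushforward r).obj E) d (if d = 0 then 1 else b / c) := by
  haveI := CurveCohLib.isNoetherian_of_proper (k := k) (X := X)
  haveI : IsNoetherian PP := Proj16.isNoetherian_proj _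
  have hEd : topologicalKrullDim ↥(CohB1.support E) ≤ (d : WithBot ℕ∞) := (hp E (𝟙 E) inferInstance hE h0).le
  have hd := GrothLem.dimLT_pushforward r hE hEd
  refine ⟨QCoh.isCoh_pushforward_finite r hE, GrothLem.isPureDeg_pushforward r hr hE hp, hd,
    fun G ι hι hG hG0 ψ hψ => ?_⟩
  haveI := hι
  rcases Nat.eq_zero_or_pos d with rfl | hdpos
  · rw [if_pos rfl, one_mul]
  obtain ⟨G', ι', hι', hG', ⟨e⟩⟩ := exists_sub_push r hE ι hG
  haveI := hι'
  have hG'0 : ¬ IsZero G' := fun hz => hG0 (((Scheme.Modules.pushforward r).map_isZero hz).of_iso e)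
  obtain ⟨pG, hpG, -, -⟩ := HilbPoly.exists_hilb (k := k) hL.1 hG' (hp G' ι' hι' hG' hG'0).le
  have hpoly : ψ = pG.comp (Polynomial.C (c : ℚ) * Polynomial.X) := by
    refine HilbPoly.poly_ext 0 fun m _ => ?_
    have h1 := hψ (m : ℤ)
    rw [chi_iso e, GrothLem.chi_pushforward_hilb r hr hc hG' hpG, Int.cast_natCast] at h1
    exact h1.symm
  rw [if_neg (by omega), hpoly]
  simp only [StabCat.alpha, GrothLem.coeff_comp_C_mul_X]
  have h1 := hs G' ι' hι' hG' hG'0 pG hpG
  simp only [StabCat.alpha] at h1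
  have hc' : (0 : ℚ) < c := Nat.cast_pos.2 hc0
  obtain ⟨e', rfl⟩ : ∃ e', d = e' + 1 := ⟨d - 1, by omega⟩
  simp only [Nat.add_sub_cancel] at h1 ⊢
  calc ((e'.factorial : ℚ) * ((c : ℚ) ^ e' * pG.coeff e'))
      = (c : ℚ) ^ e' * ((e'.factorial : ℚ) * pG.coeff e') := by ring
    _ ≤ (c : ℚ) ^ e' * (b * (((e' + 1).factorial : ℚ) * pG.coeff (e' + 1))) :=
        mul_le_mul_of_nonneg_left h1 (by positivity)
    _ = _ := by rw [pow_succ]; field_simp

include hr hL hc0 hc in
/-- Pure sheaves with given polynomial and bounded slopes form a bounded family. -/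
theorem isBounded_pure_slope [Infinite k] [CharZero k] (P : Polynomial ℚ) (b : ℚ) :
    Pic13.IsBounded k X (fun E => Coh.IsCoh E ∧ ¬ IsZero E ∧ ShStab.IsPure X E d ∧ ShStab.IsHilbPoly k X L E P ∧
      ∀ (G : X.Modules) (ι : G ⟶ E), Mono ι → Coh.IsCoh G → ¬ IsZero G →
        ∀ pG : Polynomial ℚ, ShStab.IsHilbPoly k X L G pG → StabCat.alpha (d - 1) pG ≤ b * StabCat.alpha d pG) := by
  haveI := CurveCohLib.isNoetherian_of_proper (k := k) (X := X)
  obtain ⟨R, hR⟩ := exists_reg_pureBd k n d (P.comp (Polynomial.C (c : ℚ) * Polynomial.X))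
    (if d = 0 then 1 else b / c)
  refine Bdd.isBounded_mono (Bdd.isBounded_regular r hr R (P.comp (Polynomial.C (c : ℚ) * Polynomial.X))) ?_
  rintro E ⟨hE, h0, hp, hP, hs⟩
  have hchi := GrothLem.chi_pushforward_hilb r hr hc hE hP
  have hreg := hR _ (pureBd_pushforward r hr hL hc0 hc hE hp h0 hs) hchi
  refine ⟨E, ⟨hE, fun q hq => ?_, fun t => ?_⟩, ⟨Iso.refl _⟩⟩
  · rw [FppfPic.MReg.hh_iff k n r E hE]
    exact hreg q hq
  · rw [TauNum.eulerCharLE_twistOn r hE, ← GrothLem.chi_pushforward r hr hE, hchi]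

end OnX

variable (k) in
/-- A projective scheme embeds by a power of an ample sheaf. -/
theorem exists_pow_embedding {X : Scheme.{u}} [X.Over (Spec (CommRingCat.of k))]
    [IsProper (X ↘ Spec (CommRingCat.of k))] {L : X.Modules} (hL : CohB1.IsAmple L) :
    ∃ (n : ℕ) (r : X ⟶ CohB1.ProjSpace n k) (_ : IsClosedImmersion r) (c : ℕ),
      r ≫ CohB1.ProjSpace.toSpec n k = X ↘ Spec (CommRingCat.of k) ∧ 0 < c ∧
      Nonempty ((Scheme.Modules.pullback r).obj (Twist.twistProjSpace n k 1) ≅ CohB1.tensorPow L c) := by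
  haveI := CurveCohLib.isNoetherian_of_proper (k := k) (X := X)
  obtain ⟨n, r, hrc, hr, hbex⟩ := AmpleEmbed.exists_closedImmersion_pow (X ↘ Spec (CommRingCat.of k)) hL
  rcases isEmpty_or_nonempty X with hX | hX
  · exact ⟨n, r, hrc, 1, hr, one_pos, ⟨((AssPtX.isZero_iff (PicClLib.isInvertible_pullback r
      (TauNum.isInvertible_twist _) |> AmpleVan.isCoh_invertible).1).2 fun x => isEmptyElim x).iso
      ((AssPtX.isZero_iff (AmpleVan.isCoh_invertible (InvX.isInvertible_tensorPow hL.1 1)).1).2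
        fun x => isEmptyElim x)⟩⟩
  · obtain ⟨c, hc0, hc⟩ := hbex hX
    exact ⟨n, r, hrc, c, hr, hc0, hc⟩

end Groth.Agent.SimpsonEst

end
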