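import Groth.Agent.SimpsonEst.SubSheaf
import Groth.Agent.GrothLem.PureX
import Groth.Agent.HilbBound.HNChain

/-!
# The estimate of Le Potier and Simpson
-/

set_option autoImplicit false
set_option linter.style.haveILetI false
set_option linter.unusedSectionVars false
set_option backward.isDefEq.respectTransparency false
set_option backward.isDefEq.respectTransparency.types false
set_option maxHeartbeats 1000000

universe u

open CategoryTheory CategoryTheory.Limits AlgebraicGeometry TopologicalSpace Opposite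

noncomputable section

namespace Groth.Agent.SimpsonEst

open Groth.Agent Groth.Agent.RegEpi Groth.Agent.HilbBound Groth.Agent.PnCoh.Finite

theorem bn_le {d : ℕ} (hd : 1 ≤ d) (x : ℤ) {X : ℚ} (h : (x : ℚ) + d ≤ X) :
    (X ≤ 0 → bn d x = 0) ∧ (0 ≤ X → (bn d x : ℚ) ≤ X ^ d / (d.factorial : ℚ)) := by
  rcases lt_or_ge x 0 with hx | hx
  · rw [bn, if_pos hx]
    exact ⟨fun _ => rfl, fun h0 => by rw [Nat.cast_zero]; positivity⟩
  · rw [bn, if_neg (not_lt.2 hx)]
    have hc : (((x.toNat + d : ℕ)) : ℚ) ≤ X := by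
      rw [Nat.cast_add, ← Int.cast_natCast (R := ℚ) x.toNat, Int.toNat_of_nonneg hx]
      exact h
    refine ⟨fun h0 => absurd (hc.trans h0) (not_le.2 (Nat.cast_pos.2 (by omega))), fun _ => ?_⟩
    refine (Nat.choose_le_pow_div _ _).trans ?_
    gcongr

variable {k : Type u} [Field k] {n d : ℕ}

local notation "PP" => Proj (CohB1.polyGrading n k)
local notation "MOD" => Scheme.Modules (Proj (CohB1.polyGrading n k))

attribute [local instance 10000] HilbBound.projOver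

theorem chi_iso {M N : MOD} (e : M ≅ N) (t : ℤ) : chi (k := k) (n := n) M t = chi (k := k) (n := n) N t := by
  rw [chi_eq, chi_eq]
  exact CurveCohLib.euler_congr (k := k) ((twF (k := k) (n := n) t).mapIso e)

theorem chi_twF_poly {M : MOD} {P : Polynomial ℚ}
    (hP : ∀ t : ℤ, (chi (k := k) (n := n) M t : ℚ) = P.eval (t : ℚ)) (a t : ℤ) :
    (chi (k := k) (n := n) ((twF a).obj M) t : ℚ) = (P.comp (Polynomial.X + Polynomial.C (a : ℚ))).eval (t : ℚ) := by
  rw [chi_Tw, hP, Polynomial.eval_comp, Polynomial.eval_add, Polynomial.eval_X, Polynomial.eval_C,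
    Int.cast_add, add_comm]

theorem twF_cancel (M : MOD) {a b : ℤ} (h : a + b = 0) :
    Nonempty ((twF (k := k) (n := n) b).obj ((twF a).obj M) ≅ M) := by
  obtain ⟨e⟩ := twF_twF_iso (k := k) (n := n) M a b 0 h.symm
  obtain ⟨e'⟩ := twF_zero_iso (k := k) (n := n) M
  exact ⟨e ≪≫ e'⟩

theorem isPureDeg_twF {M : MOD} (h : GrothLem.IsPureDeg M d) (j : ℤ) :
    GrothLem.IsPureDeg ((twF (k := k) (n := n) j).obj M) d := fun x hx =>
  h x (AmpleNeg.isWeakAssPoint_of_tensor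
    (PnCoh.Finite.isInvertible_twist (ProjRegular.coords k n) ProjRegular.coords_mem ProjRegular.coords_cover j) hx)

theorem dimLT_twF {M : MOD} (h : HilbPoly.DimLT M d) (j : ℤ) :
    HilbPoly.DimLT ((twF (k := k) (n := n) j).obj M) d :=
  HilbPoly.dimLT_of_subset (HilbPoly.support_tensor_subset M (Twist.twist (CohB1.polyGrading n k) j)) h

/-- A pure sheaf of dimension `d` whose subsheaves have slopes at most `μ`. -/
structure PureBd (E : MOD) (d : ℕ) (μ : ℚ) : Prop where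
  coh : Coh.IsCoh E
  pure : GrothLem.IsPureDeg E d
  dim : HilbPoly.DimLT E (d + 1)
  slope : ∀ (G : MOD) (ι : G ⟶ E), Mono ι → Coh.IsCoh G → ¬ IsZero G →
    ∀ ψ : Polynomial ℚ, (∀ t : ℤ, (chi (k := k) (n := n) G t : ℚ) = ψ.eval (t : ℚ)) →
      StabCat.alpha (d - 1) ψ ≤ μ * StabCat.alpha d ψ

theorem natDegree_sub_le_dim {E G : MOD} (ι : G ⟶ E) [Mono ι] (hG : Coh.IsCoh G) (hd : HilbPoly.DimLT E (d + 1))
    {ψ : Polynomial ℚ} (hψ : ∀ t : ℤ, (chi (k := k) (n := n) G t : ℚ) = ψ.eval (t : ℚ)) : ψ.natDegree ≤ d :=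
  (GrothLem.natDegree_le_of_dim hG (HilbPoly.dimLT_of_subset (support_of_mono ι) hd) hψ).1

/-- The slopes of the subsheaves of a twist. -/
theorem PureBd.twist [NeZero d] {E : MOD} {μ : ℚ} (h : PureBd E d μ) (j : ℤ) :
    PureBd ((twF (k := k) (n := n) j).obj E) d (μ + j) := by
  obtain ⟨e, rfl⟩ : ∃ e, d = e + 1 := ⟨d - 1, (Nat.succ_pred (NeZero.ne d)).symm⟩
  refine ⟨isCoh_tw h.coh j, isPureDeg_twF h.pure j, dimLT_twF h.dim j, fun G ι hι hG hG0 ψ hψ => ?_⟩
  haveI := hι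
  have hψd := natDegree_sub_le_dim ι hG (dimLT_twF h.dim j) hψ
  obtain ⟨c⟩ := twF_cancel (k := k) (n := n) E (a := j) (b := -j) (by ring)
  have hne : ¬ IsZero ((twF (k := k) (n := n) (-j)).obj G) := fun hz => hG0 (by
    obtain ⟨c'⟩ := twF_cancel (k := k) (n := n) G (a := -j) (b := j) (by ring)
    exact ((twF (k := k) (n := n) j).map_isZero hz).of_iso c'.symm)
  have hs := h.slope _ ((twF (k := k) (n := n) (-j)).map ι ≫ c.hom) inferInstance (isCoh_tw hG _) hne _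
    (chi_twF_poly hψ (-j))
  obtain ⟨hα, hη⟩ := alpha_comp_add hψd ((-j : ℤ) : ℚ)
  simp only [Nat.add_sub_cancel] at hs ⊢
  rw [hα, hη] at hs
  push_cast at hs
  linarith

/-- Coordinates with controlled degrees. -/
theorem PureBd.exists_deg_le [Infinite k] [CharZero k] [NeZero d] {E : MOD} {μ : ℚ} (h : PureBd E d μ)
    {P : Polynomial ℚ} (hP : ∀ t : ℤ, (chi (k := k) (n := n) E t : ℚ) = P.eval (t : ℚ))
    {l : (CohB1.polyGrading n k) 1} {y : Fin d → (CohB1.polyGrading n k) 1} (S : Setup E l y) {r : ℕ}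
    {θ : Coords k d (Sect E l y) r} {z : Fin r → Sect E l y} (hθ : Function.Injective θ)
    (hz : ∀ α, θ (z α) = Pi.single α 1) (α : Fin r) :
    (-((S.filt.sys θ z hz).deg α) : ℚ) + ((d : ℚ) + 1) / 2 ≤ μ + r :=
  S.slope_le hθ hz hP (fun s G ι hι hG hG0 ψ hψ => (h.twist s).slope G ι hι hG hG0 ψ hψ) α

/-- The sections of a pure sheaf are bounded by the slopes of its subsheaves. -/
theorem PureBd.h0_le [Infinite k] [CharZero k] [NeZero d] {E : MOD} {μ : ℚ} (h : PureBd E d μ)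
    {P : Polynomial ℚ} (hP : ∀ t : ℤ, (chi (k := k) (n := n) E t : ℚ) = P.eval (t : ℚ)) {r : ℕ}
    (hr : StabCat.alpha d P = r) (j : ℤ) :
    (μ + j + ((r : ℚ) + d) ≤ 0 → h0 E j = 0) ∧
      (0 ≤ μ + j + ((r : ℚ) + d) →
        (h0 E j : ℚ) ≤ r * (μ + j + ((r : ℚ) + d)) ^ d / (d.factorial : ℚ)) := by
  have hd1 : 1 ≤ d := Nat.one_le_iff_ne_zero.2 (NeZero.ne d)
  have hM := h.twist j
  have hPM := chi_twF_poly hP j
  obtain ⟨l, y, S⟩ := exists_setup hM.coh hM.pure hM.dim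
  obtain ⟨r', θ, z, hθ, hz⟩ := S.exists_coords
  have hPd : (P.comp (Polynomial.X + Polynomial.C (j : ℚ))).natDegree ≤ d :=
    (GrothLem.natDegree_le_of_dim hM.coh hM.dim hPM).1
  obtain ⟨N₀, hN₀⟩ := S.exists_finrank_eq hPM
  have hr' : r' = r := by
    have h1 := (S.filt.alpha_eq hz hθ hPd hN₀).1
    obtain ⟨e, rfl⟩ : ∃ e, d = e + 1 := ⟨d - 1, (Nat.succ_pred (NeZero.ne d)).symm⟩
    rw [(alpha_comp_add (GrothLem.natDegree_le_of_dim h.coh h.dim hP).1 (j : ℚ)).1, hr] at h1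
    exact_mod_cast h1.symm
  subst hr'
  have hbound := S.filt.finrank_le hz hθ 0
  rw [S.finrank_G 0] at hbound
  have e0 : h0 ((twF (k := k) (n := n) j).obj E) ((0 : ℕ) : ℤ) = h0 E j := by
    obtain ⟨e⟩ := twF_twF_iso (k := k) (n := n) E j 0 j (by ring)
    exact dimH_congr (k := k) e 0
  rw [e0] at hbound
  have hdeg : ∀ α, (((0 : ℕ) : ℤ) - (S.filt.sys θ z hz).deg α : ℤ) + (d : ℚ) ≤ μ + j + ((r' : ℚ) + d) := fun α => by
    have h1 := hM.exists_deg_le hPM S hθ hz α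
    have h2 : (1 : ℚ) ≤ d := by exact_mod_cast hd1
    push_cast
    linarith
  constructor
  · intro h0'
    refine Nat.eq_zero_of_le_zero (hbound.trans (le_of_eq (Finset.sum_eq_zero fun α _ => ?_)))
    exact (bn_le hd1 _ (hdeg α)).1 h0'
  · intro h0'
    refine (Nat.cast_le.2 hbound).trans ?_
    rw [Nat.cast_sum, mul_div_assoc]
    refine (Finset.sum_le_sum fun α _ => (bn_le hd1 _ (hdeg α)).2 h0').trans ?_
    rw [Finset.sum_const, Finset.card_univ, Fintype.card_fin, nsmul_eq_mul]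

/-- Purity and slope bounds, from the statements on dimensions of supports. -/
theorem pureBd_of_dim {E : MOD} (hE : Coh.IsCoh E) {μ : ℚ}
    (hdim : topologicalKrullDim ↥(CohB1.support E) = (d : WithBot ℕ∞))
    (h : ∀ (G : MOD) (ι : G ⟶ E), Mono ι → Coh.IsCoh G → ¬ IsZero G →
      topologicalKrullDim ↥(CohB1.support G) = (d : WithBot ℕ∞) ∧
        ∀ ψ : Polynomial ℚ, (∀ t : ℤ, (chi (k := k) (n := n) G t : ℚ) = ψ.eval (t : ℚ)) →
          0 < StabCat.alpha d ψ → StabCat.alpha (d - 1) ψ / StabCat.alpha d ψ ≤ μ) :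
    PureBd E d μ := by
  haveI : IsNoetherian PP := Proj16.isNoetherian_proj _
  haveI : IsProper (CohB1.ProjSpace n k ↘ Spec (CommRingCat.of k)) := PnCoh.Chow.isProper_toSpec n k
  refine ⟨hE, fun x hx => GrothLem.deg_eq_of_isPure (PP ↘ Spec (CommRingCat.of k)) hE
      (fun G ι hι hG hG0 => (h G ι hι hG hG0).1) hx, ?_, fun G ι hι hG hG0 ψ hψ => ?_⟩
  · show topologicalKrullDim ↥(CohB1.support E) < ((d + 1 : ℕ) : WithBot ℕ∞)
    rw [hdim]
    exact_mod_cast Nat.lt_succ_self d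
  · obtain ⟨hdG, hs⟩ := h G ι hι hG hG0
    have hpos : 0 < StabCat.alpha d ψ := HilbPoly.alpha_pos (k := k) (X := CohB1.ProjSpace n k)
      (isAmple_O1 (k := k) (n := n)) hG hdG ((isHilbPoly_iff hG).2 hψ)
    exact (div_le_iff₀ hpos).1 (hs ψ hψ hpos)

end Groth.Agent.SimpsonEst

end
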