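import Groth.Agent.SimpsonEst.Compare

/-!
# Sections of twists of subsheaves of semistable sheaves, in every dimension
-/

set_option autoImplicit false
set_option linter.style.haveILetI false
set_option linter.unusedSectionVars false
set_option backward.isDefEq.respectTransparency false
set_option backward.isDefEq.respectTransparency.types false
set_option maxHeartbeats 1000000

universe u

open CategoryTheory CategoryTheory.Limits AlgebraicGeometry TopologicalSpace Opposite

noncomputable section

namespace Groth.Agent.SimpsonEst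

open Groth.Agent Groth.Agent.RegEpi Groth.Agent.HilbBound Groth.Agent.PnCoh.Finite

variable {k : Type u} [Field k] {n : ℕ}

local notation "MOD" => Scheme.Modules (Proj (CohB1.polyGrading n k))

attribute [local instance 10000] HilbBound.projOver

/-- For sheaves with finite support the sections of all twists are given by the Euler characteristic. -/
theorem h0_eq_chi_of_dimLT_one {M : MOD} (hM : Coh.IsCoh M) (hd : HilbPoly.DimLT M 1) (t : ℤ) :
    chi (k := k) (n := n) M t = (h0 M t : ℤ) := by
  rw [chi_eq]
  refine euler_eq_single fun q hq => ?_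
  have h := reg_of_dimLT_one hM hd (t + q) q hq
  rwa [show t + (q : ℤ) - (q : ℤ) = t by ring] at h

/-- A constant polynomial is its coefficient in degree zero. -/
theorem eval_eq_alpha_zero {p : Polynomial ℚ} (hp : p.natDegree ≤ 0) (x : ℚ) :
    p.eval x = StabCat.alpha 0 p := by
  rw [Polynomial.eq_C_of_natDegree_le_zero hp, Polynomial.eval_C, StabCat.alpha, Polynomial.coeff_C_zero,
    Nat.factorial_zero, Nat.cast_one, one_mul]

variable (k) in
/-- Sections of twists of subsheaves of semistable sheaves are bounded by the reduced polynomial. -/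
theorem exists_compare_all [IsAlgClosed k] [CharZero k] (n d : ℕ) (P : Polynomial ℚ) : ∃ N₀ : ℕ,
    ∀ E : Scheme.Modules (Proj (CohB1.polyGrading n k)), Semi E d P →
      ∀ (F : Scheme.Modules (Proj (CohB1.polyGrading n k))) (ι : F ⟶ E), Mono ι → Coh.IsCoh F → ¬ IsZero F →
        ∀ ψ : Polynomial ℚ, (∀ t : ℤ, (chi (k := k) (n := n) F t : ℚ) = ψ.eval (t : ℚ)) →
          ∀ N : ℕ, N₀ ≤ N →
            (h0 F (N : ℤ) : ℚ) / StabCat.alpha d ψ ≤ P.eval (N : ℚ) / StabCat.alpha d P ∧
              ((h0 F (N : ℤ) : ℚ) / StabCat.alpha d ψ = P.eval (N : ℚ) / StabCat.alpha d P →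
                StabCat.alpha d P • ψ = StabCat.alpha d ψ • P) := by
  rcases Nat.eq_zero_or_pos d with rfl | hd
  · refine ⟨0, fun E hE F ι hι hF hF0 ψ hψ N _ => ?_⟩
    haveI := hι
    have hP0 : P.natDegree ≤ 0 := (GrothLem.natDegree_le_of_dim hE.coh hE.dim hE.poly).1
    have hψ0 : ψ.natDegree ≤ 0 := natDegree_sub_le_dim ι hF hE.dim hψ
    have hpos := (hE.sub F ι hι hF hF0 ψ hψ).1
    have h1 : (h0 F (N : ℤ) : ℚ) = StabCat.alpha 0 ψ := by
      rw [← eval_eq_alpha_zero hψ0 ((N : ℤ) : ℚ), ← hψ,
        h0_eq_chi_of_dimLT_one hF (HilbPoly.dimLT_of_subset (support_of_mono ι) hE.dim), Int.cast_natCast]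
    rw [h1, eval_eq_alpha_zero hP0, div_self hpos.ne', div_self hE.pos.ne']
    refine ⟨le_rfl, fun _ => ?_⟩
    refine HilbPoly.poly_ext 0 fun m _ => ?_
    rw [Polynomial.eval_smul, Polynomial.eval_smul, eval_eq_alpha_zero hψ0, eval_eq_alpha_zero hP0, smul_eq_mul,
      smul_eq_mul, mul_comm]
  · exact exists_compare k n d hd P

end Groth.Agent.SimpsonEst
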