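import Groth.Agent.GrothLem.Vanish
import Groth.Agent.AmpleVan.Iter
import Groth.Agent.TwistFlat.Converse
import Groth.Agent.GammaStar.Ratio
import Groth.Agent.Bdd.Hyperplane

/-!
# Twisted sections as sections over the complement of a hyperplane
-/

set_option autoImplicit false
set_option linter.style.haveILetI false
set_option linter.unusedSectionVars false
set_option backward.isDefEq.respectTransparency false
set_option backward.isDefEq.respectTransparency.types false
set_option maxHeartbeats 1000000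

universe u

open CategoryTheory CategoryTheory.Limits AlgebraicGeometry TopologicalSpace Opposite

noncomputable section

namespace Groth.Agent.SimpsonEst

open Groth.Agent Groth.Agent.RegEpi Groth.Agent.HilbBound Groth.Agent.PnCoh.Finite

variable {k : Type u} [Field k] {n : ℕ}

local notation "PP" => Proj (CohB1.polyGrading n k)
local notation "MOD" => Scheme.Modules (Proj (CohB1.polyGrading n k))
local notation "Lin" => (CohB1.polyGrading n k) 1
local notation "OO" => Twist.twist (CohB1.polyGrading n k) 1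

attribute [local instance 10000] HilbBound.projOver

/-- The complement of the hyperplane of a linear form. -/
abbrev UL (l : Lin) : Scheme.Opens PP := Proj.basicOpen (CohB1.polyGrading n k) l.1

theorem isAffineOpen_UL (l : Lin) : IsAffineOpen (UL l) :=
  Proj.isAffineOpen_basicOpen _ _ l.2 one_pos

theorem isInvertible_O1 : PicF.IsInvertible (OO) :=
  isInvertible_twist (ProjRegular.coords k n) ProjRegular.coords_mem ProjRegular.coords_cover 1

/-- The `m`-fold twist. -/
abbrev itM (M : MOD) (m : ℕ) : MOD := (AmpleVan.itw (OO) m).obj M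

theorem isCoh_itM {M : MOD} (hM : Coh.IsCoh M) : ∀ m, Coh.IsCoh (itM M m)
  | 0 => hM
  | m + 1 => isCoh_tw (isCoh_itM hM m) 1

theorem itM_iso (M : MOD) : ∀ m : ℕ, Nonempty (itM M m ≅ (twF (k := k) (n := n) (m : ℤ)).obj M)
  | 0 => ⟨(twF_zero_iso (k := k) (n := n) M).some.symm⟩
  | m + 1 => by
    obtain ⟨e⟩ := itM_iso M m
    obtain ⟨e'⟩ := twF_twF_iso (k := k) (n := n) M (m : ℤ) 1 ((m + 1 : ℕ) : ℤ) (by push_cast; ring)
    exact ⟨(twF (k := k) (n := n) 1).mapIso e ≪≫ e'⟩

theorem dimH_itM (M : MOD) (m : ℕ) : dimH (k := k) (itM M m) 0 = h0 M (m : ℤ) :=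
  dimH_congr (k := k) (itM_iso M m).some 0

theorem isWeakAssPoint_itM {M : MOD} {x : PP} : ∀ {m : ℕ}, Curv2.IsWeakAssPoint (itM M m) x →
    Curv2.IsWeakAssPoint M x
  | 0, h => h
  | _ + 1, h => isWeakAssPoint_itM (AmpleNeg.isWeakAssPoint_of_tensor isInvertible_O1 h)

/-- The scalars over the complement. -/
def glU (l : Lin) : k →+* Γ(PP, UL l) :=
  ((Proj (CohB1.polyGrading n k)).presheaf.map (homOfLE (le_top : UL l ≤ ⊤)).op).hom.comp
    (Coh.toGlobal (PP ↘ Spec (CommRingCat.of k)))

/-- A linear form as a function on the complement. -/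
def coord (l : Lin) : Lin →+ Γ(PP, UL l) := GammaStar.ratHom l.2 1

theorem coord_spec (l a : Lin) :
    AModX.res (OO) (le_top : UL l ≤ ⊤) (GrothLem.lsec a) =
      coord l a • AModX.res (OO) (le_top : UL l ≤ ⊤) (GrothLem.lsec l) :=
  ProjUPX.sec_eq_smul (CohB1.polyGrading n k) a.2 l.2

theorem isFrame_lsec (l : Lin) : InvX.IsFrame (AModX.res (OO) (le_top : UL l ≤ ⊤) (GrothLem.lsec l)) :=
  ProjUPX.isFrame_sec (CohB1.polyGrading n k) l.2

theorem coord_self (l : Lin) : coord l l = 1 := GammaStar.rat_self l.2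

theorem coord_smul (l : Lin) (c : k) (a : Lin) : coord l (c • a) = glU l c * coord l a := by
  refine (isFrame_lsec l).coord_unique le_rfl ?_
  rw [AModX.res_self, ← coord_spec, mul_smul, ← coord_spec, GrothLem.lsec_smul, AModX.res_smul]
  rfl

/-- The functions on the complement are polynomials in the linear forms. -/
theorem coord_induction (l : Lin) {P : Γ(PP, UL l) → Prop} (hc : ∀ c, P (glU l c))
    (hcoord : ∀ a, P (coord l a)) (hadd : ∀ x y, P x → P y → P (x + y)) (hmul : ∀ x y, P x → P y → P (x * y))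
    (b : Γ(PP, UL l)) : P b := by
  have key : ∀ (j : ℕ) (a : MvPolynomial (Fin (n + 1)) k) (ha : a ∈ CohB1.polyGrading n k j),
      P (GammaStar.rat l.2 j ⟨a, ha⟩) := by
    intro j
    induction j with
    | zero =>
      intro a ha
      obtain ⟨c, rfl⟩ : ∃ c : k, MvPolynomial.C c = a :=
        ⟨_, (MvPolynomial.totalDegree_eq_zero_iff_eq_C.1 (Nat.le_zero.1
          ((MvPolynomial.mem_homogeneousSubmodule 0 a).1 ha).totalDegree_le)).symm⟩
      have h1 := GammaStar.rat_mul (𝒜 := CohB1.polyGrading n k) l.2 ⟨MvPolynomial.C c, ha⟩ (l : Lin)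
      rw [show GammaStar.rat l.2 1 l = 1 from GammaStar.rat_self l.2, mul_one] at h1
      rw [← h1]
      have h2 : coord l (c • l) = glU l c := by rw [coord_smul, coord_self, mul_one]
      have h3 : P (coord l (c • l)) := h2 ▸ hc c
      convert h3 using 2
      show _ = GammaStar.rat l.2 1 (c • l)
      congr 1
      exact Subtype.ext (by simp [MvPolynomial.smul_eq_C_mul])
    | succ j ih =>
      intro a ha
      have ha' : a ∈ CohB1.polyGrading n k j * CohB1.polyGrading n k 1 := by
        show a ∈ MvPolynomial.homogeneousSubmodule (Fin (n + 1)) k j * MvPolynomial.homogeneousSubmodule (Fin (n + 1)) k 1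
        rw [← MvPolynomial.homogeneousSubmodule_one_pow (σ := Fin (n + 1)) (R := k) (n := j), ← pow_succ, MvPolynomial.homogeneousSubmodule_one_pow]
        exact ha
      revert ha
      refine (?_ : ∀ ha : a ∈ CohB1.polyGrading n k (j + 1), P (GammaStar.rat l.2 (j + 1) ⟨a, ha⟩))
      induction ha' using Submodule.mul_induction_on' with
        | mem_mul_mem x hx y hy =>
          intro _
          exact (GammaStar.rat_mul (𝒜 := CohB1.polyGrading n k) l.2 ⟨x, hx⟩ ⟨y, hy⟩).symm ▸
            hmul _ _ (ih x hx) (hcoord ⟨y, hy⟩)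
        | add x hx y hy hx' hy' =>
          intro _
          have hx'' : x ∈ CohB1.polyGrading n k (j + 1) :=
            (Submodule.mul_le.2 fun p hp q hq => SetLike.mul_mem_graded hp hq) hx
          have hy'' : y ∈ CohB1.polyGrading n k (j + 1) :=
            (Submodule.mul_le.2 fun p hp q hq => SetLike.mul_mem_graded hp hq) hy
          have e := map_add (GammaStar.ratHom l.2 (j + 1)) ⟨x, hx''⟩ ⟨y, hy''⟩
          show P (GammaStar.ratHom l.2 (j + 1) (⟨x, hx''⟩ + ⟨y, hy''⟩))
          rw [e]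
          exact hadd _ _ (hx' hx'') (hy' hy'')
  obtain ⟨z, rfl⟩ :=
    (Proj.basicOpenIsoAway (CohB1.polyGrading n k) l.1 l.2 one_pos).commRingCatIsoToRingEquiv.surjective b
  obtain ⟨j, a, ha, rfl⟩ := HomogeneousLocalization.Away.mk_surjective (CohB1.polyGrading n k) l.2 z
  exact key j a (by simpa using ha)

/-- Multiplication by the powers of a linear form, over the complement. -/
def frameMul (l : Lin) (M : MOD) (m : ℕ) : Γ(M, UL l) →+ Γ(itM M m, UL l) :=
  ((((AmpleVan.pw (GrothLem.lsec l) m).app M).app (UL l))).hom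

theorem frameMul_smul (l : Lin) (M : MOD) (m : ℕ) (g : Γ(PP, UL l)) (t : Γ(M, UL l)) :
    frameMul l M m (g • t) = g • frameMul l M m t :=
  Scheme.Modules.Hom.app_smul ((AmpleVan.pw (GrothLem.lsec l) m).app M) (U := UL l) g t

theorem frameMul_succ (l : Lin) (M : MOD) (m : ℕ) (t : Γ(M, UL l)) :
    frameMul l M (m + 1) t =
      InvX.tmul (frameMul l M m t) (AModX.res (OO) (le_top : UL l ≤ ⊤) (GrothLem.lsec l)) := rfl

theorem bijective_frameMul (l : Lin) {M : MOD} (hM : Coh.IsCoh M) : ∀ m, Function.Bijective (frameMul l M m)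
  | 0 => Function.bijective_id
  | m + 1 =>
    ((TwistFlat.bijective_tmul_frame (isCoh_itM hM m).1 (ProjUPX.isQCoh_of_isInvertible isInvertible_O1)
      (isAffineOpen_UL l) (isFrame_lsec l)).comp (bijective_frameMul l hM m) :)

/-- A twisted section as a section over the complement. -/
def secU (l : Lin) {M : MOD} (hM : Coh.IsCoh M) (m : ℕ) : Γ(itM M m, ⊤) →+ Γ(M, UL l) :=
  (AddEquiv.ofBijective (frameMul l M m) (bijective_frameMul l hM m)).symm.toAddMonoidHom.comp
    (((itM M m).presheaf.map (homOfLE (le_top : UL l ≤ ⊤)).op).hom)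

theorem frameMul_secU (l : Lin) {M : MOD} (hM : Coh.IsCoh M) (m : ℕ) (x : Γ(itM M m, ⊤)) :
    frameMul l M m (secU l hM m x) = AModX.res (itM M m) (le_top : UL l ≤ ⊤) x :=
  AddEquiv.apply_symm_apply (AddEquiv.ofBijective (frameMul l M m) (bijective_frameMul l hM m)) _

/-- The scalars. -/
abbrev gl : k →+* Γ(PP, ⊤) := Coh.toGlobal (PP ↘ Spec (CommRingCat.of k))

theorem secU_smul (l : Lin) {M : MOD} (hM : Coh.IsCoh M) (m : ℕ) (c : k) (x : Γ(itM M m, ⊤)) :
    secU l hM m ((gl c : Γ(PP, ⊤)) • x) = glU l c • secU l hM m x := by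
  refine (bijective_frameMul l hM m).1 ?_
  rw [frameMul_smul, frameMul_secU, frameMul_secU, AModX.res_smul]
  rfl

/-- Multiplication by a linear form. -/
def mulA (M : MOD) (m : ℕ) (a : Lin) (x : Γ(itM M m, ⊤)) : Γ(itM M (m + 1), ⊤) :=
  InvX.tmul x (GrothLem.lsec a)

theorem secU_mulA (l : Lin) {M : MOD} (hM : Coh.IsCoh M) (m : ℕ) (a : Lin) (x : Γ(itM M m, ⊤)) :
    secU l hM (m + 1) (mulA M m a x) = coord l a • secU l hM m x := by
  refine (bijective_frameMul l hM (m + 1)).1 ?_
  rw [frameMul_smul, frameMul_secU, frameMul_succ, frameMul_secU]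
  show AModX.res _ _ (InvX.tmul _ _) = _
  rw [InvX.res_tmul, coord_spec l a, InvX.tmul_smul_right]

theorem secU_injective (l : Lin) {M : MOD} (hM : Coh.IsCoh M)
    (hass : ∀ x, Curv2.IsWeakAssPoint M x → x ∈ UL l) (m : ℕ) : Function.Injective (secU l hM m) := by
  refine (injective_iff_map_eq_zero _).2 fun x hx => ?_
  refine AssPtX.eq_zero_of_germ (isCoh_itM hM m).1 _ fun y _ hy => ?_
  have hyU := hass y (isWeakAssPoint_itM hy)
  have h1 := frameMul_secU l hM m x
  rw [hx, map_zero] at h1
  rw [← InvX.germ_res' (le_top : UL l ≤ ⊤) hyU, ← h1, map_zero]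

theorem exists_secU_eq (l : Lin) {M : MOD} (hM : Coh.IsCoh M) (t : Γ(M, UL l)) :
    ∃ (m : ℕ) (x : Γ(itM M m, ⊤)), secU l hM m x = t := by
  haveI : IsNoetherian PP := Proj16.isNoetherian_proj _
  have hgen : CohB1.genLocus (OO) (InvX.ofSect (GrothLem.lsec l)) = UL l :=
    AmpleX.genLocus_sec (CohB1.polyGrading n k) (ProjRegular.coords k n) ProjRegular.coords_mem
      ProjRegular.coords_cover l.2
  have key : ∀ (W : Scheme.Opens PP), W = CohB1.genLocus (OO) (InvX.ofSect (GrothLem.lsec l)) → ∀ t : Γ(M, W),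
      ∃ (m : ℕ) (T : Γ(itM M m, ⊤)), AModX.res (itM M m) (le_top : W ≤ ⊤) T =
        ((AmpleVan.pw (GrothLem.lsec l) m).app M).app W t := by
    rintro W rfl t
    have h := AmpleVan.exists_extend hM.1 isInvertible_O1 (InvX.ofSect (GrothLem.lsec l)) t
    rwa [InvX.one_ofSect] at h
  obtain ⟨m, T, hT⟩ := key (UL l) hgen.symm t
  refine ⟨m, T, (bijective_frameMul l hM m).1 ?_⟩
  rw [frameMul_secU]
  exact hT

/-- Twisted sections are natural in the module. -/
theorem secU_natural (l : Lin) {M N : MOD} (hM : Coh.IsCoh M) (hN : Coh.IsCoh N) (φ : M ⟶ N) (m : ℕ)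
    (x : Γ(itM M m, ⊤)) :
    φ.app (UL l) (secU l hM m x) = secU l hN m (((AmpleVan.itw (OO) m).map φ).app ⊤ x) := by
  refine (bijective_frameMul l hN m).1 ?_
  have h1 : frameMul l N m (φ.app (UL l) (secU l hM m x)) =
      ((AmpleVan.itw (OO) m).map φ).app (UL l) (frameMul l M m (secU l hM m x)) :=
    congr(($((AmpleVan.pw (GrothLem.lsec l) m).naturality φ)).app (UL l) (secU l hM m x))
  rw [h1, frameMul_secU, frameMul_secU]
  exact AModX.app_res _ _ _

end Groth.Agent.SimpsonEst

end
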