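import Groth.Agent.SimpsonEst.Family
import Groth.Agent.HilbPoly.Sat

/-!
# Sections of twists of subsheaves of semistable sheaves
-/

set_option autoImplicit false
set_option linter.style.haveILetI false
set_option linter.unusedSectionVars false
set_option backward.isDefEq.respectTransparency false
set_option backward.isDefEq.respectTransparency.types false
set_option maxHeartbeats 1000000

universe u

open CategoryTheory CategoryTheory.Limits AlgebraicGeometry TopologicalSpace Opposite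

noncomputable section

namespace Groth.Agent.SimpsonEst

open Groth.Agent Groth.Agent.RegEpi Groth.Agent.HilbBound Groth.Agent.PnCoh.Finite

/-- The bound for a subsheaf of rank `j` with one small slope. -/
def cmpPoly (d : ℕ) (X Y : ℤ) (j : ℕ) : Polynomial ℚ :=
  Polynomial.C ((j : ℚ) - 1) * binPoly d (X : ℚ) + binPoly d (Y : ℚ)

theorem eval_cmpPoly (d : ℕ) (X Y : ℤ) {j : ℕ} {N : ℤ} (hX : -X ≤ N) (hY : -Y ≤ N) :
    (cmpPoly d X Y j).eval (N : ℚ) = ((j : ℚ) - 1) * (bn d (N + X) : ℚ) + (bn d (N + Y) : ℚ) := by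
  have h1 := eval_binPoly d N (-X) hX
  have h2 := eval_binPoly d N (-Y) hY
  simp only [Int.cast_neg, neg_neg, sub_neg_eq_add] at h1 h2
  rw [cmpPoly, Polynomial.eval_add, Polynomial.eval_mul, Polynomial.eval_C, h1, h2]

theorem cmpPoly_lt {d : ℕ} (hd : 1 ≤ d) {X Y : ℤ} {j : ℕ} (hj : 1 ≤ j) {P : Polynomial ℚ} (hP : P.natDegree ≤ d)
    (hpos : 0 < StabCat.alpha d P)
    (hY : ((j : ℚ) - 1) * (X + ((d : ℚ) + 1) / 2) + (Y + ((d : ℚ) + 1) / 2) < j * StabCat.hatSlope d P) :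
    ∃ N₀ : ℕ, ∀ N : ℕ, N₀ ≤ N →
      (cmpPoly d X Y j).eval (N : ℚ) < (j : ℚ) * P.eval (N : ℚ) / StabCat.alpha d P := by
  let R : Polynomial ℚ := Polynomial.C ((j : ℚ) / StabCat.alpha d P) * P - cmpPoly d X Y j
  have hRd : R.natDegree ≤ d := by
    refine (Polynomial.natDegree_sub_le _ _).trans (max_le ((Polynomial.natDegree_C_mul_le _ _).trans hP) ?_)
    exact (Polynomial.natDegree_add_le _ _).trans
      (max_le ((Polynomial.natDegree_C_mul_le _ _).trans (natDegree_binPoly_le _ _)) (natDegree_binPoly_le _ _))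
  have hcoef : ∀ i, StabCat.alpha i R = (j : ℚ) / StabCat.alpha d P * StabCat.alpha i P -
      (((j : ℚ) - 1) * StabCat.alpha i (binPoly d (X : ℚ)) + StabCat.alpha i (binPoly d (Y : ℚ))) := fun i => by
    simp only [R, cmpPoly, StabCat.alpha, Polynomial.coeff_sub, Polynomial.coeff_add, Polynomial.coeff_C_mul]
    ring
  have hd0 : R.coeff d = 0 := by
    have h := hcoef d
    rw [alpha_binPoly, alpha_binPoly, div_mul_cancel₀ _ hpos.ne'] at h
    simp only [mul_one, sub_add_cancel, sub_self, StabCat.alpha] at h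
    exact (mul_eq_zero.1 h).resolve_left (Nat.cast_ne_zero.2 (Nat.factorial_ne_zero d))
  have hd1 : 0 < R.coeff (d - 1) := by
    have h := hcoef (d - 1)
    rw [alpha_pred_binPoly hd, alpha_pred_binPoly hd] at h
    have h' : 0 < StabCat.alpha (d - 1) R := by
      rw [h, div_mul_eq_mul_div, mul_div_assoc, ← StabCat.hatSlope]
      linarith
    exact (pos_iff_pos_of_mul_pos h').1 (Nat.cast_pos.2 (Nat.factorial_pos _))
  have hRd' : R.natDegree ≤ d - 1 := Polynomial.natDegree_le_iff_coeff_eq_zero.2 fun i hi => by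
    rcases (show d ≤ i by omega).lt_or_eq with h' | h'
    · exact Polynomial.coeff_eq_zero_of_natDegree_lt (by omega)
    · rw [← h', hd0]
  obtain ⟨N₀, hN₀⟩ := HilbPoly.eventually_pos hRd' hd1
  refine ⟨N₀, fun N hN => ?_⟩
  have := hN₀ N hN
  simp only [R, Polynomial.eval_sub, Polynomial.eval_mul, Polynomial.eval_C] at this
  rw [mul_div_right_comm]
  linarith

theorem exists_no_root (D : Polynomial ℚ) : ∃ N₀ : ℕ, ∀ N : ℕ, N₀ ≤ N → D.eval (N : ℚ) = 0 → D = 0 := by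
  by_cases hD : D = 0
  · exact ⟨0, fun N _ _ => hD⟩
  · have hf : {N : ℕ | D.eval (N : ℚ) = 0}.Finite :=
      (Polynomial.finite_setOfPred_isRoot hD).preimage (Nat.cast_injective.injOn)
    obtain ⟨B, hB⟩ := hf.bddAbove
    exact ⟨B + 1, fun N hN h => absurd (hB h) (by omega)⟩

section Sections

variable {k : Type u} [Field k] {X : Scheme.{u}} [X.Over (Spec (CommRingCat.of k))]

/-- A subsheaf of a globally generated sheaf with all its sections is everything. -/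
theorem isIso_of_sections {F G : X.Modules} (φ : F ⟶ G) [Mono φ] (hfF : Module.Finite k (Coh.HH X F 0))
    (hfG : Module.Finite k (Coh.HH X G 0))
    (hle : Module.finrank k (Coh.HH X G 0) ≤ Module.finrank k (Coh.HH X F 0))
    (hgg : Curv2.IsGloballyGenerated G) : IsIso φ := by
  haveI := hfF
  haveI := hfG
  have hinj : Function.Injective (mapLin k φ 0) := fun a b hab =>
    (GrothLem.eGl F).injective (ZClosLib.app_injective_of_mono φ ⊤
      ((eGl_mapLin φ a).symm.trans ((congrArg (GrothLem.eGl G) hab).trans (eGl_mapLin φ b))))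
  have hsurj : Function.Surjective (mapLin k φ 0) :=
    (LinearMap.injective_iff_surjective_of_finrank_eq_finrank
      (le_antisymm (LinearMap.finrank_le_finrank_of_injective hinj) hle)).1 hinj
  obtain ⟨ι, p, hp⟩ := hgg
  have hlift : ∀ i : ι, ∃ w : Coh.structureModule X ⟶ F,
      w ≫ φ = (SheafOfModules.ιFree i : Coh.structureModule X ⟶ _) ≫ p := fun i => by
    obtain ⟨a, ha⟩ := hsurj ((GrothLem.eGl G : Coh.HH X G 0 ≃+ Γ(G, ⊤)).symm
      (InvX.one ((SheafOfModules.ιFree i : Coh.structureModule X ⟶ _) ≫ p)))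
    refine ⟨InvX.ofSect ((GrothLem.eGl F : Coh.HH X F 0 ≃+ Γ(F, ⊤)) a), Bdd.hom_ext_of_one ?_⟩
    rw [Bdd.one_comp, InvX.one_ofSect, ← eGl_mapLin (A := k), ha, AddEquiv.apply_symm_apply]
  choose w hw using hlift
  haveI := hp
  have hu : Cofan.IsColimit.desc (SheafOfModules.isColimitFreeCofan ι) w ≫ φ = p :=
    Cofan.IsColimit.hom_ext (SheafOfModules.isColimitFreeCofan ι) _ _ fun i => by
      rw [← Category.assoc]
      exact (congrArg (· ≫ φ) (Cofan.IsColimit.fac (SheafOfModules.isColimitFreeCofan ι) w i)).trans (hw i)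
  haveI : Epi φ := epi_of_epi_fac hu
  exact isIso_of_mono_of_epi _

end Sections

variable {k : Type u} [Field k] {n d : ℕ}

local notation "PP" => Proj (CohB1.polyGrading n k)
local notation "MOD" => Scheme.Modules (Proj (CohB1.polyGrading n k))

attribute [local instance 10000] HilbBound.projOver

/-- A pure sheaf, semistable with respect to a polynomial of its dimension. -/
structure Semi (E : MOD) (d : ℕ) (P : Polynomial ℚ) : Prop where
  coh : Coh.IsCoh E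
  pure : GrothLem.IsPureDeg E d
  dim : HilbPoly.DimLT E (d + 1)
  poly : ∀ t : ℤ, (chi (k := k) (n := n) E t : ℚ) = P.eval (t : ℚ)
  pos : 0 < StabCat.alpha d P
  sub : ∀ (G : MOD) (ι : G ⟶ E), Mono ι → Coh.IsCoh G → ¬ IsZero G →
    ∀ ψ : Polynomial ℚ, (∀ t : ℤ, (chi (k := k) (n := n) G t : ℚ) = ψ.eval (t : ℚ)) →
      0 < StabCat.alpha d ψ ∧
        ∃ N : ℕ, ∀ m : ℕ, N ≤ m → StabCat.alpha d P * ψ.eval (m : ℚ) ≤ StabCat.alpha d ψ * P.eval (m : ℚ)

theorem Semi.pureBd {E : MOD} {P : Polynomial ℚ} (h : Semi E d P) : PureBd E d (StabCat.hatSlope d P) := by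
  refine ⟨h.coh, h.pure, h.dim, fun G ι hι hG hG0 ψ hψ => ?_⟩
  haveI := hι
  obtain ⟨hpos, hN⟩ := h.sub G ι hι hG hG0 ψ hψ
  exact slope_le_of_cross_le hpos h.pos (natDegree_sub_le_dim ι hG h.dim hψ)
    (GrothLem.natDegree_le_of_dim h.coh h.dim h.poly).1 hN

theorem PureBd.of_mono {E F : MOD} {μ : ℚ} (h : PureBd E d μ) (ι : F ⟶ E) [Mono ι] (hF : Coh.IsCoh F) :
    PureBd F d μ := by
  haveI : IsNoetherian PP := Proj16.isNoetherian_proj _
  refine ⟨hF, fun x hx => h.pure x ((AssPtX.of_shortExact (ShortComplex.mk ι (cokernel.π ι) (cokernel.condition ι))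
    (.mk' (ShortComplex.exact_of_g_is_cokernel _ (cokernelIsCokernel ι)) inferInstance inferInstance)
    hF.1 h.coh.1 (QCoh.isCoh_cokernel hF.1 h.coh ι).1 x).2 hx), HilbPoly.dimLT_of_subset (support_of_mono ι) h.dim,
    fun G κ hκ hG hG0 ψ hψ => ?_⟩
  haveI := hκ
  exact h.slope G (κ ≫ ι) (mono_comp _ _) hG hG0 ψ hψ

/-- A small slope forces few sections. -/
theorem PureBd.h0_le_cmp [Infinite k] [CharZero k] [NeZero d] {F : MOD} {μ : ℚ} (h : PureBd F d μ)
    {ψ : Polynomial ℚ} (hψ : ∀ t : ℤ, (chi (k := k) (n := n) F t : ℚ) = ψ.eval (t : ℚ))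
    (hpos : 0 < StabCat.alpha d ψ) {r : ℚ} (hr : StabCat.alpha d ψ ≤ r) {Y : ℤ}
    (hY : StabCat.alpha (d - 1) ψ ≤ ((Y : ℚ) + ((d : ℚ) + 1) / 2) * StabCat.alpha d ψ) {N : ℕ}
    (hNX : -⌈μ + r⌉ ≤ (N : ℤ)) (hNY : -Y ≤ (N : ℤ)) :
    ∃ j : ℕ, 1 ≤ j ∧ StabCat.alpha d ψ = j ∧ (h0 F (N : ℤ) : ℚ) ≤ (cmpPoly d ⌈μ + r⌉ Y j).eval (N : ℚ) := by
  obtain ⟨l, y, S⟩ := exists_setup h.coh h.pure h.dim
  obtain ⟨j, θ, z, hθ, hz⟩ := S.exists_coords
  obtain ⟨N₀, hN₀⟩ := S.exists_finrank_eq hψ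
  obtain ⟨hα, hη⟩ := S.filt.alpha_eq hz hθ (GrothLem.natDegree_le_of_dim h.coh h.dim hψ).1 hN₀
  rw [hα] at hr hY hpos
  have hj : 1 ≤ j := Nat.cast_pos.1 hpos
  refine ⟨j, hj, hα, ?_⟩
  obtain ⟨α₀, hα₀⟩ : ∃ α₀, (S.filt.sys θ z hz).slope α₀ ≤ (Y : ℚ) + ((d : ℚ) + 1) / 2 := by
    by_contra! hc
    have h1 : ∑ _α : Fin j, ((Y : ℚ) + ((d : ℚ) + 1) / 2) < ∑ α, (S.filt.sys θ z hz).slope α :=
      Finset.sum_lt_sum_of_nonempty (Finset.univ_nonempty_iff.2 ⟨⟨0, hj⟩⟩) fun α _ => hc α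
    rw [Finset.sum_const, Finset.card_univ, Fintype.card_fin, nsmul_eq_mul] at h1
    linarith
  have hX : ∀ α, -(S.filt.sys θ z hz).deg α ≤ ⌈μ + r⌉ := fun α => by
    have h1 := h.exists_deg_le hψ S hθ hz α
    have h2 := Int.le_ceil (μ + r)
    have h3 : ((-(S.filt.sys θ z hz).deg α : ℤ) : ℚ) ≤ ((⌈μ + r⌉ : ℤ) : ℚ) := by
      push_cast
      have : (0 : ℚ) ≤ ((d : ℚ) + 1) / 2 := by positivity
      linarith
    exact_mod_cast h3
  have hY₀ : -(S.filt.sys θ z hz).deg α₀ ≤ Y := by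
    have h3 : ((-(S.filt.sys θ z hz).deg α₀ : ℤ) : ℚ) ≤ ((Y : ℤ) : ℚ) := by
      simp only [Sys.slope] at hα₀
      push_cast
      linarith
    exact_mod_cast h3
  have hle := S.filt.finrank_le hz hθ N
  rw [S.finrank_G N, ← Finset.add_sum_erase _ _ (Finset.mem_univ α₀)] at hle
  have h2 : ∀ α ∈ Finset.univ.erase α₀,
      bn d ((N : ℤ) - (S.filt.sys θ z hz).deg α) ≤ bn d ((N : ℤ) + ⌈μ + r⌉) :=
    fun α _ => bn_mono d (by have := hX α; omega)
  have h3 : h0 F (N : ℤ) ≤ bn d ((N : ℤ) + Y) + (j - 1) * bn d ((N : ℤ) + ⌈μ + r⌉) := by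
    refine hle.trans (add_le_add (bn_mono d (by omega)) ((Finset.sum_le_sum h2).trans (le_of_eq ?_)))
    simp
  rw [← Int.cast_natCast (R := ℚ) N, eval_cmpPoly d _ _ hNX hNY]
  have h4 := (Nat.cast_le (α := ℚ)).2 h3
  push_cast [Nat.cast_sub hj] at h4
  linarith

/-- Equal sections of a regular sheaf force equality. -/
theorem isIso_of_h0_eq {F G : MOD} (φ : F ⟶ G) [Mono φ] (hF : Coh.IsCoh F) (hG : Coh.IsCoh G) {R N : ℤ}
    (hR : Bdd.Reg G R) (hN : R ≤ N) (h : h0 G N ≤ h0 F N) : IsIso φ := by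
  have hGN := isCoh_tw hG N
  haveI hm : Mono ((twF (k := k) (n := n) N).map φ) := inferInstance
  haveI : IsIso ((twF (k := k) (n := n) N).map φ) :=
    isIso_of_sections (k := k) ((twF (k := k) (n := n) N).map φ)
      (projSpace_finite_HH n k _ (isCoh_tw hF N) 0) (projSpace_finite_HH n k _ hGN 0) h
      (ProjRegular.isGloballyGenerated (ProjRegular.coords_mem (k := k) (n := n)) ProjRegular.coords_cover
        ProjRegular.coords_noetherian (good_of_isCoh ProjRegular.coords_mem hGN) (fun q hq => by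
          obtain ⟨e⟩ := twF_twF_iso (k := k) (n := n) G N (-(q : ℤ)) (N - q) (by ring)
          exact QCoh.subsingleton_HH_of_iso e.symm q (hR.mono hG hN q hq)))
  haveI : (twF (k := k) (n := n) N).IsEquivalence := AmpleVan.isEquivalence_tw
    (PnCoh.Finite.isInvertible_twist (ProjRegular.coords k n) ProjRegular.coords_mem ProjRegular.coords_cover N)
  exact isIso_of_reflects_iso φ (twF (k := k) (n := n) N)

variable (k) in
/-- Sections of twists of subsheaves of semistable sheaves are bounded by the reduced polynomial. -/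
theorem exists_compare [IsAlgClosed k] [CharZero k] (n d : ℕ) (hd : 1 ≤ d) (P : Polynomial ℚ) : ∃ N₀ : ℕ,
    ∀ E : Scheme.Modules (Proj (CohB1.polyGrading n k)), Semi E d P →
      ∀ (F : Scheme.Modules (Proj (CohB1.polyGrading n k))) (ι : F ⟶ E), Mono ι → Coh.IsCoh F → ¬ IsZero F →
        ∀ ψ : Polynomial ℚ, (∀ t : ℤ, (chi (k := k) (n := n) F t : ℚ) = ψ.eval (t : ℚ)) →
          ∀ N : ℕ, N₀ ≤ N →
            (h0 F (N : ℤ) : ℚ) / StabCat.alpha d ψ ≤ P.eval (N : ℚ) / StabCat.alpha d P ∧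
              ((h0 F (N : ℤ) : ℚ) / StabCat.alpha d ψ = P.eval (N : ℚ) / StabCat.alpha d P →
                StabCat.alpha d P • ψ = StabCat.alpha d ψ • P) := by
  classical
  by_cases hpos : 0 < StabCat.alpha d P
  swap
  · exact ⟨0, fun E hE => absurd hE.pos hpos⟩
  by_cases hdegP : P.natDegree ≤ d
  swap
  · exact ⟨0, fun E hE => absurd (GrothLem.natDegree_le_of_dim hE.coh hE.dim hE.poly).1 hdegP⟩
  haveI : NeZero d := ⟨by omega⟩
  haveI : IsProper (CohB1.ProjSpace n k ↘ Spec (CommRingCat.of k)) := PnCoh.Chow.isProper_toSpec n k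
  let μ := StabCat.hatSlope d P
  let r := StabCat.alpha d P
  let X : ℤ := ⌈μ + r⌉
  let Y : ℤ := -⌈r * (|μ| + |(X : ℚ)| + ((d : ℚ) + 1) / 2)⌉ - d - 1
  let T : ℚ := (Y : ℚ) + ((d : ℚ) + 1) / 2
  have hYlt : ∀ j : ℕ, 1 ≤ j → (j : ℚ) ≤ r →
      ((j : ℚ) - 1) * (X + ((d : ℚ) + 1) / 2) + (Y + ((d : ℚ) + 1) / 2) < j * μ := by
    intro j hj hjr
    have hj' : (1 : ℚ) ≤ j := by exact_mod_cast hj
    have h1 : (Y : ℚ) ≤ -(r * (|μ| + |(X : ℚ)| + ((d : ℚ) + 1) / 2)) - d - 1 := by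
      have := Int.le_ceil (r * (|μ| + |(X : ℚ)| + ((d : ℚ) + 1) / 2))
      simp only [Y]
      push_cast
      linarith
    have h2 : ((j : ℚ) - 1) * (X + ((d : ℚ) + 1) / 2) ≤ r * (|(X : ℚ)| + ((d : ℚ) + 1) / 2) := by
      refine (mul_le_mul_of_nonneg_left (by linarith [le_abs_self (X : ℚ)]) (by linarith)).trans
        (mul_le_mul_of_nonneg_right (by linarith) ?_)
      positivity
    have h3 : -(r * |μ|) ≤ (j : ℚ) * μ := by
      have := mul_le_mul_of_nonneg_left (neg_abs_le μ) (show (0 : ℚ) ≤ j by linarith)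
      have := mul_le_mul_of_nonneg_right hjr (abs_nonneg μ)
      linarith
    have h4 : (0 : ℚ) ≤ d := Nat.cast_nonneg d
    linarith
  have hev : ∀ j : ℕ, ∃ N₁ : ℕ, 1 ≤ j → (j : ℚ) ≤ r → ∀ N : ℕ, N₁ ≤ N →
      (cmpPoly d X Y j).eval (N : ℚ) < (j : ℚ) * P.eval (N : ℚ) / r := fun j => by
    by_cases hj : 1 ≤ j ∧ (j : ℚ) ≤ r
    · obtain ⟨N₁, hN₁⟩ := cmpPoly_lt hd hj.1 hdegP hpos (hYlt j hj.1 hj.2)
      exact ⟨N₁, fun _ _ => hN₁⟩
    · exact ⟨0, fun h h' => absurd ⟨h, h'⟩ hj⟩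
  choose N₁ hN₁ using hev
  obtain ⟨R, hR⟩ := exists_reg_pureBd k n d P μ
  obtain ⟨Ps, hPs, hfin⟩ := GrothLem.exists_finite_polys.{u} n R (fun j => ⌊P.eval ((R + j : ℤ) : ℚ)⌋.toNat) d
    ⌈r⌉.toNat ⌈|StabCat.alpha (d - 1) P| + |T| * r⌉.toNat
  let S : Finset (Polynomial ℚ) := hPs.toFinset.image (fun p => P - p)
  choose R' hR' using fun p : Polynomial ℚ => exists_reg_pureBd k n d p μ
  have hle : ∀ p : Polynomial ℚ, ∃ N₂ : ℕ,
      (∃ M : ℕ, ∀ m : ℕ, M ≤ m → r * p.eval (m : ℚ) ≤ StabCat.alpha d p * P.eval (m : ℚ)) →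
      ∀ N : ℕ, N₂ ≤ N → r * p.eval (N : ℚ) ≤ StabCat.alpha d p * P.eval (N : ℚ) ∧
        (r * p.eval (N : ℚ) = StabCat.alpha d p * P.eval (N : ℚ) → r • p = StabCat.alpha d p • P) := fun p => by
    by_cases hp : ∃ M : ℕ, ∀ m : ℕ, M ≤ m → r * p.eval (m : ℚ) ≤ StabCat.alpha d p * P.eval (m : ℚ)
    · obtain ⟨M, hM⟩ := hp
      obtain ⟨M', hM'⟩ := exists_no_root (r • p - StabCat.alpha d p • P)
      refine ⟨max M M', fun _ N hN => ⟨hM N (le_of_max_le_left hN), fun he => ?_⟩⟩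
      refine sub_eq_zero.1 (hM' N (le_of_max_le_right hN) ?_)
      rw [Polynomial.eval_sub, Polynomial.eval_smul, Polynomial.eval_smul, smul_eq_mul, smul_eq_mul, he, sub_self]
    · exact ⟨0, fun h => absurd h hp⟩
  choose N₂ hN₂ using hle
  refine ⟨((Finset.range (⌈r⌉.toNat + 1)).sup N₁) + (S.sup N₂) + (S.sup fun p => (R' p).toNat) + (-X).toNat +
    (-Y).toNat, fun E hE F ι hι hF hF0 ψ hψ N hN => ?_⟩
  haveI := hι
  haveI : IsNoetherian (Proj (CohB1.polyGrading n k)) := Proj16.isNoetherian_proj _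
  have hB := hE.pureBd
  have hFB := hB.of_mono ι hF
  obtain ⟨hψpos, -⟩ := hE.sub F ι hι hF hF0 ψ hψ
  have hPd := hdegP
  have hEd : topologicalKrullDim ↥(CohB1.support E) ≤ (d : WithBot ℕ∞) := HilbPoly.le_of_lt_succ hE.dim
  have hL := isAmple_O1 (k := k) (n := n)
  obtain ⟨F', ι', l, hι', hl, hF', hQp, hsat⟩ := HilbPoly.exists_saturation (k := k) (X := CohB1.ProjSpace n k) hL
    hE.coh hEd ι hF ((isHilbPoly_iff hF).2 hψ)
  haveI := hι'
  obtain ⟨ψ', hψ'⟩ := exists_chi_poly hF'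
  obtain ⟨hαe, hple, hiso⟩ := hsat ψ' ((isHilbPoly_iff hF').2 hψ')
  obtain ⟨hQc, hQd, hpQ⟩ := HilbPoly.cokernel_data (k := k) hL hF' hE.coh hEd ι'
    ((isHilbPoly_iff hF').2 hψ') ((isHilbPoly_iff hE.coh).2 hE.poly)
  have hrle : StabCat.alpha d ψ ≤ r := by
    have h1 := HilbPoly.alpha_nonneg (k := k) hL hQc hQd hpQ
    rw [alpha_sub, hαe] at h1
    show _ ≤ StabCat.alpha d P
    linarith
  rcases le_or_gt (StabCat.alpha (d - 1) ψ) (T * StabCat.alpha d ψ) with hsmall | hbig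
  · -- few sections
    obtain ⟨j, hj, hαj, hle'⟩ := hFB.h0_le_cmp hψ hψpos hrle hsmall (N := N)
      (show -X ≤ (N : ℤ) by omega) (show -Y ≤ (N : ℤ) by omega)
    rw [hαj] at hrle ⊢
    have hjle : j ≤ ⌈r⌉.toNat := by
      have h1 : ((j : ℤ) : ℚ) ≤ ((⌈r⌉ : ℤ) : ℚ) := by push_cast; linarith [Int.le_ceil r]
      have h2 : (j : ℤ) ≤ ⌈r⌉ := by exact_mod_cast h1
      omega
    have hN1 : N₁ j ≤ N := by
      have := Finset.le_sup (f := N₁) (Finset.mem_range.2 (show j < ⌈r⌉.toNat + 1 by omega))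
      omega
    have hlt : (h0 F (N : ℤ) : ℚ) / j < P.eval (N : ℚ) / StabCat.alpha d P := by
      rw [div_lt_iff₀ (show (0 : ℚ) < j by exact_mod_cast hj)]
      calc (h0 F (N : ℤ) : ℚ) ≤ (cmpPoly d X Y j).eval (N : ℚ) := hle'
        _ < (j : ℚ) * P.eval (N : ℚ) / r := hN₁ j hj hrle N hN1
        _ = _ := by ring
    exact ⟨hlt.le, fun he => absurd he hlt.ne⟩
  · -- finitely many saturations
    have hψd := natDegree_sub_le_dim ι hF hE.dim hψ
    have hψ'd := natDegree_sub_le_dim ι' hF' hE.dim hψ'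
    have hsl := GrothLem.hatSlope_le_of_polyLE hψpos hαe hple hψd hψ'd
    rw [StabCat.hatSlope, StabCat.hatSlope, hαe, div_le_div_iff_of_pos_right hψpos] at hsl
    have hQreg : Curv2.IsMRegular k n E R := fun q hq _ => hR E hB hE.poly q hq
    have hQ : GrothLem.IsQuot d R (cokernel.π ι') (P - ψ') :=
      ⟨inferInstance, hE.coh, hQc, hQreg, hE.dim,
        fun x hx => GrothLem.deg_eq_of_isPure ((Proj (CohB1.polyGrading n k)) ↘ Spec (CommRingCat.of k)) hQc hQp hx,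
        fun t => (isHilbPoly_iff hQc).1 hpQ t⟩
    have hmem : P - ψ' ∈ Ps := hfin k hQ
      (by
        have h1 : ((⌈r⌉ : ℤ) : ℚ) ≤ ((⌈r⌉.toNat : ℤ) : ℚ) := Int.cast_le.2 (Int.self_le_toNat _)
        rw [alpha_sub, hαe]
        push_cast at h1
        linarith [Int.le_ceil r])
      (by
        have h1 : ((⌈|StabCat.alpha (d - 1) P| + |T| * r⌉ : ℤ) : ℚ) ≤
            ((⌈|StabCat.alpha (d - 1) P| + |T| * r⌉.toNat : ℤ) : ℚ) := Int.cast_le.2 (Int.self_le_toNat _)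
        rw [alpha_sub]
        push_cast at h1
        have h2 := Int.le_ceil (|StabCat.alpha (d - 1) P| + |T| * r)
        have h3 : -(|T| * r) ≤ T * StabCat.alpha d ψ := by
          have := mul_le_mul_of_nonneg_right (neg_abs_le T) hψpos.le
          have := mul_le_mul_of_nonneg_left hrle (abs_nonneg T)
          linarith
        have := le_abs_self (StabCat.alpha (d - 1) P)
        linarith)
      (fun j => by
        show h0 E (R + j) ≤ ⌊P.eval ((R + j : ℤ) : ℚ)⌋.toNat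
        rw [← hE.poly, chi_eq, Bdd.euler_eq_h0 hE.coh (hR E hB hE.poly) (R + j) (by omega), Int.floor_intCast]
        exact le_of_eq (Int.toNat_natCast _).symm)
    have hmemS : ψ' ∈ S := Finset.mem_image.2 ⟨P - ψ', hPs.mem_toFinset.2 hmem, sub_sub_cancel P ψ'⟩
    have hF'B := hB.of_mono ι' hF'
    have hreg' := hR' ψ' F' hF'B hψ'
    have hN' : R' ψ' ≤ (N : ℤ) := by
      have := Finset.le_sup (f := fun p => (R' p).toNat) hmemS
      omega
    have hN2 : N₂ ψ' ≤ N := by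
      have := Finset.le_sup (f := N₂) hmemS
      omega
    haveI : Mono l := by
      haveI : Mono (l ≫ ι') := by rw [hl]; infer_instance
      exact mono_of_mono l ι'
    have hev' : (h0 F' (N : ℤ) : ℚ) = ψ'.eval (N : ℚ) := by
      rw [← Int.cast_natCast (R := ℚ) N, ← hψ', chi_eq, Bdd.euler_eq_h0 hF' hreg' N (by omega)]
      rfl
    have hle' : h0 F (N : ℤ) ≤ h0 F' (N : ℤ) := Bdd.h0_le_of_mono l hF' N
    have hleq : (h0 F (N : ℤ) : ℚ) ≤ ψ'.eval (N : ℚ) := hev' ▸ Nat.cast_le.2 hle'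
    have hF'0 : ¬ IsZero F' := fun hz => hF0 (IsZero.of_mono l hz)
    obtain ⟨h1, h2⟩ := hN₂ ψ' (hE.sub F' ι' hι' hF' hF'0 ψ' hψ').2 N hN2
    rw [hαe] at h1 h2
    refine ⟨?_, fun he => ?_⟩
    · rw [div_le_div_iff₀ hψpos hpos]
      calc (h0 F (N : ℤ) : ℚ) * StabCat.alpha d P ≤ ψ'.eval (N : ℚ) * r :=
            mul_le_mul_of_nonneg_right hleq hpos.le
        _ ≤ P.eval (N : ℚ) * StabCat.alpha d ψ := by linarith
    · rw [div_eq_div_iff hψpos.ne' hpos.ne'] at he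
      change (h0 F (N : ℤ) : ℚ) * r = _ at he
      have h3 := mul_le_mul_of_nonneg_right hleq hpos.le
      have heq : r * ψ'.eval (N : ℚ) = StabCat.alpha d ψ * P.eval (N : ℚ) := by
        change (h0 F (N : ℤ) : ℚ) * r ≤ _ * r at h3
        linarith
      have h4 : (h0 F' (N : ℤ) : ℚ) * r = (h0 F (N : ℤ) : ℚ) * r := by rw [hev']; linarith
      have h5 : h0 F' (N : ℤ) ≤ h0 F (N : ℤ) :=
        le_of_eq (Nat.cast_injective (mul_right_cancel₀ hpos.ne' h4))
      haveI := isIso_of_h0_eq l hF hF' hreg' hN' h5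
      have hψeq : ψ = ψ' := HilbPoly.poly_ext 0 fun m _ => by
        have h7 := hψ (m : ℤ)
        rw [chi_iso (asIso l), hψ', Int.cast_natCast] at h7
        exact h7.symm
      have h8 := h2 heq
      rw [hψeq] at h8 ⊢
      exact h8

end Groth.Agent.SimpsonEst

end
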