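import Groth.Agent.SimpsonEst.System
import Mathlib.Data.Int.Interval
import Mathlib.Data.Sym.Card
import Mathlib.LinearAlgebra.Dual.Lemmas

/-!
# Counting sections through their jets on the generic line
-/

set_option autoImplicit false
set_option maxHeartbeats 1000000
set_option synthInstance.maxHeartbeats 100000

universe u

noncomputable section

namespace Groth.Agent.SimpsonEst

open Polynomial Module

variable {k : Type u} [Field k] {d r : ℕ}

section Filtration

variable (F : Type*) [Field F] [Algebra F (ParField k d)]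

/-- Vectors divisible by `X ^ j`. -/
def divBy (T : Submodule F (Fin r → LineField k d)) (j : ℕ) : Submodule F (Fin r → LineField k d) where
  carrier := {x | x ∈ T ∧ ∃ y ∈ regV k d r, x = ((RatFunc.X : LineField k d) ^ j) • y}
  add_mem' := by
    rintro _ _ ⟨ha, y, hy, rfl⟩ ⟨hb, z, hz, rfl⟩
    exact ⟨T.add_mem ha hb, y + z, (regV k d r).add_mem hy hz, (smul_add _ _ _).symm⟩
  zero_mem' := ⟨T.zero_mem, 0, (regV k d r).zero_mem, (smul_zero _).symm⟩
  smul_mem' := by
    rintro c _ ⟨ha, y, hy, rfl⟩
    refine ⟨T.smul_mem c ha, algebraMap F (ParField k d) c • y, (regV k d r).smul_mem _ hy, ?_⟩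
    rw [algebraMap_smul, smul_comm]

/-- The leading coefficient in order `j`. -/
def lead (T : Submodule F (Fin r → LineField k d)) (j : ℕ) : divBy F T j →ₗ[F] (Fin r → ParField k d) where
  toFun x := ev0V (((RatFunc.X : LineField k d) ^ j)⁻¹ • (x : Fin r → LineField k d))
  map_add' := by
    rintro ⟨_, -, y, hy, rfl⟩ ⟨_, -, z, hz, rfl⟩
    simp only [Submodule.coe_add, smul_add, inv_smul_smul₀ (X_pow_ne_zero (k := k) (d := d) j)]
    exact ev0V_add hy hz
  map_smul' := by
    rintro c ⟨_, -, y, hy, rfl⟩
    simp only [Submodule.coe_smul, RingHom.id_apply]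
    rw [smul_comm c ((RatFunc.X : LineField k d) ^ j),
      inv_smul_smul₀ (X_pow_ne_zero (k := k) (d := d) j), inv_smul_smul₀ (X_pow_ne_zero (k := k) (d := d) j),
      ← algebraMap_smul (ParField k d) c y, ev0V_smul _ hy, algebraMap_smul]

/-- The leading coefficients in order `j`. -/
def grad (T : Submodule F (Fin r → LineField k d)) (j : ℕ) : Submodule F (Fin r → ParField k d) :=
  LinearMap.range (lead F T j)

theorem mem_grad {T : Submodule F (Fin r → LineField k d)} {j : ℕ} {a : Fin r → ParField k d} :
    a ∈ grad F T j ↔ ∃ y ∈ regV k d r, ((RatFunc.X : LineField k d) ^ j) • y ∈ T ∧ ev0V y = a := by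
  constructor
  · rintro ⟨⟨_, hx, y, hy, rfl⟩, rfl⟩
    exact ⟨y, hy, hx, (congrArg ev0V (inv_smul_smul₀ (X_pow_ne_zero (k := k) (d := d) j) y)).symm⟩
  · rintro ⟨y, hy, hx, rfl⟩
    exact ⟨⟨_, hx, y, hy, rfl⟩, congrArg ev0V (inv_smul_smul₀ (X_pow_ne_zero (k := k) (d := d) j) y)⟩

theorem finrank_divBy_succ (T : Submodule F (Fin r → LineField k d)) [Module.Finite F T] (j : ℕ) :
    finrank F (divBy F T j) = finrank F (grad F T j) + finrank F (divBy F T (j + 1)) := by
  haveI : Module.Finite F (divBy F T j) := Submodule.finiteDimensional_of_le (fun x hx => hx.1)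
  have hker : LinearMap.ker (lead F T j) = (divBy F T (j + 1)).comap (divBy F T j).subtype := by
    ext ⟨x, hx, y, hy, rfl⟩
    rw [LinearMap.mem_ker, Submodule.mem_comap]
    show ev0V _ = 0 ↔ _ ∧ _
    rw [inv_smul_smul₀ (X_pow_ne_zero (k := k) (d := d) j)]
    constructor
    · intro h
      obtain ⟨z, hz, rfl⟩ := exists_eq_X_smul hy h
      exact ⟨hx, z, hz, by rw [Submodule.subtype_apply, pow_succ, mul_smul]⟩
    · rintro ⟨-, z, hz, h⟩
      rw [Submodule.subtype_apply, pow_succ, mul_smul] at h
      rw [smul_right_injective _ (X_pow_ne_zero j) h, ev0V_smul' reg_X hz, ev0_X, zero_smul]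
  have hle : divBy F T (j + 1) ≤ divBy F T j := by
    rintro _ ⟨hx, y, hy, rfl⟩
    exact ⟨hx, (RatFunc.X : LineField k d) • y, smul_mem_regV reg_X hy, by rw [pow_succ, mul_smul]⟩
  rw [← LinearMap.finrank_range_add_finrank_ker (lead F T j), hker]
  exact congrArg (finrank F (LinearMap.range (lead F T j)) + ·)
    (LinearEquiv.finrank_eq (Submodule.comapSubtypeEquivOfLe hle))

theorem finrank_eq_sum_grad (T : Submodule F (Fin r → LineField k d)) [Module.Finite F T]
    (hT : ∀ x ∈ T, x ∈ regV k d r) {N : ℕ} (hN : divBy F T N = ⊥) :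
    finrank F T = ∑ j ∈ Finset.range N, finrank F (grad F T j) := by
  have h : ∀ N, finrank F T = (∑ j ∈ Finset.range N, finrank F (grad F T j)) + finrank F (divBy F T N) := by
    intro N
    induction N with
    | zero =>
      have h0 : divBy F T 0 = T := le_antisymm (fun x hx => hx.1)
        fun x hx => ⟨hx, x, hT x hx, by rw [pow_zero, one_smul]⟩
      rw [Finset.sum_range_zero, zero_add, h0]
    | succ N ih => rw [Finset.sum_range_succ, ih, finrank_divBy_succ, add_assoc]
  rw [h N, hN, finrank_bot, add_zero]

end Filtration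


/-- A subspace of coordinate space is controlled by few coordinates. -/
theorem exists_coords {K : Type*} [Field K] {n : ℕ} (U : Submodule K (Fin n → K)) :
    ∃ s : Finset (Fin n), s.card ≤ finrank K U ∧ ∀ u ∈ U, (∀ α ∈ s, u α = 0) → u = 0 := by
  classical
  let f : Fin n → Module.Dual K U := fun α => (LinearMap.proj α).comp U.subtype
  obtain ⟨b, hb, hspan, hli⟩ := exists_linearIndependent K (Set.range f)
  choose g hg using fun x : b => hb x.2
  haveI : Fintype b := @Fintype.ofFinite _ hli.finite
  refine ⟨Finset.univ.image g, ?_, fun u hu h0 => funext fun α => ?_⟩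
  · refine Finset.card_image_le.trans ?_
    rw [Finset.card_univ, ← Subspace.dual_finrank_eq (K := K) (V := U)]
    exact hli.fintype_card_le_finrank
  · have hmem : f α ∈ Submodule.span K (Set.range f) := Submodule.subset_span ⟨α, rfl⟩
    rw [← hspan] at hmem
    have hz : ∀ φ ∈ Submodule.span K b, φ ⟨u, hu⟩ = 0 := fun φ hφ => by
      induction hφ using Submodule.span_induction with
      | mem x hx =>
        rw [show x = f (g ⟨x, hx⟩) from (hg ⟨x, hx⟩).symm]
        exact h0 _ (Finset.mem_image_of_mem g (Finset.mem_univ _))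
      | zero => rfl
      | add x y _ _ hx hy => rw [LinearMap.add_apply, hx, hy, add_zero]
      | smul c x _ hx => rw [LinearMap.smul_apply, hx, smul_zero]
    exact hz _ hmem

namespace Sys

variable [NeZero d] (Φ : Sys k d r)

theorem grad_span_le (M : ℤ) (j : ℕ) :
    grad (ParField k d) (Φ.span M) j ≤ Φ.vals (M - j) := by
  intro a ha
  obtain ⟨y, hy, hyT, rfl⟩ := (mem_grad _).1 ha
  exact ⟨y, ⟨hy, j, by rwa [sub_add_cancel]⟩, rfl⟩

theorem exists_lift (e : ℤ) : ∃ J : ℕ, ∀ j, J ≤ j → Φ.vals e ≤ grad (ParField k d) (Φ.span (e + j)) j := by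
  classical
  obtain ⟨s, hs⟩ := Module.Finite.iff_fg.1 (inferInstance : Module.Finite (ParField k d) (Φ.vals e))
  have h : ∀ a : s, ∃ y : Fin r → LineField k d, ∃ j₀ : ℕ, y ∈ regV k d r ∧
      ((RatFunc.X : LineField k d) ^ j₀) • y ∈ Φ.span (e + j₀) ∧ ev0V y = (a : Fin r → ParField k d) := by
    intro a
    obtain ⟨y, ⟨hy, j₀, hj⟩, he⟩ := (hs ▸ Submodule.subset_span a.2 : (a : Fin r → ParField k d) ∈ Φ.vals e)
    exact ⟨y, j₀, hy, hj, he⟩
  choose y j₀ hy hj he using h
  refine ⟨Finset.univ.sup j₀, fun j hjJ => ?_⟩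
  rw [← hs, Submodule.span_le]
  intro a ha
  exact (mem_grad _).2 ⟨y ⟨a, ha⟩, hy _,
    Φ.shift_mem (hj _) ((Finset.le_sup (Finset.mem_univ _)).trans hjJ), he _⟩

/-- The sections on the line in high degrees. -/
theorem exists_finrank_span {e₀ : ℤ} (h₀ : ∀ e, e < e₀ → Φ.Lam e = ⊥) :
    ∃ M₀ : ℤ, ∀ M, M₀ ≤ M → ∀ N : ℕ, M - e₀ < N →
      finrank (ParField k d) (Φ.span M) = ∑ j ∈ Finset.range N, Φ.rk (M - j) := by
  classical
  obtain ⟨e₁, he₁⟩ := Φ.spans
  choose J hJ using Φ.exists_lift
  refine ⟨max e₁ (e₁ + (((Finset.Ico e₀ e₁).sup J : ℕ) : ℤ)), fun M hM N hN => ?_⟩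
  haveI := Φ.finite_span M
  have hbot : divBy (ParField k d) (Φ.span M) N = ⊥ := eq_bot_iff.2 fun x ⟨hx, y, hy, hxy⟩ => by
    subst hxy
    have hy' : y ∈ Φ.Lam (M - N) := ⟨hy, N, by rwa [sub_add_cancel]⟩
    rw [h₀ _ (by omega), Submodule.mem_bot] at hy'
    rw [Submodule.mem_bot, hy', smul_zero]
  rw [finrank_eq_sum_grad (ParField k d) (Φ.span M) (fun x hx => Φ.span_le_regV M hx) hbot]
  refine Finset.sum_congr rfl fun j _ => congrArg
    (fun U : Submodule (ParField k d) (Fin r → ParField k d) => finrank (ParField k d) U)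
    (le_antisymm (Φ.grad_span_le M j) ?_)
  rcases lt_or_ge (M - j) e₀ with hlow | hlow
  · rintro _ ⟨u, hu, rfl⟩
    rw [SetLike.mem_coe, h₀ _ hlow, Submodule.mem_bot] at hu
    rw [hu, ev0V_zero]
    exact Submodule.zero_mem _
  rcases lt_or_ge (M - j) e₁ with hmid | hhigh
  · have hle : J (M - j) ≤ (Finset.Ico e₀ e₁).sup J := Finset.le_sup (Finset.mem_Ico.2 ⟨hlow, hmid⟩)
    have h := hJ (M - j) j (by omega)
    rwa [sub_add_cancel] at h
  · intro a _
    obtain ⟨z, hz, rfl⟩ := (Φ.vals_eq_top he₁).1.ge (Set.mem_univ a)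
    refine (mem_grad _).2 ⟨z, Φ.span_le_regV _ hz, ?_, rfl⟩
    exact Φ.span_mono (by omega) (Φ.X_pow_smul_mem_span hz j)

end Sys

section Jets

variable (k d)

/-- The functions of the point alone. -/
def pointMap : FunField k d →+* ParField k d :=
  IsFractionRing.lift (g := (algebraMap (ParRing k d) (ParField k d)).comp
    (MvPolynomial.rename (R := k) (Sum.inl : Fin d → Fin d ⊕ Fin d)).toRingHom)
    ((IsFractionRing.injective (ParRing k d) (ParField k d)).comp
      (MvPolynomial.rename_injective _ Sum.inl_injective))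

/-- The field of the point. -/
def pointField : Subfield (ParField k d) := (pointMap k d).fieldRange

variable {k d}

theorem pointMap_algebraMap (f : CoordRing k d) :
    pointMap k d (algebraMap _ _ f) = algebraMap (ParRing k d) (ParField k d) (MvPolynomial.rename Sum.inl f) := by
  rw [pointMap, IsFractionRing.lift_algebraMap]
  rfl

theorem algebraMap_rename_mem (f : CoordRing k d) :
    algebraMap (ParRing k d) (ParField k d) (MvPolynomial.rename Sum.inl f) ∈ pointField k d :=
  ⟨_, pointMap_algebraMap f⟩

attribute [-instance] Subfield.instModuleSubtypeMem Subfield.instSMulSubtypeMem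

theorem subfield_smul_def (c : pointField k d) (v : ParField k d) :
    c • v = (c : ParField k d) • v := rfl

theorem subfield_smul_line (c : pointField k d) (v : LineField k d) :
    c • v = (c : ParField k d) • v := (algebraMap_smul (ParField k d) c v).symm

theorem subfield_smul_vec (c : pointField k d) (v : Fin r → LineField k d) :
    c • v = (c : ParField k d) • v := (algebraMap_smul (ParField k d) c v).symm

/-- Evaluation separating the point from the image point. -/
def separate : Polynomial (ParRing k d) →+* MvPolynomial (Fin d) (CoordRing k d) :=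
  eval₂RingHom (MvPolynomial.eval₂Hom (MvPolynomial.C.comp MvPolynomial.C) fun j => j.elim
    (fun i => MvPolynomial.X i) fun i => MvPolynomial.C (MvPolynomial.X i) - MvPolynomial.X i) 1

theorem separate_lineMap₀ (a : CoordRing k d) : separate (lineMap₀ k d a) = MvPolynomial.C a := by
  have h : (separate (k := k) (d := d)).comp (lineMap₀ k d).toRingHom = MvPolynomial.C := by
    refine MvPolynomial.ringHom_ext (fun c => ?_) fun i => ?_
    · simp [separate, lineMap₀, Polynomial.algebraMap_apply, MvPolynomial.algebraMap_eq]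
    · simp [separate, lineMap₀, pp, ww]
  exact RingHom.congr_fun h a

theorem separate_point (z : CoordRing k d) :
    separate (C (MvPolynomial.rename Sum.inl z)) = MvPolynomial.map MvPolynomial.C z := by
  have h : (separate (k := k) (d := d)).comp (C.comp (MvPolynomial.rename Sum.inl).toRingHom) =
      MvPolynomial.map MvPolynomial.C := by
    refine MvPolynomial.ringHom_ext (fun c => ?_) fun i => ?_ <;> simp [separate]
  exact RingHom.congr_fun h z

/-- Independent sections stay independent over the field of the point. -/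
theorem linearIndependent_point {ι : Type*} [Finite ι] {v : ι → Fin r → FunField k d}
    (hv : LinearIndependent k v) : LinearIndependent (pointField k d) fun i => inclV (v i) := by
  classical
  haveI := Fintype.ofFinite ι
  refine Fintype.linearIndependent_iff.2 fun c hc i₀ => ?_
  choose z hz using fun i => (c i).2
  obtain ⟨b, hb⟩ := IsLocalization.exist_integer_multiples_of_finite (nonZeroDivisors (CoordRing k d)) z
  obtain ⟨g, hg⟩ := IsLocalization.exist_integer_multiples_of_finite (nonZeroDivisors (CoordRing k d))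
    (fun p : ι × Fin r => v p.1 p.2)
  choose z' hz' using hb
  choose a ha using hg
  have hsum : ∀ α, ∑ i, C (MvPolynomial.rename Sum.inl (z' i)) * lineMap₀ k d (a (i, α)) = 0 := by
    intro α
    refine Polynomial.map_injective (algebraMap (ParRing k d) (ParField k d))
      (IsFractionRing.injective (ParRing k d) (ParField k d)) ?_
    rw [Polynomial.map_sum, Polynomial.map_zero]
    refine RatFunc.algebraMap_injective (K := ParField k d) ?_
    rw [map_sum, map_zero]
    have h1 := congr_fun hc α
    rw [Finset.sum_apply, Pi.zero_apply] at h1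
    have h2 : algebraMap (ParField k d) (LineField k d) (pointMap k d (algebraMap _ _ (b : CoordRing k d))) *
        incl k d (algebraMap _ _ (g : CoordRing k d)) *
          ∑ i, (c i • inclV (v i)) α = 0 := by rw [h1, mul_zero]
    rw [Finset.mul_sum] at h2
    refine Eq.trans (Finset.sum_congr rfl fun i _ => ?_) h2
    rw [Polynomial.map_mul, map_C, map_mul, RatFunc.algebraMap_C, ← RatFunc.algebraMap_eq_C,
      ← pointMap_algebraMap, hz', show (lineMap₀ k d (a (i, α))).map (algebraMap (ParRing k d) (ParField k d)) =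
        lineMap k d (a (i, α)) from rfl, ← incl_algebraMap, ha, Algebra.smul_def, map_mul, Algebra.smul_def,
      map_mul, map_mul, Pi.smul_apply, subfield_smul_line, Algebra.smul_def, ← hz i]
    show _ = _ * (_ * incl k d (v i α))
    ring
  have hzero : ∀ (m : Fin d →₀ ℕ), ∀ i, MvPolynomial.coeff m (z' i) = 0 := by
    intro m
    refine Fintype.linearIndependent_iff.1 hv _ (funext fun α => ?_)
    have hcm : ∀ (p : MvPolynomial (Fin d) (CoordRing k d)) (x : CoordRing k d),
        MvPolynomial.coeff m (p * MvPolynomial.C x) = MvPolynomial.coeff m p * x := fun p x => by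
      rw [mul_comm, MvPolynomial.coeff_C_mul, mul_comm]
    have h1 := congrArg (fun q => MvPolynomial.coeff m (separate q)) (hsum α)
    simp only [map_sum, map_mul, separate_lineMap₀, separate_point, map_zero, MvPolynomial.coeff_sum,
      MvPolynomial.coeff_zero, hcm, MvPolynomial.coeff_map] at h1
    have h2 := congrArg (algebraMap (CoordRing k d) (FunField k d)) h1
    simp only [map_sum, map_zero, map_mul, ha, Algebra.smul_def (g : CoordRing k d)] at h2
    rw [Finset.sum_apply, Pi.zero_apply]
    refine (mul_eq_zero.1 (Eq.trans ?_ h2)).resolve_left fun h => nonZeroDivisors.ne_zero g.2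
      (IsFractionRing.injective (CoordRing k d) (FunField k d) (h.trans (map_zero _).symm))
    rw [Finset.mul_sum]
    refine Finset.sum_congr rfl fun i _ => ?_
    rw [Pi.smul_apply, Algebra.smul_def, IsScalarTower.algebraMap_apply k (CoordRing k d) (FunField k d),
      MvPolynomial.algebraMap_eq]
    ring
  have h0 : z' i₀ = 0 := MvPolynomial.ext _ _ fun m => (hzero m i₀).trans (MvPolynomial.coeff_zero m).symm
  have h1 := hz' i₀
  rw [h0, map_zero, Algebra.smul_def, zero_eq_mul] at h1
  refine Subtype.ext ?_
  rw [← hz i₀, h1.resolve_left fun h => nonZeroDivisors.ne_zero b.2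
    (IsFractionRing.injective (CoordRing k d) (FunField k d) (h.trans (map_zero _).symm)), map_zero]
  rfl

variable (k d)

/-- The directional monomials of degree `j`. -/
def dirMon (j : ℕ) : Submodule (pointField k d) (ParField k d) :=
  Submodule.span (pointField k d) (Set.range fun s : Sym (Fin d) j =>
    algebraMap (ParRing k d) (ParField k d) ((s : Multiset (Fin d)).map ww).prod)

variable {k d}

theorem finrank_dirMon_le (j : ℕ) : finrank (pointField k d) (dirMon k d j) ≤ (d + j - 1).choose j := by
  refine (finrank_range_le_card _).trans ?_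
  rw [Sym.card_sym_eq_choose, Fintype.card_fin]

instance finite_dirMon (j : ℕ) : Module.Finite (pointField k d) (dirMon k d j) :=
  Module.Finite.span_of_finite _ (Set.finite_range _)

theorem coeff_lineMap_mem (f : CoordRing k d) : ∀ i, (lineMap k d f).coeff i ∈ dirMon k d i := by
  induction f using MvPolynomial.induction_on with
  | C a =>
    intro i
    rw [show lineMap k d (MvPolynomial.C a) = C (algebraMap (ParRing k d) (ParField k d) (MvPolynomial.C a)) by
      simp [lineMap, lineMap₀, Polynomial.algebraMap_apply, MvPolynomial.algebraMap_eq], coeff_C]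
    split_ifs with hi
    · subst hi
      have h1 : (1 : ParField k d) ∈ dirMon k d 0 := Submodule.subset_span ⟨Sym.nil, by simp⟩
      have h2 := (dirMon k d 0).smul_mem ⟨_, algebraMap_rename_mem (MvPolynomial.C a : CoordRing k d)⟩ h1
      rw [subfield_smul_def, smul_eq_mul, mul_one] at h2
      simpa using h2
    · exact Submodule.zero_mem _
  | add f g hf hg => intro i; rw [map_add, coeff_add]; exact Submodule.add_mem _ (hf i) (hg i)
  | mul_X f l hf =>
    intro i
    have hl : lineMap k d (MvPolynomial.X l) = C (algebraMap (ParRing k d) (ParField k d) (pp l)) +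
        C (algebraMap (ParRing k d) (ParField k d) (ww l)) * X := by simp [lineMap, lineMap₀]
    rw [map_mul, hl, mul_add, coeff_add, coeff_mul_C, ← mul_assoc]
    refine Submodule.add_mem _ ?_ ?_
    · have h2 := (dirMon k d i).smul_mem ⟨_, algebraMap_rename_mem (MvPolynomial.X l : CoordRing k d)⟩ (hf i)
      rw [subfield_smul_def, smul_eq_mul, mul_comm] at h2
      simpa [pp] using h2
    · cases i with
      | zero => simp
      | succ i =>
        rw [coeff_mul_X, coeff_mul_C]
        refine Submodule.span_induction (p := fun x _ => x * algebraMap _ _ (ww l) ∈ dirMon k d (i + 1))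
          ?_ ?_ (fun x y _ _ hx hy => ?_) (fun c x _ hx => ?_) (hf i)
        · rintro _ ⟨s, rfl⟩
          refine Submodule.subset_span ⟨l ::ₛ s, ?_⟩
          show algebraMap (ParRing k d) (ParField k d) _ = _
          rw [Sym.coe_cons, Multiset.map_cons, Multiset.prod_cons, map_mul]
          ring
        · simp
        · rw [add_mul]; exact Submodule.add_mem _ hx hy
        · rw [subfield_smul_def, smul_eq_mul, mul_assoc]
          exact (dirMon k d (i + 1)).smul_mem c hx

namespace Sys

variable [NeZero d] (Φ : Sys k d r)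

/-- The jet bound. -/
theorem jet_bound {e₀ : ℤ} (h₀ : ∀ e, e < e₀ → Φ.Lam e = ⊥) (m : ℤ) {N : ℕ} (hN : m - e₀ < N) :
    finrank k (Φ.Γ m) ≤ ∑ j ∈ Finset.range N, Φ.rk (m - j) * (d + j - 1).choose j := by
  classical
  haveI := Φ.fin m
  let bas := Module.finBasis k (Φ.Γ m)
  let v : Fin (finrank k (Φ.Γ m)) → Fin r → FunField k d := fun i => (bas i : Fin r → FunField k d)
  have hvli : LinearIndependent k v :=
    bas.linearIndependent.map' (Φ.Γ m).subtype (Submodule.ker_subtype _)
  let T : Submodule (pointField k d) (Fin r → LineField k d) :=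
    Submodule.span (pointField k d) (Set.range fun i => inclV (v i))
  have hdimT : finrank (pointField k d) T = finrank k (Φ.Γ m) := by
    rw [show T = Submodule.span (pointField k d) (Set.range fun i => inclV (v i)) from rfl,
      finrank_span_eq_card (linearIndependent_point hvli), Fintype.card_fin]
  haveI : Module.Finite (pointField k d) T := Module.Finite.span_of_finite _ (Set.finite_range _)
  have hTspan : ∀ x ∈ T, x ∈ Φ.span m := fun x hx => by
    induction hx using Submodule.span_induction with
    | mem y hy => obtain ⟨i, rfl⟩ := hy; exact Φ.inclV_mem_span (bas i).2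
    | zero => exact Submodule.zero_mem _
    | add a b _ _ ha hb => exact Submodule.add_mem _ ha hb
    | smul c a _ ha => rw [subfield_smul_vec]; exact Submodule.smul_mem _ _ ha
  obtain ⟨g, hg⟩ := IsLocalization.exist_integer_multiples_of_finite (nonZeroDivisors (CoordRing k d))
    (fun p : Fin (finrank k (Φ.Γ m)) × Fin r => v p.1 p.2)
  choose a ha using hg
  let G : LineField k d := incl k d (algebraMap _ _ (g : CoordRing k d))
  let g0 : ParField k d := ev0 G
  have hg0 : g0 ≠ 0 := fun h => nonZeroDivisors.ne_zero g.2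
    (IsFractionRing.injective (CoordRing k d) (FunField k d) ((ev0_incl_eq_zero h).trans (map_zero _).symm))
  have hpoly : ∀ x ∈ T, ∀ α, ∃ q : Polynomial (ParField k d), (∀ i, q.coeff i ∈ dirMon k d i) ∧
      algebraMap (Polynomial (ParField k d)) (LineField k d) q = G * x α := fun x hx => by
    induction hx using Submodule.span_induction with
    | mem y hy =>
      obtain ⟨i, rfl⟩ := hy
      intro α
      refine ⟨lineMap k d (a (i, α)), coeff_lineMap_mem _, ?_⟩
      rw [← incl_algebraMap, ha, Algebra.smul_def, map_mul]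
      rfl
    | zero => exact fun α => ⟨0, fun i => by simp, by simp⟩
    | add y z _ _ hy hz =>
      intro α
      obtain ⟨q, hq, hqe⟩ := hy α
      obtain ⟨q', hq', hqe'⟩ := hz α
      exact ⟨q + q', fun i => by rw [coeff_add]; exact Submodule.add_mem _ (hq i) (hq' i),
        by rw [map_add, hqe, hqe', Pi.add_apply, mul_add]⟩
    | smul c y _ hy =>
      intro α
      obtain ⟨q, hq, hqe⟩ := hy α
      refine ⟨C (c : ParField k d) * q, fun i => ?_, ?_⟩
      · rw [coeff_C_mul, ← smul_eq_mul, ← subfield_smul_def]
        exact Submodule.smul_mem _ c (hq i)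
      · rw [map_mul, hqe, RatFunc.algebraMap_C, ← RatFunc.algebraMap_eq_C, Pi.smul_apply, subfield_smul_line,
          Algebra.smul_def, mul_left_comm]
  have hbot : divBy (pointField k d) T N = ⊥ := eq_bot_iff.2 fun x ⟨hx, y, hy, hxy⟩ => by
    subst hxy
    have hy' : y ∈ Φ.Lam (m - N) := ⟨hy, N, by rw [sub_add_cancel]; exact hTspan _ hx⟩
    rw [h₀ _ (by omega), Submodule.mem_bot] at hy'
    rw [Submodule.mem_bot, hy', smul_zero]
  rw [← hdimT, finrank_eq_sum_grad (pointField k d) T (fun x hx => Φ.span_le_regV m (hTspan x hx)) hbot]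
  refine Finset.sum_le_sum fun j _ => ?_
  obtain ⟨s, hs, hsinj⟩ := exists_coords (Φ.vals (m - j))
  have hmem : ∀ z ∈ grad (pointField k d) T j, z ∈ Φ.vals (m - j) ∧ ∀ α, g0 * z α ∈ dirMon k d j := by
    intro z hz
    obtain ⟨y, hy, hyT, rfl⟩ := (mem_grad _).1 hz
    refine ⟨⟨y, ⟨hy, j, by rw [sub_add_cancel]; exact hTspan _ hyT⟩, rfl⟩, fun α => ?_⟩
    obtain ⟨q, hq, hqe⟩ := hpoly _ hyT α
    have key : ev0 (G * y α) = q.coeff j := by
      obtain ⟨w, hw, hwreg⟩ : ∃ w, w = G * y α ∧ Reg w := ⟨_, rfl, (reg_incl _).mul (hy α)⟩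
      rw [← hw]
      have h1 : algebraMap (Polynomial (ParField k d)) (LineField k d) (q * w.denom) =
          algebraMap (Polynomial (ParField k d)) (LineField k d) (X ^ j * w.num) := by
        rw [map_mul, map_mul, hqe, Pi.smul_apply, smul_eq_mul, mul_left_comm, ← hw, map_pow,
          RatFunc.algebraMap_X, mul_assoc]
        congr 1
        nth_rw 1 [← RatFunc.num_div_denom w]
        rw [div_mul_cancel₀ _ (RatFunc.algebraMap_ne_zero w.denom_ne_zero)]
      obtain ⟨q', rfl⟩ : X ^ j ∣ q :=
        (((Polynomial.irreducible_X (R := ParField k d)).coprime_iff_not_dvd.2 fun h =>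
          hwreg (by rwa [X_dvd_iff, coeff_zero_eq_eval_zero] at h)).pow_left).dvd_of_dvd_mul_right
          ⟨_, RatFunc.algebraMap_injective (K := ParField k d) h1⟩
      have h2 : w = algebraMap (Polynomial (ParField k d)) (LineField k d) q' := by
        refine mul_left_cancel₀ (X_pow_ne_zero (k := k) (d := d) j) ?_
        rw [hw, ← RatFunc.algebraMap_X, ← map_pow, ← map_mul, hqe, Pi.smul_apply, smul_eq_mul, mul_left_comm,
          map_pow, RatFunc.algebraMap_X]
      have h3 : (X ^ j * q').coeff j = q'.coeff 0 := by simpa using coeff_X_pow_mul q' j 0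
      rw [h2, ev0_algebraMap, ← coeff_zero_eq_eval_zero, h3]
    rw [ev0_mul (reg_incl _) (hy α)] at key
    show ev0 G * ev0V y α ∈ _
    rw [show ev0V y α = ev0 (y α) from rfl, key]
    exact hq j
  let π : grad (pointField k d) T j →ₗ[pointField k d] (s → dirMon k d j) :=
    { toFun := fun z α => ⟨g0 * (z : Fin r → ParField k d) α, (hmem z z.2).2 α⟩
      map_add' := fun a b => funext fun α => Subtype.ext (by simp [mul_add])
      map_smul' := fun c a => funext fun α => Subtype.ext (by
        simp only [Submodule.coe_smul, Pi.smul_apply, subfield_smul_def, smul_eq_mul, RingHom.id_apply]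
        ring) }
  have hπ : Function.Injective π := by
    refine (injective_iff_map_eq_zero π).2 fun z hz => Subtype.ext (hsinj _ (hmem z z.2).1 fun α hα => ?_)
    have h := congrArg Subtype.val (congr_fun hz ⟨α, hα⟩)
    exact (mul_eq_zero.1 h).resolve_left hg0
  refine (LinearMap.finrank_le_finrank_of_injective hπ).trans ?_
  rw [finrank_pi_fintype, Finset.sum_const, Finset.card_univ, Fintype.card_coe, smul_eq_mul]
  exact Nat.mul_le_mul hs (finrank_dirMon_le j)

end Sys

end Jets

end Groth.Agent.SimpsonEst

end
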