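import Groth.Agent.SimpsonEst.Gap
import Groth.Agent.GrothLem.BadPts
import Mathlib.Algebra.Polynomial.Module.Basic
import Mathlib.RingTheory.Polynomial.Basic

/-!
# Systems of sections from filtered torsion-free modules
-/

set_option autoImplicit false
set_option maxHeartbeats 1000000
set_option synthInstance.maxHeartbeats 100000
set_option linter.style.haveILetI false

universe u

noncomputable section

namespace Groth.Agent.SimpsonEst

open Module StabCat

variable (k : Type u) [Field k] (d : ℕ) (N : Type u) [AddCommGroup N] [Module k N] [Module (CoordRing k d) N]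
  [IsScalarTower k (CoordRing k d) N]

/-- A module over the coordinate ring of affine space with a generated filtration. -/
structure Filt where
  G : ℕ → Submodule k N
  mono : ∀ m, G m ≤ G (m + 1)
  mulX : ∀ (i : Fin d) (m : ℕ), ∀ v ∈ G m, (MvPolynomial.X i : CoordRing k d) • v ∈ G (m + 1)
  fin : ∀ m, Module.Finite k (G m)
  exhaust : ∀ v : N, ∃ m, v ∈ G m
  gen : ∃ m₀, ∀ m, m₀ ≤ m → ∀ v ∈ G (m + 1), ∃ a ∈ G m, ∃ c : Fin d → N,
    (∀ i, c i ∈ G m) ∧ v = a + ∑ i, (MvPolynomial.X i : CoordRing k d) • c i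

/-- Coordinates on a torsion-free module. -/
abbrev Coords (r : ℕ) : Type u := N →ₗ[CoordRing k d] (Fin r → FunField k d)

variable {k d N} {r : ℕ}

theorem Filt.le_of_le (F : Filt k d N) {m m' : ℕ} (h : m ≤ m') : F.G m ≤ F.G m' := by
  induction h with
  | refl => exact le_rfl
  | step _ ih => exact ih.trans (F.mono _)

theorem Filt.finite (F : Filt k d N) : Module.Finite (CoordRing k d) N := by
  obtain ⟨m₀, hm₀⟩ := F.gen
  haveI := F.fin m₀
  let S : Submodule (CoordRing k d) N := Submodule.span (CoordRing k d) (F.G m₀ : Set N)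
  have h : ∀ j, F.G (m₀ + j) ≤ S.restrictScalars k := by
    intro j
    induction j with
    | zero => exact fun v hv => Submodule.subset_span hv
    | succ j ih =>
      intro v hv
      obtain ⟨a, ha, c, hc, rfl⟩ := hm₀ (m₀ + j) (Nat.le_add_right _ _) v hv
      exact S.add_mem (ih ha) (S.sum_mem fun i _ => S.smul_mem _ (ih (hc i)))
  have hS : S = ⊤ := eq_top_iff.2 fun v _ => by
    obtain ⟨m, hm⟩ := F.exhaust v
    exact h m (F.le_of_le (Nat.le_add_left m m₀) hm)
  obtain ⟨s, hs⟩ := Module.Finite.iff_fg.1 (inferInstance : Module.Finite k (F.G m₀))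
  refine ⟨⟨s, eq_top_iff.2 (hS ▸ Submodule.span_le.2 fun v hv => ?_)⟩⟩
  rw [← hs] at hv
  exact Submodule.span_le_restrictScalars k (CoordRing k d) _ hv

theorem algebraMap_fun_ne_zero {g : CoordRing k d} (hg : g ≠ 0) : algebraMap (CoordRing k d) (FunField k d) g ≠ 0 :=
  fun h => hg (IsFractionRing.injective (CoordRing k d) (FunField k d) (h.trans (map_zero _).symm))

/-- Torsion-free finite modules have coordinates. -/
theorem exists_embed [Module.Finite (CoordRing k d) N]
    (htf : ∀ a : CoordRing k d, a ≠ 0 → IsSMulRegular N a) :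
    ∃ (r : ℕ) (θ : Coords k d N r) (z : Fin r → N), Function.Injective θ ∧ ∀ α, θ (z α) = Pi.single α 1 := by
  classical
  haveI : Module.IsTorsionFree (CoordRing k d) N := ⟨fun a ha => htf a ha.ne_zero⟩
  obtain ⟨ι, _, ψ, c, hc, hψ, hcx⟩ := GrothLem.exists_free_sub (R := CoordRing k d) (M := N)
  let e := LinearEquiv.ofInjective ψ hψ
  let e' := Fintype.equivFin ι
  let L : N →ₗ[CoordRing k d] (ι → CoordRing k d) :=
    e.symm.toLinearMap ∘ₗ ((c • (LinearMap.id : N →ₗ[CoordRing k d] N)).codRestrict (LinearMap.range ψ) hcx)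
  have hL : ∀ x, L x = e.symm ⟨c • x, hcx x⟩ := fun x => rfl
  let θ : Coords k d N (Fintype.card ι) :=
    { toFun := fun x α => algebraMap _ _ (L x (e'.symm α)) / algebraMap _ _ c
      map_add' := fun x y => funext fun α => by
        rw [Pi.add_apply, ← add_div, ← map_add, map_add L, Pi.add_apply]
      map_smul' := fun a x => funext fun α => by
        rw [RingHom.id_apply, Pi.smul_apply, Algebra.smul_def, ← mul_div_assoc, ← map_mul, map_smul L,
          Pi.smul_apply, smul_eq_mul] }
  refine ⟨Fintype.card ι, θ, fun α => ψ (Pi.single (e'.symm α) 1), ?_, fun α => ?_⟩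
  · refine (injective_iff_map_eq_zero θ).2 fun x hx => htf c hc ?_
    have h : e.symm ⟨c • x, hcx x⟩ = 0 := funext fun i => by
      have h1 := congrFun hx (e' i)
      simp only [θ, hL, LinearMap.coe_mk, AddHom.coe_mk, Pi.zero_apply, div_eq_zero_iff, Equiv.symm_apply_apply,
        algebraMap_fun_ne_zero hc, or_false] at h1
      exact IsFractionRing.injective (CoordRing k d) (FunField k d) (h1.trans (map_zero _).symm)
    rw [e.symm.map_eq_zero_iff] at h
    simpa using congrArg Subtype.val h
  · have h : e.symm ⟨c • ψ (Pi.single (e'.symm α) 1), hcx _⟩ = c • (Pi.single (e'.symm α) 1 : ι → CoordRing k d) := by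
      rw [LinearEquiv.symm_apply_eq]
      exact Subtype.ext (map_smul ψ c _).symm
    funext β
    simp only [θ, hL, LinearMap.coe_mk, AddHom.coe_mk, h, Pi.smul_apply, smul_eq_mul, map_mul,
      mul_div_cancel_left₀ _ (algebraMap_fun_ne_zero hc)]
    by_cases hb : β = α
    · subst hb; simp
    · simp [hb]

/-- Coordinates relative to a spanning family of the right size. -/
theorem exists_embed_of {θ₀ : Coords k d N r} (hθ₀ : Function.Injective θ₀) (z₀ : Fin r → N)
    (hz₀ : ∀ α, θ₀ (z₀ α) = Pi.single α 1) (z : Fin r → N)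
    (hz : ∀ x : N, ∃ (g : CoordRing k d) (q : Fin r → CoordRing k d), g ≠ 0 ∧ g • x = ∑ α, q α • z α) :
    ∃ θ : Coords k d N r, Function.Injective θ ∧ ∀ α, θ (z α) = Pi.single α 1 := by
  classical
  let L : (Fin r → FunField k d) →ₗ[FunField k d] (Fin r → FunField k d) :=
    Fintype.linearCombination (FunField k d) fun α => θ₀ (z α)
  have hsurj : Function.Surjective L := by
    rw [← LinearMap.range_eq_top, eq_top_iff, ← (Pi.basisFun (FunField k d) (Fin r)).span_eq, Submodule.span_le]
    rintro _ ⟨α, rfl⟩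
    obtain ⟨g, q, hg, hgq⟩ := hz (z₀ α)
    refine ⟨fun β => algebraMap _ _ (q β) / algebraMap _ _ g, ?_⟩
    have h := congrArg θ₀ hgq
    rw [map_smul, map_sum, hz₀] at h
    rw [Pi.basisFun_apply, Fintype.linearCombination_apply,
      ← inv_smul_smul₀ (algebraMap_fun_ne_zero hg) (Pi.single α (1 : FunField k d) : Fin r → FunField k d),
      algebraMap_smul, h, Finset.smul_sum]
    refine Finset.sum_congr rfl fun β _ => ?_
    rw [map_smul, ← algebraMap_smul (FunField k d) (q β), smul_smul, div_eq_inv_mul]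
  let e := LinearEquiv.ofBijective L ⟨LinearMap.injective_iff_surjective.2 hsurj, hsurj⟩
  refine ⟨(e.symm.toLinearMap.restrictScalars (CoordRing k d)).comp θ₀, e.symm.injective.comp hθ₀, fun α => ?_⟩
  show e.symm (θ₀ (z α)) = _
  rw [LinearEquiv.symm_apply_eq]
  show _ = L _
  simp [L, Fintype.linearCombination_apply, Pi.single_apply, ite_smul]

namespace Filt

variable (F : Filt k d N)

/-- The coordinates of the filtration. -/
def sysΓ (θ : Coords k d N r) (e : ℤ) : Submodule k (Fin r → FunField k d) :=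
  if 0 ≤ e then (F.G e.toNat).map (θ.restrictScalars k) else ⊥

theorem sysΓ_coe (θ : Coords k d N r) (m : ℕ) : F.sysΓ θ (m : ℤ) = (F.G m).map (θ.restrictScalars k) := by
  rw [sysΓ, if_pos (Int.natCast_nonneg m), Int.toNat_natCast]

theorem tt_smul (θ : Coords k d N r) (i : Fin d) (v : N) :
    tt k d i • θ v = θ ((MvPolynomial.X i : CoordRing k d) • v) := by
  rw [map_smul, ← algebraMap_smul (FunField k d) (MvPolynomial.X i : CoordRing k d)]
  rfl

theorem isGen_sysΓ (θ : Coords k d N r) {m₀ : ℕ}
    (h : ∀ m, m₀ ≤ m → ∀ v ∈ F.G (m + 1), ∃ a ∈ F.G m, ∃ c : Fin d → N,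
      (∀ i, c i ∈ F.G m) ∧ v = a + ∑ i, (MvPolynomial.X i : CoordRing k d) • c i) :
    IsGen k d r (F.sysΓ θ) m₀ := by
  intro e he w hw
  obtain ⟨m, rfl⟩ : ∃ m : ℕ, e = m := ⟨e.toNat, by omega⟩
  rw [← Nat.cast_succ, sysΓ_coe] at hw
  obtain ⟨v, hv, rfl⟩ := hw
  obtain ⟨a, ha, c, hc, rfl⟩ := h m (by omega) v hv
  refine ⟨θ a, by rw [sysΓ_coe]; exact ⟨a, ha, rfl⟩, fun i => θ (c i),
    fun i => by rw [sysΓ_coe]; exact ⟨c i, hc i, rfl⟩, ?_⟩
  simp only [LinearMap.restrictScalars_apply, map_add, map_sum, tt_smul]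

theorem exists_span (θ : Coords k d N r) (z : Fin r → N) (hz : ∀ α, θ (z α) = Pi.single α 1) :
    ∃ m₁ : ℕ, ∀ m, m₁ ≤ m →
      Submodule.span (FunField k d) (F.sysΓ θ (m : ℤ) : Set (Fin r → FunField k d)) = ⊤ := by
  choose f hf using fun α => F.exhaust (z α)
  refine ⟨Finset.univ.sup f, fun m hm => eq_top_iff.2 ?_⟩
  rw [← (Pi.basisFun (FunField k d) (Fin r)).span_eq]
  refine Submodule.span_mono ?_
  rintro _ ⟨α, rfl⟩
  rw [SetLike.mem_coe, sysΓ_coe, Pi.basisFun_apply, ← hz α]
  exact ⟨z α, F.le_of_le ((Finset.le_sup (Finset.mem_univ α)).trans hm) (hf α), rfl⟩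

/-- The system of a filtration in given coordinates. -/
def sys (θ : Coords k d N r) (z : Fin r → N) (hz : ∀ α, θ (z α) = Pi.single α 1) : Sys k d r where
  Γ := F.sysΓ θ
  mono e := by
    simp only [sysΓ]
    split_ifs with h h' h'
    · exact Submodule.map_mono (F.le_of_le (by omega))
    · omega
    · exact bot_le
    · exact le_rfl
  mulX i e v hv := by
    by_cases h : 0 ≤ e
    · obtain ⟨m, rfl⟩ : ∃ m : ℕ, e = m := ⟨e.toNat, by omega⟩
      rw [sysΓ_coe] at hv
      rw [← Nat.cast_succ, sysΓ_coe]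
      obtain ⟨w, hw, rfl⟩ := hv
      exact ⟨_, F.mulX i m w hw, (tt_smul θ i w).symm⟩
    · rw [sysΓ, if_neg h, Submodule.mem_bot] at hv
      rw [hv, smul_zero]
      exact Submodule.zero_mem _
  fin e := by
    by_cases h : 0 ≤ e
    · rw [sysΓ, if_pos h]
      haveI := F.fin e.toNat
      infer_instance
    · rw [sysΓ, if_neg h]
      infer_instance
  spans := by
    obtain ⟨m₁, h⟩ := F.exists_span θ z hz
    exact ⟨m₁, h m₁ le_rfl⟩
  bdd := by
    obtain ⟨m₀, hm₀⟩ := F.gen
    refine bdd_of_isGen (F.isGen_sysΓ θ hm₀) ?_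
    rw [sysΓ_coe]
    haveI := F.fin m₀
    infer_instance

variable {θ : Coords k d N r} {z : Fin r → N} (hz : ∀ α, θ (z α) = Pi.single α 1)

theorem sys_Γ_coe (m : ℕ) : (F.sys θ z hz).Γ (m : ℤ) = (F.G m).map (θ.restrictScalars k) := F.sysΓ_coe θ m

theorem finrank_sys (hθ : Function.Injective θ) (m : ℕ) :
    finrank k ((F.sys θ z hz).Γ (m : ℤ)) = finrank k (F.G m) := by
  rw [sys_Γ_coe]
  exact (Submodule.equivMapOfInjective (θ.restrictScalars k) hθ (F.G m)).finrank_eq.symm

theorem exists_isGen_span : ∃ m₀ : ℕ, IsGen k d r (F.sys θ z hz).Γ m₀ ∧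
    Submodule.span (FunField k d) ((F.sys θ z hz).Γ (m₀ : ℤ) : Set (Fin r → FunField k d)) = ⊤ := by
  obtain ⟨m₀, hm₀⟩ := F.gen
  obtain ⟨m₁, hm₁⟩ := F.exists_span θ z hz
  exact ⟨max m₀ m₁, F.isGen_sysΓ θ fun m hm => hm₀ m (le_of_max_le_left hm), hm₁ _ (le_max_right _ _)⟩

/-- The rank and the sum of the slopes are read off the Hilbert polynomial. -/
theorem alpha_eq [NeZero d] (hθ : Function.Injective θ) {P : Polynomial ℚ} (hPd : P.natDegree ≤ d) {N₀ : ℕ}
    (hP : ∀ m, N₀ ≤ m → (finrank k (F.G m) : ℚ) = P.eval (m : ℚ)) :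
    alpha d P = r ∧ alpha (d - 1) P = ∑ α, (F.sys θ z hz).slope α := by
  obtain ⟨m₀, hgen, hspan⟩ := F.exists_isGen_span hz
  exact (F.sys θ z hz).alpha_eq hgen hspan hPd (N₀ := N₀) fun m hm => by rw [finrank_sys F hz hθ]; exact hP m hm

theorem finrank_le [NeZero d] (hθ : Function.Injective θ) (m : ℕ) :
    finrank k (F.G m) ≤ ∑ α, bn d ((m : ℤ) - (F.sys θ z hz).deg α) :=
  (F.finrank_sys hz hθ m).symm.trans_le ((F.sys θ z hz).finrank_le_sum_bn m)

/-- Submodules inherit generation. -/
theorem exists_gen_inf (S : Submodule (CoordRing k d) N) :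
    ∃ m₁ : ℕ, ∀ m, m₁ ≤ m → ∀ v ∈ F.G (m + 1), v ∈ S → ∃ a ∈ F.G m, a ∈ S ∧ ∃ c : Fin d → N,
      (∀ i, c i ∈ F.G m ∧ c i ∈ S) ∧ v = a + ∑ i, (MvPolynomial.X i : CoordRing k d) • c i := by
  classical
  obtain ⟨m₀, hm₀⟩ := F.gen
  let Sy := MvPolynomial (Option (Fin d)) k
  let PM := PolynomialModule (CoordRing k d) N
  let φ : Sy →ₐ[k] Polynomial (CoordRing k d) := MvPolynomial.aeval fun o =>
    o.elim Polynomial.X fun i => Polynomial.C (MvPolynomial.X i) * Polynomial.X
  letI : Module Sy PM := Module.compHom PM φ.toRingHom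
  let xo : Option (Fin d) → CoordRing k d := fun o => o.elim 1 fun i => MvPolynomial.X i
  have hX : ∀ (o : Option (Fin d)) (p : PM) (j : ℕ),
      ((MvPolynomial.X o : Sy) • p).coeff j = if 1 ≤ j then xo o • p.coeff (j - 1) else 0 := by
    intro o p j
    show (φ (MvPolynomial.X o) • p).coeff j = _
    rw [show φ (MvPolynomial.X o) = Polynomial.monomial 1 (xo o) from (MvPolynomial.aeval_X _ o).trans (by
      cases o <;> simp [xo, ← Polynomial.C_mul_X_eq_monomial]), PolynomialModule.monomial_smul_apply]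
  have hC : ∀ (c : k) (p : PM) (j : ℕ), ((MvPolynomial.C c : Sy) • p).coeff j = c • p.coeff j := by
    intro c p j
    show (φ (MvPolynomial.C c) • p).coeff j = _
    rw [show φ (MvPolynomial.C c) = Polynomial.monomial 0 (algebraMap k (CoordRing k d) c) from
      (MvPolynomial.aeval_C _ c).trans (by simp [Polynomial.algebraMap_apply, Polynomial.monomial_zero_left]),
      PolynomialModule.monomial_smul_apply,
      if_pos (Nat.zero_le _), Nat.sub_zero, algebraMap_smul]
  have hxG : ∀ (o : Option (Fin d)) (m : ℕ), ∀ v ∈ F.G m, xo o • v ∈ F.G (m + 1) := fun o m v hv => by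
    cases o with
    | none => simpa [xo] using F.mono m hv
    | some i => exact F.mulX i m v hv
  let mkSub : ∀ (W : ℕ → Submodule k N),
      (∀ (o : Option (Fin d)) (m : ℕ), m₀ ≤ m → ∀ v ∈ W m, xo o • v ∈ W (m + 1)) → Submodule Sy PM := fun W hW =>
    { carrier := {p | ∀ j, p.coeff j ∈ W j ∧ (j < m₀ → p.coeff j = 0)}
      add_mem' := fun {a b} ha hb j => by
        rw [PolynomialModule.coeff_add, Finsupp.add_apply]
        exact ⟨(W j).add_mem (ha j).1 (hb j).1, fun h => by rw [(ha j).2 h, (hb j).2 h, add_zero]⟩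
      zero_mem' := fun j => ⟨by simp, fun _ => by simp⟩
      smul_mem' := fun s p hp => by
        induction s using MvPolynomial.induction_on generalizing p with
        | C c =>
          intro j
          rw [hC]
          exact ⟨(W j).smul_mem c (hp j).1, fun h => by rw [(hp j).2 h, smul_zero]⟩
        | add a b ha hb =>
          intro j
          rw [add_smul, PolynomialModule.coeff_add, Finsupp.add_apply]
          exact ⟨(W j).add_mem (ha p hp j).1 (hb p hp j).1, fun h => by rw [(ha p hp j).2 h, (hb p hp j).2 h, add_zero]⟩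
        | mul_X a o ha =>
          intro j
          rw [mul_comm, mul_smul, hX]
          have h := ha p hp
          split_ifs with hj
          · refine ⟨?_, fun hlt => by rw [(h (j - 1)).2 (by omega), smul_zero]⟩
            rcases lt_or_ge (j - 1) m₀ with hlt | hge
            · rw [(h (j - 1)).2 hlt, smul_zero]; exact (W j).zero_mem
            · simpa [Nat.sub_add_cancel hj] using hW o (j - 1) hge _ (h (j - 1)).1
          · exact ⟨(W j).zero_mem, fun _ => rfl⟩ }
  let H := mkSub F.G fun o m _ => hxG o m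
  let W : ℕ → Submodule k N := fun m => F.G m ⊓ S.restrictScalars k
  let HW := mkSub W fun o m _ v hv => ⟨hxG o m v hv.1, S.smul_mem _ hv.2⟩
  haveI := F.fin m₀
  obtain ⟨s, hs⟩ := Module.Finite.iff_fg.1 (inferInstance : Module.Finite k (F.G m₀))
  let sg : ℕ → N →+ PM := fun l => AddMonoidHom.mk' (PolynomialModule.single (CoordRing k d) l) fun a b =>
    PolynomialModule.ext (by rw [PolynomialModule.coeff_add, PolynomialModule.coeff_single,
      PolynomialModule.coeff_single, PolynomialModule.coeff_single, Finsupp.single_add])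
  let gens : Finset PM := s.image fun v => PolynomialModule.single (CoordRing k d) m₀ v
  have hH : H ≤ Submodule.span Sy (gens : Set PM) := by
    have h0 : ∀ v ∈ F.G m₀, PolynomialModule.single (CoordRing k d) m₀ v ∈ Submodule.span Sy (gens : Set PM) := by
      intro v hv
      rw [← hs] at hv
      induction hv using Submodule.span_induction with
      | mem w hw => exact Submodule.subset_span (Finset.mem_image_of_mem _ hw)
      | zero => rw [PolynomialModule.single_zero]; exact Submodule.zero_mem _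
      | add a b _ _ ha hb =>
        show sg m₀ (a + b) ∈ _
        rw [map_add]
        exact Submodule.add_mem _ ha hb
      | smul c a _ ha =>
        have e : PolynomialModule.single (CoordRing k d) m₀ (c • a) =
            (MvPolynomial.C c : Sy) • PolynomialModule.single (CoordRing k d) m₀ a := by
          refine PolynomialModule.ext (Finsupp.ext fun j => ?_)
          rw [hC, PolynomialModule.coeff_single, PolynomialModule.coeff_single, Finsupp.single_apply,
            Finsupp.single_apply]
          split_ifs <;> simp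
        rw [e]
        exact Submodule.smul_mem _ _ ha
    have hsingle : ∀ j, ∀ v ∈ F.G (m₀ + j),
        PolynomialModule.single (CoordRing k d) (m₀ + j) v ∈ Submodule.span Sy (gens : Set PM) := by
      intro j
      induction j with
      | zero => exact h0
      | succ j ih =>
        intro v hv
        obtain ⟨a, ha, c, hc, rfl⟩ := hm₀ (m₀ + j) (Nat.le_add_right _ _) v hv
        have e : ∀ (o : Option (Fin d)) (w : N),
            PolynomialModule.single (CoordRing k d) (m₀ + (j + 1)) (xo o • w) =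
              (MvPolynomial.X o : Sy) • PolynomialModule.single (CoordRing k d) (m₀ + j) w := by
          intro o w
          refine PolynomialModule.ext (Finsupp.ext fun l => ?_)
          rw [hX, PolynomialModule.coeff_single, PolynomialModule.coeff_single, Finsupp.single_apply,
            Finsupp.single_apply]
          split_ifs <;> first | rfl | omega | simp
        show sg (m₀ + (j + 1)) (a + _) ∈ _
        rw [map_add, map_sum]
        show PolynomialModule.single (CoordRing k d) (m₀ + (j + 1)) a + _ ∈ _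
        rw [show a = xo none • a from (one_smul _ a).symm, e]
        refine Submodule.add_mem _ (Submodule.smul_mem _ _ (ih a ha)) (Submodule.sum_mem _ fun i _ => ?_)
        show PolynomialModule.single (CoordRing k d) (m₀ + (j + 1)) _ ∈ _
        rw [show (MvPolynomial.X i : CoordRing k d) • c i = xo (some i) • c i from rfl, e]
        exact Submodule.smul_mem _ _ (ih _ (hc i))
    intro p hp
    have e : p = ∑ l ∈ p.coeff.support, PolynomialModule.single (CoordRing k d) l (p.coeff l) := by
      refine PolynomialModule.ext (Finsupp.ext fun l => ?_)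
      rw [PolynomialModule.coeff_sum, Finsupp.finsetSum_apply]
      simp only [PolynomialModule.coeff_single, Finsupp.single_apply, Finset.sum_ite_eq']
      split_ifs with h
      · rfl
      · rwa [Finsupp.notMem_support_iff] at h
    rw [e]
    refine Submodule.sum_mem _ fun l hl => ?_
    have hl' : m₀ ≤ l := by
      by_contra hlt
      exact Finsupp.mem_support_iff.1 hl ((hp l).2 (by omega))
    have := hsingle (l - m₀) (p.coeff l) (by rw [Nat.add_sub_cancel' hl']; exact (hp l).1)
    rwa [Nat.add_sub_cancel' hl'] at this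
  haveI : IsNoetherian Sy (Submodule.span Sy (gens : Set PM)) :=
    isNoetherian_span_of_finite Sy gens.finite_toSet
  have hHW : HW ≤ Submodule.span Sy (gens : Set PM) :=
    le_trans (show HW ≤ H from fun p hp j => ⟨(hp j).1.1, (hp j).2⟩) hH
  obtain ⟨T, hT⟩ : HW.FG := isNoetherian_submodule.1 inferInstance HW hHW
  let m₁ : ℕ := max m₀ (T.sup fun p => p.coeff.support.sup id)
  refine ⟨m₁, fun m hm v hv hvS => ?_⟩
  let J : Submodule k N :=
    { carrier := {w | ∃ a ∈ F.G m, a ∈ S ∧ ∃ c : Fin d → N,
        (∀ i, c i ∈ F.G m ∧ c i ∈ S) ∧ w = a + ∑ i, (MvPolynomial.X i : CoordRing k d) • c i}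
      add_mem' := by
        rintro _ _ ⟨a, ha, haS, c, hc, rfl⟩ ⟨a', ha', haS', c', hc', rfl⟩
        refine ⟨a + a', add_mem ha ha', add_mem haS haS', c + c',
          fun i => ⟨add_mem (hc i).1 (hc' i).1, add_mem (hc i).2 (hc' i).2⟩, ?_⟩
        simp only [Pi.add_apply, smul_add, Finset.sum_add_distrib]
        abel
      zero_mem' := ⟨0, zero_mem _, zero_mem _, 0, fun i => ⟨zero_mem _, zero_mem _⟩, by simp⟩
      smul_mem' := by
        rintro x _ ⟨a, ha, haS, c, hc, rfl⟩
        refine ⟨x • a, Submodule.smul_mem _ x ha, S.smul_of_tower_mem x haS, x • c,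
          fun i => ⟨Submodule.smul_mem _ x (hc i).1, S.smul_of_tower_mem x (hc i).2⟩, ?_⟩
        simp only [Pi.smul_apply, smul_add, Finset.smul_sum, smul_comm x] }
  have key : ∀ p ∈ HW, p.coeff (m + 1) ∈ J := by
    intro p hp
    rw [← hT] at hp
    induction hp using Submodule.span_induction with
    | mem q hq =>
      have h : q.coeff (m + 1) = 0 := Finsupp.notMem_support_iff.1 fun h => by
        have h1 := Finset.le_sup (f := id) h
        have h2 := Finset.le_sup (f := fun p : PM => p.coeff.support.sup id) hq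
        simp only [id] at h1
        omega
      rw [h]
      exact J.zero_mem
    | zero => simp
    | add a b _ _ ha hb => rw [PolynomialModule.coeff_add, Finsupp.add_apply]; exact J.add_mem ha hb
    | smul x q hq ih =>
      rw [hT] at hq
      induction x using MvPolynomial.induction_on generalizing q with
      | C c => rw [hC]; exact J.smul_mem c ih
      | add a b ha hb =>
        rw [add_smul, PolynomialModule.coeff_add, Finsupp.add_apply]
        exact J.add_mem (ha q hq ih) (hb q hq ih)
      | mul_X a o _ =>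
        rw [mul_comm, mul_smul, hX, if_pos (by omega), Nat.add_sub_cancel]
        have hy := (HW.smul_mem a hq m).1
        cases o with
        | none =>
          refine ⟨_, hy.1, hy.2, 0, fun i => ⟨zero_mem _, zero_mem _⟩, ?_⟩
          simp [xo]
        | some i =>
          refine ⟨0, zero_mem _, zero_mem _, Pi.single i ((a • q).coeff m), fun l => ?_, ?_⟩
          · by_cases hl : l = i
            · subst hl; rw [Pi.single_eq_same]; exact hy
            · simp [hl]
          · simp [xo, Pi.single_apply]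
  have hvW : PolynomialModule.single (CoordRing k d) (m + 1) v ∈ HW := fun j => by
    rw [PolynomialModule.coeff_single, Finsupp.single_apply]
    split_ifs with h
    · subst h
      exact ⟨⟨hv, hvS⟩, fun h' => by omega⟩
    · exact ⟨zero_mem _, fun _ => rfl⟩
  have := key _ hvW
  rw [PolynomialModule.coeff_single, Finsupp.single_eq_same] at this
  exact this

end Filt

namespace Sys

/-- The multiplicity of a subspace is its dimension. -/
theorem alpha_inf [NeZero d] (Φ : Sys k d r) (F₀ : Submodule (FunField k d) (Fin r → FunField k d))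
    {P : Polynomial ℚ} (hPd : P.natDegree ≤ d) {N₀ : ℕ}
    (hP : ∀ m : ℕ, N₀ ≤ m → (finrank k (Φ.Γ m ⊓ F₀.restrictScalars k : Submodule k _) : ℚ) = P.eval (m : ℚ)) :
    alpha d P = finrank (FunField k d) F₀ := by
  classical
  let bF := Module.finBasis (FunField k d) F₀
  let ψ : (Fin (finrank (FunField k d) F₀) → FunField k d) →ₗ[FunField k d] (Fin r → FunField k d) :=
    F₀.subtype ∘ₗ bF.equivFun.symm.toLinearMap
  have hψ : Function.Injective ψ := F₀.injective_subtype.comp bF.equivFun.symm.injective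
  obtain ⟨e₀, he₀⟩ := Φ.spans
  -- clear denominators of the basis in terms of sections
  have hden : ∀ β, ∃ (g : CoordRing k d) (m : ℕ), g ≠ 0 ∧
      algebraMap _ (FunField k d) g • (bF β : Fin r → FunField k d) ∈ Φ.Γ (m : ℤ) := by
    intro β
    obtain ⟨nn, c, v, hv⟩ := Submodule.mem_span_set'.1
      (he₀ ▸ Submodule.mem_top (x := (bF β : Fin r → FunField k d)))
    obtain ⟨g, hg⟩ := IsLocalization.exist_integer_multiples_of_finite (nonZeroDivisors (CoordRing k d)) c
    choose q hq using hg
    let D : ℕ := Finset.univ.sup fun l => (q l).totalDegree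
    refine ⟨g, (e₀ + D).toNat, nonZeroDivisors.ne_zero g.2, ?_⟩
    rw [← hv, Finset.smul_sum]
    refine Φ.le_of_le (show e₀ + (D : ℤ) ≤ ((e₀ + D).toNat : ℤ) by omega) ?_
    have h := Φ.sum_smul_mem (N := nn) (fun l => (v l : Fin r → FunField k d)) (fun l => (v l).2) D
      (f := fun l => algebraMap _ _ (q l)) (fun l => ⟨q l, Or.inr (by
        rw [add_sub_cancel_left]
        exact_mod_cast Finset.le_sup (f := fun l => (q l).totalDegree) (Finset.mem_univ l)), rfl⟩)
    convert h using 1
    refine Finset.sum_congr rfl fun l _ => ?_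
    rw [smul_smul, hq, ← Algebra.smul_def]
  choose g f hg hf using hden
  let m₁ : ℕ := Finset.univ.sup f
  let v : Fin (finrank (FunField k d) F₀) → Fin r → FunField k d := fun β =>
    algebraMap _ (FunField k d) (g β) • (bF β : Fin r → FunField k d)
  have hv : ∀ β, v β ∈ Φ.Γ (m₁ : ℤ) := fun β =>
    Φ.le_of_le (Int.ofNat_le.2 (Finset.le_sup (Finset.mem_univ β))) (hf β)
  have hvli : LinearIndependent (FunField k d) v := by
    refine (Fintype.linearIndependent_iff.2 fun c hc β => ?_)
    have h0 : ∑ β, (c β * algebraMap _ _ (g β)) • bF β = 0 := Subtype.ext (by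
      simp only [v, smul_smul] at hc
      rw [Submodule.coe_sum]
      simpa only [Submodule.coe_smul, ZeroMemClass.coe_zero] using hc)
    exact (mul_eq_zero.1 (Fintype.linearIndependent_iff.1 bF.linearIndependent _ h0 β)).resolve_right
      (algebraMap_fun_ne_zero (hg β))
  have hspan : ∃ e, Submodule.span (FunField k d)
      (((Φ.Γ e).comap (ψ.restrictScalars k) : Submodule k _) : Set (Fin (finrank (FunField k d) F₀) → FunField k d)) = ⊤ := by
    refine ⟨m₁, eq_top_iff.2 ?_⟩
    rw [← (Pi.basisFun (FunField k d) (Fin (finrank (FunField k d) F₀))).span_eq, Submodule.span_le]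
    rintro _ ⟨β, rfl⟩
    rw [Pi.basisFun_apply, ← inv_smul_smul₀ (algebraMap_fun_ne_zero (hg β))
      (Pi.single β (1 : FunField k d) : Fin (finrank (FunField k d) F₀) → FunField k d)]
    refine Submodule.smul_mem _ _ (Submodule.subset_span ?_)
    show ψ (_ • Pi.single β 1) ∈ Φ.Γ (m₁ : ℤ)
    rw [map_smul, show ψ (Pi.single β 1) = bF β by simp [ψ]]
    exact hv β
  let Ψ := Φ.comap ψ hψ hspan
  have hup : ∀ m : ℕ, N₀ ≤ m → P.eval (m : ℚ) ≤ finrank k (Ψ.Γ m) := by
    intro m hm
    rw [← hP m hm, Nat.cast_le]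
    haveI := Φ.fin (m : ℤ)
    have e : (Φ.Γ m ⊓ F₀.restrictScalars k : Submodule k _) = (Ψ.Γ m).map (ψ.restrictScalars k) := by
      refine le_antisymm ?_ ?_
      · rintro w ⟨hw, hwF⟩
        refine ⟨bF.equivFun ⟨w, hwF⟩, ?_, by simp [ψ]⟩
        show ψ _ ∈ Φ.Γ m
        simpa [ψ] using hw
      · rintro _ ⟨u, hu, rfl⟩
        exact ⟨hu, (bF.equivFun.symm u).2⟩
    rw [e]
    haveI := Ψ.fin (m : ℤ)
    exact Submodule.finrank_map_le _ _
  refine le_antisymm (Ψ.alpha_le hPd hup).1 ?_
  have h2 := alpha_compare (P := Polynomial.C (finrank (FunField k d) F₀ : ℚ) * binPoly d (-(m₁ : ℚ))) (Q := P)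
    ((Polynomial.natDegree_C_mul_le _ _).trans (natDegree_binPoly_le _ _)) hPd (N₀ := max N₀ m₁) ?_
  · have h3 := h2.1
    rw [show alpha d (Polynomial.C (finrank (FunField k d) F₀ : ℚ) * binPoly d (-(m₁ : ℚ))) =
      (finrank (FunField k d) F₀ : ℚ) * alpha d (binPoly d (-(m₁ : ℚ))) by
        simp only [alpha, Polynomial.coeff_C_mul]; ring, alpha_binPoly, mul_one] at h3
    exact h3
  intro m hm
  obtain ⟨n, rfl⟩ : ∃ n : ℕ, m = m₁ + n := ⟨m - m₁, by omega⟩
  rw [← hP _ (le_of_max_le_left hm), Polynomial.eval_mul, Polynomial.eval_C, ← Int.cast_natCast (R := ℚ) m₁,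
    ← Int.cast_natCast (R := ℚ) (m₁ + n), eval_binPoly d _ _ (by push_cast; omega), bn,
    if_neg (by push_cast; omega), show (((m₁ + n : ℕ) : ℤ) - (m₁ : ℤ)).toNat = n by omega, ← Nat.cast_mul,
    Nat.cast_le]
  haveI : Module.Finite k (freeΓ k d (finrank (FunField k d) F₀) (m₁ : ℤ) ((m₁ : ℤ) + n)) :=
    (freeSys k d _ (m₁ : ℤ)).fin _
  haveI := Φ.fin ((m₁ + n : ℕ) : ℤ)
  haveI : Module.Finite k (Φ.Γ ((m₁ + n : ℕ) : ℤ) ⊓ F₀.restrictScalars k : Submodule k _) :=
    Submodule.finiteDimensional_of_le inf_le_left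
  refine (finrank_freeΓ_ge (k := k) (d := d) _ (m₁ : ℤ) n).trans ?_
  let π := (Fintype.linearCombination (FunField k d) v).restrictScalars k
  refine LinearMap.finrank_le_finrank_of_injective (f := (π.domRestrict _).codRestrict _ fun x => ⟨?_, ?_⟩) ?_
  · rw [LinearMap.domRestrict_apply, LinearMap.restrictScalars_apply, Fintype.linearCombination_apply]
    push_cast
    exact Φ.sum_smul_mem v hv n x.2
  · rw [LinearMap.domRestrict_apply, LinearMap.restrictScalars_apply, Fintype.linearCombination_apply]
    exact F₀.sum_mem fun β _ => F₀.smul_mem _ (F₀.smul_mem _ (bF β).2)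
  · intro x y hxy
    exact Subtype.ext (linearIndependent_iff_injective_fintypeLinearCombination.1 hvli (congrArg Subtype.val hxy))

end Sys

end Groth.Agent.SimpsonEst

end
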