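import Groth.Agent.SimpsonEst.Chart
import Groth.Agent.SimpsonEst.Model
import Groth.Agent.GrothLem.PureRestrict
import Groth.Agent.HilbBound.Closed

/-!
# The system of a pure sheaf and a projection
-/

set_option autoImplicit false
set_option linter.style.haveILetI false
set_option linter.unusedSectionVars false
set_option backward.isDefEq.respectTransparency false
set_option backward.isDefEq.respectTransparency.types false
set_option maxHeartbeats 1000000

universe u

open CategoryTheory CategoryTheory.Limits AlgebraicGeometry TopologicalSpace Opposite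

noncomputable section

namespace Groth.Agent.SimpsonEst

open Groth.Agent Groth.Agent.RegEpi Groth.Agent.HilbBound Groth.Agent.PnCoh.Finite

variable {k : Type u} [Field k] {n d : ℕ}

local notation "PP" => Proj (CohB1.polyGrading n k)
local notation "MOD" => Scheme.Modules (Proj (CohB1.polyGrading n k))
local notation "Lin" => (CohB1.polyGrading n k) 1

attribute [local instance 10000] HilbBound.projOver

/-- The sections over the complement of the first hyperplane, as a module over affine `d`-space. -/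
@[ext] structure Sect (M : MOD) (l : Lin) (y : Fin d → Lin) : Type u where
  /-- The section. -/
  val : Γ(M, UL l)

/-- The projection on functions. -/
def projMap (l : Lin) (y : Fin d → Lin) : CoordRing k d →+* Γ(PP, UL l) :=
  MvPolynomial.eval₂Hom (glU l) fun i => coord l (y i)

variable {M : Scheme.Modules (Proj (CohB1.polyGrading n k))} {l : (CohB1.polyGrading n k) 1}
  {y : Fin d → (CohB1.polyGrading n k) 1}

/-- The underlying section. -/
def Sect.equiv : Sect M l y ≃ Γ(M, UL l) := ⟨Sect.val, Sect.mk, fun _ => rfl, fun _ => rfl⟩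

instance : AddCommGroup (Sect M l y) := Sect.equiv.addCommGroup
instance : Module Γ(PP, UL l) (Sect M l y) := Sect.equiv.module Γ(PP, UL l)
instance instModuleK : Module k (Sect M l y) := Module.compHom _ (glU l)
instance instModuleCoord : Module (CoordRing k d) (Sect M l y) := Module.compHom _ (projMap l y)
instance : IsScalarTower k (CoordRing k d) (Sect M l y) :=
  IsScalarTower.of_algebraMap_smul fun c x => by
    show projMap l y (MvPolynomial.C c) • x = glU l c • x
    rw [projMap, MvPolynomial.eval₂Hom_C]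

theorem coordRing_smul_def (a : CoordRing k d) (x : Sect M l y) : a • x = projMap l y a • x := rfl

theorem k_smul_def (c : k) (x : Sect M l y) : c • x = glU l c • x := rfl

theorem X_smul (i : Fin d) (x : Sect M l y) :
    (MvPolynomial.X i : CoordRing k d) • x = coord l (y i) • x := by
  rw [coordRing_smul_def, projMap, MvPolynomial.eval₂Hom_X']

/-- A module is torsion-free over affine `d`-space if its associated primes have coheight `d`. -/
theorem isSMulRegular_of_coheight {B N : Type u} [CommRing B] [IsNoetherianRing B] [AddCommGroup N] [Module B N]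
    [Algebra (CoordRing k d) B] [Module (CoordRing k d) N] [IsScalarTower (CoordRing k d) B N]
    [Module.Finite (CoordRing k d) N]
    (h : ∀ P : PrimeSpectrum B, P.asIdeal ∈ associatedPrimes B N → Order.coheight P = (d : ℕ∞))
    {a : CoordRing k d} (ha : a ≠ 0) : IsSMulRegular N a := by
  intro x x' hxx'
  by_contra hne
  have h0 : algebraMap (CoordRing k d) B a • (x - x') = 0 := by
    rw [algebraMap_smul, smul_sub, sub_eq_zero]
    exact hxx'
  have hmem : algebraMap (CoordRing k d) B a ∈ ⋃ p ∈ associatedPrimes B N, (p : Set B) := by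
    rw [biUnion_associatedPrimes_eq_zero_divisors]
    exact ⟨x - x', sub_ne_zero.2 hne, h0⟩
  obtain ⟨p, hp, hap⟩ := Set.mem_iUnion₂.1 hmem
  obtain ⟨hpr, z, hz⟩ := isAssociatedPrime_iff.1 hp
  let P : PrimeSpectrum B := ⟨p, hpr⟩
  have hP : Order.coheight P = (d : ℕ∞) := h P hp
  -- the quotient embeds in the module
  let f : B →ₗ[CoordRing k d] N := (LinearMap.toSpanSingleton B N z).restrictScalars (CoordRing k d)
  have hker : ∀ b, f b = 0 ↔ b ∈ p := fun b => by
    rw [hz, Submodule.mem_colon_singleton, Submodule.mem_bot]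
    rfl
  let g : (B ⧸ p) →ₗ[CoordRing k d] N :=
    (p.restrictScalars (CoordRing k d)).liftQ f fun b hb => (hker b).2 hb
  have hg : Function.Injective g := (injective_iff_map_eq_zero g).2 fun q hq => by
    obtain ⟨b, rfl⟩ := Ideal.Quotient.mk_surjective q
    exact Ideal.Quotient.eq_zero_iff_mem.2 ((hker b).1 hq)
  haveI : Module.Finite (CoordRing k d) (B ⧸ p) := Module.Finite.of_injective g hg
  haveI : Algebra.IsIntegral (CoordRing k d) (B ⧸ p) := Algebra.IsIntegral.of_finite _ _
  obtain ⟨P', hP'⟩ : P ∈ Set.range (PrimeSpectrum.comap (Ideal.Quotient.mk p)) := by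
    rw [range_comap_of_surjective _ _ Ideal.Quotient.mk_surjective, Ideal.mk_ker]
    show p ≤ P.asIdeal
    exact le_refl p
  have hco : Order.coheight P' = (d : ℕ∞) := by
    rw [← hP, ← hP', ← Ideal.Quotient.algebraMap_eq, VarDim.coheight_comap]
  let Q := PrimeSpectrum.comap (algebraMap (CoordRing k d) (B ⧸ p)) P'
  have hht := VarDim.height_add_coheight_le Q
  rw [VarDim.coheight_comap, hco, MvPolynomial.ringKrullDim_of_isNoetherianRing, ringKrullDim_eq_zero_of_field,
    zero_add, Nat.card_fin] at hht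
  have hh : Order.height Q = 0 := by
    have h2 : Order.height Q + (d : ℕ∞) ≤ 0 + (d : ℕ∞) := by rw [zero_add]; exact_mod_cast hht
    exact le_antisymm ((ENat.add_le_add_iff_right (ENat.natCast_ne_top d)).1 h2) bot_le
  rw [Order.height_eq_zero] at hh
  have haQ : a ∈ Q.asIdeal := by
    show Ideal.Quotient.mk p (algebraMap (CoordRing k d) B a) ∈ P'.asIdeal
    exact (congrArg PrimeSpectrum.asIdeal hP').ge hap
  exact ha (by simpa using hh (b := ⟨⊥, Ideal.isPrime_bot⟩) bot_le haQ)


section Range

variable {X : Scheme.{u}} [X.Over (Spec (CommRingCat.of k))]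

/-- The image of the global sections under a linear injection has the dimension of the cohomology. -/
theorem finrank_of_injective (F : X.Modules) [Module.Finite k (Coh.HH X F 0)] {V : Type u} [AddCommGroup V]
    [Module k V] (f : Γ(F, ⊤) →+ V)
    (hf : ∀ (c : k) (x : Γ(F, ⊤)),
      f ((show Γ(X, ⊤) from Coh.toGlobal (X ↘ Spec (CommRingCat.of k)) c) • x) = c • f x)
    (hinj : Function.Injective f) (W : Submodule k V) (hW : ∀ v, v ∈ W ↔ ∃ x, f x = v) :
    Module.Finite k W ∧ Module.finrank k W = Module.finrank k (Coh.HH X F 0) := by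
  let L : Coh.HH X F 0 →ₗ[k] V :=
    { toFun := fun x => f (GrothLem.eGl F x)
      map_add' := fun x y => by rw [map_add, map_add]
      map_smul' := fun c x => by rw [GrothLem.eGl_smul]; exact hf c _ }
  have hL : Function.Injective L := hinj.comp (GrothLem.eGl F).injective
  have hWL : W = LinearMap.range L := SetLike.ext fun v => (hW v).trans
    ⟨fun ⟨x, hx⟩ => ⟨(GrothLem.eGl F).symm x, (congrArg f (AddEquiv.apply_symm_apply _ x)).trans hx⟩,
      fun ⟨x, hx⟩ => ⟨_, hx⟩⟩
  subst hWL
  exact ⟨inferInstance, LinearMap.finrank_range_of_inj hL⟩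

end Range

/-- A projection adapted to a pure sheaf of dimension `d`. -/
structure Setup (M : MOD) (l : Lin) (y : Fin d → Lin) : Prop where
  coh : Coh.IsCoh M
  ass : ∀ x, Curv2.IsWeakAssPoint M x → x ∈ UL l
  pure : GrothLem.IsPureDeg M d
  dim : HilbPoly.DimLT M (d + 1)
  gen : ∃ m₀, ∀ m, m₀ ≤ m → ∀ x : Γ(itM M (m + 1), ⊤),
    ∃ (a : Γ(itM M m, ⊤)) (b : Fin d → Γ(itM M m, ⊤)),
      x = mulA M m l a + ∑ i, mulA M m (y i) (b i)

namespace Setup

variable (S : Setup M l y)

/-- Twisted sections in the module. -/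
def secL (m : ℕ) : Γ(itM M m, ⊤) →+ Sect M l y where
  toFun x := ⟨secU l S.coh m x⟩
  map_zero' := Sect.ext (map_zero _)
  map_add' x y := Sect.ext (map_add _ x y)

theorem secL_mulA (m : ℕ) (a : Lin) (x : Γ(itM M m, ⊤)) :
    S.secL (m + 1) (mulA M m a x) = coord l a • S.secL m x :=
  Sect.ext (secU_mulA l S.coh m a x)

theorem secL_smul (m : ℕ) (c : k) (x : Γ(itM M m, ⊤)) : S.secL m ((gl c : Γ(PP, ⊤)) • x) = c • S.secL m x :=
  Sect.ext (secU_smul l S.coh m c x)

theorem secL_injective (m : ℕ) : Function.Injective (S.secL m) :=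
  fun _ _ h => secU_injective l S.coh S.ass m (congrArg Sect.val h)

/-- The image of the twisted sections. -/
def secSub (m : ℕ) : Submodule k (Sect M l y) where
  toAddSubmonoid := AddMonoidHom.mrange (S.secL m)
  smul_mem' := by
    rintro c _ ⟨x, rfl⟩
    exact ⟨(gl c : Γ(PP, ⊤)) • x, S.secL_smul m c x⟩

include S in
theorem secSub_spec (m : ℕ) :
    Module.Finite k (S.secSub m) ∧ Module.finrank k (S.secSub m) = dimH (k := k) (itM M m) 0 :=
  haveI : Module.Finite k (Coh.HH PP (itM M m) 0) := projSpace_finite_HH n k _ (isCoh_itM S.coh m) 0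
  finrank_of_injective (itM M m) (S.secL m) (S.secL_smul m) (S.secL_injective m) (S.secSub m) fun _ => Iff.rfl

theorem finite_secSub (m : ℕ) : Module.Finite k (S.secSub m) := (S.secSub_spec m).1

theorem finrank_secSub (m : ℕ) : Module.finrank k (S.secSub m) = h0 M (m : ℤ) :=
  (S.secSub_spec m).2.trans (dimH_itM M m)

theorem mulX_mem (i : Fin d) (m : ℕ) {v : Sect M l y} (hv : v ∈ S.secSub m) :
    (MvPolynomial.X i : CoordRing k d) • v ∈ S.secSub (m + 1) := by
  obtain ⟨x, rfl⟩ := hv
  exact ⟨mulA M m (y i) x, by rw [secL_mulA, X_smul]⟩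

theorem mono_mem (m : ℕ) : S.secSub m ≤ S.secSub (m + 1) := by
  rintro _ ⟨x, rfl⟩
  exact ⟨mulA M m l x, by rw [secL_mulA, coord_self, one_smul]⟩

include S in
theorem exhaust_mem (v : Sect M l y) : ∃ m, v ∈ S.secSub m := by
  obtain ⟨m, x, hx⟩ := exists_secU_eq l S.coh v.val
  exact ⟨m, x, Sect.ext hx⟩

include S in
theorem gen_mem : ∃ m₀, ∀ m, m₀ ≤ m → ∀ v ∈ S.secSub (m + 1), ∃ a ∈ S.secSub m, ∃ c : Fin d → Sect M l y,
    (∀ i, c i ∈ S.secSub m) ∧ v = a + ∑ i, (MvPolynomial.X i : CoordRing k d) • c i := by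
  obtain ⟨m₀, hm₀⟩ := S.gen
  refine ⟨m₀, ?_⟩
  rintro m hm _ ⟨x, rfl⟩
  obtain ⟨a, b, rfl⟩ := hm₀ m hm x
  refine ⟨S.secL m a, ⟨a, rfl⟩, fun i => S.secL m (b i), fun i => ⟨b i, rfl⟩, ?_⟩
  simp only [map_add, map_sum, secL_mulA, coord_self, one_smul, X_smul]

/-- The filtration by the degrees of twisted sections. -/
def filt : Filt k d (Sect M l y) where
  G := S.secSub
  mono := S.mono_mem
  mulX i m _ hv := S.mulX_mem i m hv
  fin := S.finite_secSub
  exhaust := S.exhaust_mem
  gen := S.gen_mem

theorem filt_G (m : ℕ) : S.filt.G m = S.secSub m := rfl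

theorem finrank_G (m : ℕ) : Module.finrank k (S.filt.G m) = h0 M (m : ℤ) := S.finrank_secSub m

include S in
theorem torsionFree {a : CoordRing k d} (ha : a ≠ 0) : IsSMulRegular (Sect M l y) a := by
  haveI : IsNoetherian PP := Proj16.isNoetherian_proj _
  haveI : IsNoetherianRing Γ(PP, UL l) := IsLocallyNoetherian.component_noetherian ⟨UL l, isAffineOpen_UL l⟩
  haveI := S.filt.finite
  letI : Algebra (CoordRing k d) Γ(PP, UL l) := (projMap l y).toAlgebra
  haveI : IsScalarTower (CoordRing k d) Γ(PP, UL l) (Sect M l y) :=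
    IsScalarTower.of_algebraMap_smul fun _ _ => rfl
  refine isSMulRegular_of_coheight (B := Γ(PP, UL l)) (fun P hP => ?_) ha
  obtain ⟨-, z, hz⟩ := isAssociatedPrime_iff.1 hP
  have hz' : P.asIdeal = (⊥ : Submodule Γ(PP, UL l) Γ(M, UL l)).colon {z.val} := by
    rw [hz]
    refine SetLike.ext fun b => ?_
    rw [Submodule.mem_colon_singleton, Submodule.mem_colon_singleton, Submodule.mem_bot, Submodule.mem_bot,
      Sect.ext_iff]
    rfl
  obtain ⟨w, hw, hwp, hwa⟩ := AssPtX.exists_isWeakAssPoint S.coh.1 (isAffineOpen_UL l) (p := P.asIdeal) (by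
    refine WeakAss.mem_weakAss_iff.2 ⟨z.val, ?_⟩
    rw [← AssPtX.colon_bot_singleton, ← hz', Ideal.minimalPrimes_eq_subsingleton_self, Set.mem_singleton_iff])
  rw [← show (isAffineOpen_UL l).primeIdealOf ⟨w, hw⟩ = P from PrimeSpectrum.ext hwp,
    VarDim.deg_eq_coheight (PP ↘ Spec (CommRingCat.of k)) (isAffineOpen_UL l),
    (isAffineOpen_UL l).fromSpec_primeIdealOf, S.pure w hwa]

include S in
theorem finite_sect : Module.Finite (CoordRing k d) (Sect M l y) := S.filt.finite

include S in
theorem exists_coords : ∃ (r : ℕ) (θ : Coords k d (Sect M l y) r) (z : Fin r → Sect M l y),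
    Function.Injective θ ∧ ∀ α, θ (z α) = Pi.single α 1 := by
  haveI := S.finite_sect
  exact exists_embed fun a ha => S.torsionFree ha

include S in
/-- The sections are eventually given by the Hilbert polynomial. -/
theorem exists_finrank_eq {P : Polynomial ℚ} (hP : ∀ t : ℤ, (chi (k := k) (n := n) M t : ℚ) = P.eval (t : ℚ)) :
    ∃ N₀ : ℕ, ∀ m, N₀ ≤ m → (Module.finrank k (S.filt.G m) : ℚ) = P.eval (m : ℚ) := by
  obtain ⟨ρ, hρ⟩ := exists_isMRegular S.coh
  refine ⟨ρ.toNat, fun m hm => ?_⟩
  rw [finrank_G, ← Int.cast_natCast (R := ℚ) m, ← hP, chi_eq,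
    euler_eq_single fun i hi => subsingleton_of_regular S.coh hρ hi (by omega)]
  rfl

end Setup

end Groth.Agent.SimpsonEst

end
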