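import Groth.Agent.SimpsonEst.Maps

/-!
# A gap in the degrees on the generic line gives a subsystem
-/

set_option autoImplicit false
set_option maxHeartbeats 1000000
set_option synthInstance.maxHeartbeats 100000

universe u

noncomputable section

namespace Groth.Agent.SimpsonEst

open Polynomial Module StabCat

variable {k : Type u} [Field k] {d r : ℕ}

/-- Affine functions of the parameter of the line. -/
def IsAff (z : LineField k d) : Prop :=
  ∃ a b : ParField k d, z = algebraMap (ParField k d) (LineField k d) a +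
    algebraMap (ParField k d) (LineField k d) b * RatFunc.X

theorem IsAff.add {x y : LineField k d} (hx : IsAff x) (hy : IsAff y) : IsAff (x + y) := by
  obtain ⟨a, b, rfl⟩ := hx
  obtain ⟨a', b', rfl⟩ := hy
  exact ⟨a + a', b + b', by rw [map_add, map_add]; ring⟩

theorem IsAff.const_mul (c : ParField k d) {x : LineField k d} (hx : IsAff x) :
    IsAff (algebraMap (ParField k d) (LineField k d) c * x) := by
  obtain ⟨a, b, rfl⟩ := hx
  exact ⟨c * a, c * b, by rw [map_mul, map_mul]; ring⟩

theorem isAff_movePar (e : Option (Fin d)) (j : Fin d ⊕ Fin d) : IsAff (movePar (k := k) e j) := by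
  have hz : IsAff (0 : LineField k d) := ⟨0, 0, by simp⟩
  cases e with
  | none =>
    cases j with
    | inl i => exact ⟨-algebraMap (ParRing k d) (ParField k d) (ww i), 0, by simp [movePar]⟩
    | inr i => exact hz
  | some i =>
    cases j with
    | inl l =>
      by_cases h : i = l
      · exact ⟨0, -1, by simp [movePar, h]⟩
      · simpa [movePar, h] using hz
    | inr l =>
      by_cases h : i = l
      · exact ⟨1, 0, by simp [movePar, h]⟩
      · simpa [movePar, h] using hz

theorem isAff_D_parRing (e : Option (Fin d)) (x : ParRing k d) :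
    IsAff (D e (algebraMap (ParField k d) (LineField k d) (algebraMap (ParRing k d) (ParField k d) x))) := by
  induction x using MvPolynomial.induction_on with
  | C a => rw [D_const]; exact ⟨0, 0, by simp⟩
  | add f g hf hg => simp only [map_add, D_add]; exact hf.add hg
  | mul_X f j hf =>
    rw [map_mul, map_mul, D_mul, D_par]
    exact ((isAff_movePar e j).const_mul _).add (hf.const_mul _)

theorem isAff_D_par (e : Option (Fin d)) (c : ParField k d) :
    IsAff (D e (algebraMap (ParField k d) (LineField k d) c)) := by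
  obtain ⟨a, b, hb, rfl⟩ := IsFractionRing.div_surjective (ParRing k d) c
  have hb0 : algebraMap (ParRing k d) (ParField k d) b ≠ 0 := fun h => nonZeroDivisors.ne_zero hb
    (IsFractionRing.injective (ParRing k d) (ParField k d) (h.trans (map_zero _).symm))
  have hb1 : algebraMap (ParField k d) (LineField k d) (algebraMap (ParRing k d) (ParField k d) b) ≠ 0 :=
    fun h => hb0 ((algebraMap (ParField k d) (LineField k d)).injective (h.trans (map_zero _).symm))
  let c' := algebraMap (ParRing k d) (ParField k d) a / algebraMap (ParRing k d) (ParField k d) b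
  have h := D_mul e (algebraMap (ParField k d) (LineField k d) c')
    (algebraMap (ParField k d) (LineField k d) (algebraMap (ParRing k d) (ParField k d) b))
  rw [← map_mul, div_mul_cancel₀ _ hb0] at h
  have h2 : D e (algebraMap (ParField k d) (LineField k d) c') =
      algebraMap (ParField k d) (LineField k d) (algebraMap (ParRing k d) (ParField k d) b)⁻¹ *
        (D e (algebraMap (ParField k d) (LineField k d) (algebraMap (ParRing k d) (ParField k d) a)) +
          algebraMap (ParField k d) (LineField k d) (-c') *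
            D e (algebraMap (ParField k d) (LineField k d) (algebraMap (ParRing k d) (ParField k d) b))) := by
    rw [h, map_inv₀, map_neg]
    field_simp
    ring
  rw [h2]
  exact ((isAff_D_parRing e a).add ((isAff_D_parRing e b).const_mul _)).const_mul _

theorem IsAff.reg {z : LineField k d} (h : IsAff z) : Reg z := by
  obtain ⟨a, b, rfl⟩ := h
  exact (reg_algebraMap_field a).add ((reg_algebraMap_field b).mul reg_X)

theorem reg_moveX (e : Option (Fin d)) : Reg (moveX (k := k) e) := by
  cases e with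
  | none =>
    rw [show moveX (k := k) (none : Option (Fin d)) = algebraMap (Polynomial (ParField k d)) (LineField k d) 1 by
      simp [moveX]]
    exact reg_algebraMap _
  | some i => exact reg_zero

theorem reg_D_poly (e : Option (Fin d)) (q : Polynomial (ParField k d)) :
    Reg (D e (algebraMap (Polynomial (ParField k d)) (LineField k d) q)) := by
  induction q using Polynomial.induction_on with
  | C a =>
    rw [RatFunc.algebraMap_C, ← RatFunc.algebraMap_eq_C]
    exact (isAff_D_par e a).reg
  | add f g hf hg => simp only [map_add, D_add]; exact hf.add hg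
  | monomial n a h =>
    rw [pow_succ, ← mul_assoc, map_mul, D_mul, RatFunc.algebraMap_X, D_X]
    exact ((reg_algebraMap _).mul (reg_moveX e)).add (reg_X.mul h)

theorem Reg.D {x : LineField k d} (hx : Reg x) (e : Option (Fin d)) : Reg (D e x) := by
  have hd0 : algebraMap (Polynomial (ParField k d)) (LineField k d) x.denom ≠ 0 :=
    RatFunc.algebraMap_ne_zero x.denom_ne_zero
  have hinv : Reg (algebraMap (Polynomial (ParField k d)) (LineField k d) x.denom)⁻¹ := by
    rw [← one_div, ← map_one (algebraMap (Polynomial (ParField k d)) (LineField k d))]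
    intro h
    obtain ⟨c, hc⟩ := RatFunc.denom_div_dvd (1 : Polynomial (ParField k d)) x.denom
    have := congrArg (Polynomial.eval 0) hc
    rw [eval_mul, h, zero_mul] at this
    exact hx this
  have h := D_mul e x (algebraMap (Polynomial (ParField k d)) (LineField k d) x.denom)
  have hn : x * algebraMap (Polynomial (ParField k d)) (LineField k d) x.denom =
      algebraMap (Polynomial (ParField k d)) (LineField k d) x.num := by
    nth_rw 1 [← RatFunc.num_div_denom x]
    rw [div_mul_cancel₀ _ hd0]
  rw [hn] at h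
  have h2 : SimpsonEst.D e x = (algebraMap (Polynomial (ParField k d)) (LineField k d) x.denom)⁻¹ *
      (SimpsonEst.D e (algebraMap (Polynomial (ParField k d)) (LineField k d) x.num) +
        algebraMap (ParField k d) (LineField k d) (-1) * (x *
          SimpsonEst.D e (algebraMap (Polynomial (ParField k d)) (LineField k d) x.denom))) := by
    rw [h, map_neg, map_one, neg_one_mul, add_comm (x * _) _, add_neg_cancel_right, inv_mul_cancel_left₀ hd0]
  rw [h2]
  exact hinv.mul ((reg_D_poly e _).add ((reg_algebraMap_field _).mul (hx.mul (reg_D_poly e _))))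

/-- The derivations, coordinatewise. -/
def DV (e : Option (Fin d)) (u : Fin r → LineField k d) : Fin r → LineField k d := fun α => D e (u α)

theorem DV_smul (e : Option (Fin d)) (c : LineField k d) (u : Fin r → LineField k d) :
    DV e (c • u) = c • DV e u + D e c • u := by
  ext α
  simp only [DV, Pi.smul_apply, Pi.add_apply, smul_eq_mul, D_mul]
  ring

theorem DV_add (e : Option (Fin d)) (u v : Fin r → LineField k d) : DV e (u + v) = DV e u + DV e v :=
  funext fun _ => D_add e _ _

theorem DV_zero (e : Option (Fin d)) : DV e (0 : Fin r → LineField k d) = 0 := funext fun _ => D_zero e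

theorem DV_inclV (e : Option (Fin d)) (v : Fin r → FunField k d) : DV e (inclV v) = 0 :=
  funext fun _ => D_incl e _

/-- A subspace stable under all motions is defined over the function field. -/
theorem exists_descent [CharZero k] (F : Submodule (LineField k d) (Fin r → LineField k d))
    (hF : ∀ e, ∀ x ∈ F, DV e x ∈ F) :
    ∃ ψ : (Fin (finrank (LineField k d) F) → FunField k d) →ₗ[FunField k d] (Fin r → FunField k d),
      Function.Injective ψ ∧ F = LinearMap.range (inclLin ψ) := by
  classical
  obtain ⟨s, hs, hsinj⟩ := exists_coords F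
  let R : F →ₗ[LineField k d] (s → LineField k d) :=
    LinearMap.pi fun α => (LinearMap.proj (α : Fin r)).comp F.subtype
  have hR : Function.Injective R := by
    refine (injective_iff_map_eq_zero R).2 fun z hz => Subtype.ext (hsinj _ z.2 fun α hα => ?_)
    exact congr_fun hz ⟨α, hα⟩
  have hcard : finrank (LineField k d) F = s.card := by
    refine le_antisymm ((LinearMap.finrank_le_finrank_of_injective hR).trans (le_of_eq ?_)) hs
    rw [Module.finrank_pi, Fintype.card_coe]
  have hRs : Function.Surjective R :=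
    (LinearMap.injective_iff_surjective_of_finrank_eq_finrank
      (by rw [Module.finrank_pi, Fintype.card_coe, hcard])).1 hR
  choose f hf using fun β : s => hRs (Pi.single β 1)
  have hconst : ∀ β : s, ∃ v : Fin r → FunField k d, inclV v = (f β : Fin r → LineField k d) := by
    intro β
    have h1 : ∀ e, DV e (f β : Fin r → LineField k d) = 0 := fun e => by
      refine hsinj _ (hF e _ (f β).2) fun α hα => ?_
      show D e ((f β : Fin r → LineField k d) α) = 0
      rw [show (f β : Fin r → LineField k d) α = (Pi.single β 1 : s → LineField k d) ⟨α, hα⟩ from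
        congr_fun (hf β) ⟨α, hα⟩]
      rcases eq_or_ne β ⟨α, hα⟩ with rfl | h
      · rw [Pi.single_eq_same, D_one]
      · rw [Pi.single_eq_of_ne h.symm, D_zero]
    choose v hv using fun α => mem_range_incl_of_D (x := (f β : Fin r → LineField k d) α) fun e => congr_fun (h1 e) α
    exact ⟨v, funext hv⟩
  choose v hv using hconst
  let eqv : Fin (finrank (LineField k d) F) ≃ s := (finCongr hcard).trans s.equivFin.symm
  let ψ : (Fin (finrank (LineField k d) F) → FunField k d) →ₗ[FunField k d] (Fin r → FunField k d) :=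
    Fintype.linearCombination (FunField k d) fun i => v (eqv i)
  have hψ : ∀ c, inclV (ψ c) = ∑ i, incl k d (c i) • (f (eqv i) : Fin r → LineField k d) := fun c => by
    rw [Fintype.linearCombination_apply, inclV_sum]
    exact Finset.sum_congr rfl fun i _ => by rw [inclV_smul, hv]
  have hRf : ∀ g : Fin (finrank (LineField k d) F) → LineField k d, ∀ j,
      (∑ i, g i • (f (eqv i) : Fin r → LineField k d)) ((eqv j : s) : Fin r) = g j := by
    intro g j
    rw [Finset.sum_apply, Finset.sum_eq_single j]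
    · rw [Pi.smul_apply, show (f (eqv j) : Fin r → LineField k d) ((eqv j : s) : Fin r) =
        (Pi.single (eqv j) 1 : s → LineField k d) (eqv j) from congr_fun (hf _) _, Pi.single_eq_same, smul_eq_mul,
        mul_one]
    · intro i _ hi
      rw [Pi.smul_apply, show (f (eqv i) : Fin r → LineField k d) ((eqv j : s) : Fin r) =
        (Pi.single (eqv i) 1 : s → LineField k d) (eqv j) from congr_fun (hf _) _,
        Pi.single_eq_of_ne (eqv.injective.ne hi).symm, smul_zero]
    · exact fun h => absurd (Finset.mem_univ _) h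
  refine ⟨ψ, (injective_iff_map_eq_zero ψ).2 fun c hc => funext fun j => ?_, ?_⟩
  · have h := hψ c
    rw [hc, inclV_zero] at h
    have h2 := hRf (fun i => incl k d (c i)) j
    rw [← h, Pi.zero_apply] at h2
    exact (incl k d).injective (h2.symm.trans (map_zero _).symm)
  · refine le_antisymm (fun x hx => ?_) ?_
    · refine ⟨fun i => x ((eqv i : s) : Fin r), ?_⟩
      have hmem : ∀ g : Fin (finrank (LineField k d) F) → LineField k d,
          inclLin ψ g = ∑ i, g i • (f (eqv i) : Fin r → LineField k d) := fun g => by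
        rw [inclLin, Fintype.linearCombination_apply]
        refine Finset.sum_congr rfl fun i _ => congrArg (g i • ·) ?_
        rw [hψ, Finset.sum_eq_single i]
        · rw [Pi.single_eq_same, map_one, one_smul]
        · intro j _ hj
          rw [Pi.single_eq_of_ne hj, map_zero, zero_smul]
        · exact fun h => absurd (Finset.mem_univ _) h
      rw [hmem]
      refine (sub_eq_zero.1 (hsinj _ (F.sub_mem hx (F.sum_mem fun i _ => F.smul_mem _ (f (eqv i)).2))
        fun α hα => ?_)).symm
      obtain ⟨j, hj⟩ := eqv.surjective ⟨α, hα⟩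
      rw [Pi.sub_apply, show α = ((eqv j : s) : Fin r) by rw [hj], hRf, sub_self]
    · rintro _ ⟨g, rfl⟩
      rw [inclLin, Fintype.linearCombination_apply]
      refine F.sum_mem fun i _ => F.smul_mem _ ?_
      rw [hψ]
      exact F.sum_mem fun j _ => F.smul_mem _ (f (eqv j)).2

namespace Sys

variable [NeZero d] (Φ : Sys k d r)

theorem finrank_spanLine_lam_le (e : ℤ) :
    finrank (LineField k d) (Submodule.span (LineField k d) (Φ.Lam e : Set (Fin r → LineField k d))) ≤ Φ.rk e := by
  classical
  obtain ⟨e₀, h₀⟩ := Φ.exists_low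
  have key : ∀ n : ℕ, ∀ e, e < e₀ + n →
      finrank (LineField k d) (Submodule.span (LineField k d) (Φ.Lam e : Set (Fin r → LineField k d))) ≤ Φ.rk e := by
    intro n
    induction n with
    | zero =>
      intro e he
      rw [h₀ e (by omega), Submodule.bot_coe, Submodule.span_zero_singleton, finrank_bot]
      exact Nat.zero_le _
    | succ n ih =>
      intro e he
      have hW := ih (e - 1) (by omega)
      have hle : Φ.vals (e - 1) ≤ Φ.vals e := Φ.vals_mono (by omega)
      obtain ⟨U, hU⟩ := Submodule.exists_isCompl ((Φ.vals (e - 1)).comap (Φ.vals e).subtype)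
      haveI : Module.Free (ParField k d) U := Module.Free.of_divisionRing (ParField k d) U
      let bU := Module.finBasis (ParField k d) U
      have hlift : ∀ i, ∃ u ∈ Φ.Lam e, ev0V u = ((bU i : Φ.vals e) : Fin r → ParField k d) :=
        fun i => (bU i : Φ.vals e).2
      choose u hu hue using hlift
      let W := Submodule.span (LineField k d) (Φ.Lam (e - 1) : Set (Fin r → LineField k d)) ⊔
        Submodule.span (LineField k d) (Set.range u)
      have hsub : Submodule.span (LineField k d) (Φ.Lam e : Set (Fin r → LineField k d)) ≤ W := by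
        rw [Submodule.span_le]
        intro x hx
        have hxv : ev0V x ∈ Φ.vals e := ⟨x, hx, rfl⟩
        obtain ⟨a, ha, b, hb, hab⟩ := Submodule.mem_sup.1 (hU.sup_eq_top.ge
          (Submodule.mem_top (x := (⟨ev0V x, hxv⟩ : Φ.vals e))))
        obtain ⟨z, hz, hze⟩ := (ha : (a : Fin r → ParField k d) ∈ Φ.vals (e - 1))
        let y := x - z - ∑ i, bU.repr ⟨b, hb⟩ i • u i
        have hy : y ∈ Φ.Lam e := Submodule.sub_mem _ (Submodule.sub_mem _ hx (Φ.lam_mono (by omega) hz))
          (Submodule.sum_mem _ fun i _ => Submodule.smul_mem _ _ (hu i))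
        have hy0 : ev0V y = 0 := by
          have h1 : ev0V (∑ i, bU.repr ⟨b, hb⟩ i • u i) = (b : Fin r → ParField k d) := by
            rw [ev0V_sum _ fun i _ => Submodule.smul_mem _ _ (hu i).1]
            simp only [ev0V_smul _ (hu _).1, hue]
            have h := congrArg (fun t : U => ((t : Φ.vals e) : Fin r → ParField k d)) (bU.sum_repr ⟨b, hb⟩)
            simpa only [Submodule.coe_sum, Submodule.coe_smul] using h
          have hneg : ∀ w ∈ regV k d r, ev0V (-w) = -ev0V w := fun w hw => by
            rw [← neg_one_smul (ParField k d) w, ev0V_smul _ hw, neg_one_smul]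
          have hS : ∑ i, bU.repr ⟨b, hb⟩ i • u i ∈ regV k d r :=
            Submodule.sum_mem _ fun i _ => Submodule.smul_mem _ _ (hu i).1
          show ev0V (x - z - _) = 0
          rw [sub_eq_add_neg, sub_eq_add_neg, ev0V_add (Submodule.add_mem _ hx.1 (Submodule.neg_mem _ hz.1))
            (Submodule.neg_mem _ hS), ev0V_add hx.1 (Submodule.neg_mem _ hz.1), hneg _ hz.1, hneg _ hS, h1, hze,
            show ev0V x = ((a + b : Φ.vals e) : Fin r → ParField k d) by rw [hab], Submodule.coe_add,
            Submodule.subtype_apply]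
          abel
        obtain ⟨w, hw, hyw⟩ := exists_eq_X_smul hy.1 hy0
        have hwl : w ∈ Φ.Lam (e - 1) := Φ.mem_lam_of_X_smul hw (hyw ▸ hy)
        rw [show x = (RatFunc.X : LineField k d) • w + z + ∑ i, bU.repr ⟨b, hb⟩ i • u i by
          rw [← hyw]; show x = x - z - _ + z + _; abel]
        refine W.add_mem (W.add_mem (W.smul_mem _ (Submodule.mem_sup_left (Submodule.subset_span hwl)))
          (Submodule.mem_sup_left (Submodule.subset_span hz))) (W.sum_mem fun i _ => ?_)
        rw [← algebraMap_smul (LineField k d)]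
        exact W.smul_mem _ (Submodule.mem_sup_right (Submodule.subset_span ⟨i, rfl⟩))
      refine (Submodule.finrank_mono hsub).trans ((Submodule.finrank_add_le_finrank_add_finrank _ _).trans ?_)
      refine (add_le_add hW (finrank_range_le_card u)).trans (le_of_eq ?_)
      rw [Fintype.card_fin, rk, rk, ← (Submodule.comapSubtypeEquivOfLe hle).finrank_eq]
      exact Submodule.finrank_add_eq_of_isCompl hU
  exact key (e - e₀ + 1).toNat e (by omega)

theorem rk_le_finrank_spanLine (e : ℤ) :
    Φ.rk e ≤ finrank (LineField k d) (Submodule.span (LineField k d) (Φ.Lam e : Set (Fin r → LineField k d))) := by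
  classical
  let b := Module.finBasis (ParField k d) (Φ.vals e)
  have hlift : ∀ i, ∃ u ∈ Φ.Lam e, ev0V u = (b i : Fin r → ParField k d) := fun i => (b i).2
  choose u hu hue using hlift
  have hli : LinearIndependent (LineField k d) u := linearIndependent_of_ev0V (fun i => (hu i).1) (by
    simp only [hue]
    exact b.linearIndependent.map' (Φ.vals e).subtype (Submodule.ker_subtype _))
  refine le_trans (le_of_eq ?_) (Submodule.finrank_mono (Submodule.span_mono (Set.range_subset_iff.2 hu)))
  rw [finrank_span_eq_card hli, Fintype.card_fin]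
  rfl

theorem DV_mem_span {e : ℤ} {x : Fin r → LineField k d} (hx : x ∈ Φ.span e) (l : Option (Fin d)) :
    DV l x ∈ Φ.span (e + 1) := by
  induction hx using Submodule.span_induction with
  | mem y hy => obtain ⟨v, -, rfl⟩ := hy; rw [DV_inclV]; exact Submodule.zero_mem _
  | zero => rw [DV_zero]; exact Submodule.zero_mem _
  | add y z _ _ hy hz => rw [DV_add]; exact Submodule.add_mem _ hy hz
  | smul c y hy hy' =>
    rw [← algebraMap_smul (LineField k d) c y, DV_smul, algebraMap_smul]
    refine Submodule.add_mem _ (Submodule.smul_mem _ _ hy') ?_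
    obtain ⟨a, b, hab⟩ := isAff_D_par l c
    rw [hab, add_smul, mul_smul, algebraMap_smul, algebraMap_smul]
    exact Submodule.add_mem _ (Submodule.smul_mem _ _ (Φ.span_mono (by omega) hy))
      (Submodule.smul_mem _ _ (Φ.X_smul_mem_span hy))

theorem DV_mem_lam {e : ℤ} {u : Fin r → LineField k d} (hu : u ∈ Φ.Lam e) (l : Option (Fin d)) :
    DV l u ∈ Φ.Lam (e + 1) := by
  obtain ⟨hr, j, hj⟩ := hu
  refine ⟨fun α => (hr α).D l, j + 1, ?_⟩
  have hXj : ∀ j : ℕ, (RatFunc.X : LineField k d) * D l ((RatFunc.X : LineField k d) ^ j) =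
      (j : LineField k d) * moveX l * (RatFunc.X : LineField k d) ^ j := by
    intro j
    induction j with
    | zero => simp [D_one]
    | succ j ih => rw [pow_succ, D_mul, D_X, mul_add, mul_left_comm _ (RatFunc.X : LineField k d) (D l _), ih]; push_cast; ring
  have h1 : ((RatFunc.X : LineField k d) ^ (j + 1)) • DV l u =
      (RatFunc.X : LineField k d) • DV l (((RatFunc.X : LineField k d) ^ j) • u) -
        ((j : LineField k d) * moveX l) • (((RatFunc.X : LineField k d) ^ j) • u) := by
    rw [DV_smul, smul_add, smul_smul, smul_smul, smul_smul, hXj, pow_succ', add_sub_cancel_right]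
  have hscal : ∃ c : ParField k d, (j : LineField k d) * moveX l = algebraMap (ParField k d) (LineField k d) c := by
    cases l with
    | none => exact ⟨(j : ParField k d), by simp [moveX]⟩
    | some i => exact ⟨0, by simp [moveX]⟩
  obtain ⟨c, hc⟩ := hscal
  rw [h1, hc, algebraMap_smul]
  push_cast
  refine Submodule.sub_mem _ ?_ (Submodule.smul_mem _ _ (Φ.span_mono (by omega) hj))
  exact Φ.span_mono (le_of_eq (by ring)) (Φ.X_smul_mem_span (Φ.DV_mem_span hj l))

theorem inclLin_mem_lam (A : (Fin r → FunField k d) →ₗ[FunField k d] (Fin r → FunField k d))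
    (hA : ∀ e, ∀ v ∈ Φ.Γ e, A v ∈ Φ.Γ (e + 1)) {e : ℤ} {u : Fin r → LineField k d} (hu : u ∈ Φ.Lam e) :
    inclLin A u ∈ Φ.Lam (e + 1) := by
  obtain ⟨hr, j, hj⟩ := hu
  refine ⟨?_, j, ?_⟩
  · rw [inclLin, Fintype.linearCombination_apply]
    exact Submodule.sum_mem _ fun β _ => smul_mem_regV (hr β) (inclV_mem_regV _)
  · rw [← map_smul]
    have key : ∀ x ∈ Φ.span (e + j), inclLin A x ∈ Φ.span (e + j + 1) := fun x hx => by
      induction hx using Submodule.span_induction with
      | mem y hy => obtain ⟨v, hv, rfl⟩ := hy; rw [inclLin_inclV]; exact Φ.inclV_mem_span (hA _ v hv)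
      | zero => rw [map_zero]; exact Submodule.zero_mem _
      | add y z _ _ hy hz => rw [map_add]; exact Submodule.add_mem _ hy hz
      | smul c y _ hy => rw [inclLin_smul]; exact Submodule.smul_mem _ _ hy
    exact Φ.span_mono (le_of_eq (by ring)) (key _ hj)

/-- At a gap the sections of low degree span a subspace defined over the function field and stable
under the endomorphisms of degree one. -/
theorem exists_gap_subspace [CharZero k] {e : ℤ} (hgap : Φ.rk (e + 1) = Φ.rk e)
    {I : Type*} (A : I → (Fin r → FunField k d) →ₗ[FunField k d] (Fin r → FunField k d))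
    (hA : ∀ i e, ∀ v ∈ Φ.Γ e, A i v ∈ Φ.Γ (e + 1)) :
    ∃ ψ : (Fin (Φ.rk e) → FunField k d) →ₗ[FunField k d] (Fin r → FunField k d), Function.Injective ψ ∧
      (∀ u ∈ Φ.Lam e, u ∈ LinearMap.range (inclLin ψ)) ∧
      ∀ i, ∀ v ∈ LinearMap.range ψ, A i v ∈ LinearMap.range ψ := by
  let F := Submodule.span (LineField k d) (Φ.Lam e : Set (Fin r → LineField k d))
  let F' := Submodule.span (LineField k d) (Φ.Lam (e + 1) : Set (Fin r → LineField k d))
  have hFF' : F = F' := Submodule.eq_of_le_of_finrank_le (Submodule.span_mono (Φ.lam_mono (by omega)))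
    ((Φ.finrank_spanLine_lam_le (e + 1)).trans (hgap.le.trans (Φ.rk_le_finrank_spanLine e)))
  have hD : ∀ l, ∀ x ∈ F, DV l x ∈ F := fun l x hx => by
    induction hx using Submodule.span_induction with
    | mem y hy => rw [hFF']; exact Submodule.subset_span (Φ.DV_mem_lam hy l)
    | zero => rw [DV_zero]; exact F.zero_mem
    | add y z _ _ hy hz => rw [DV_add]; exact F.add_mem hy hz
    | smul c y hy hy' => rw [DV_smul]; exact F.add_mem (F.smul_mem _ hy') (F.smul_mem _ hy)
  obtain ⟨ψ, hψ, hψF⟩ := exists_descent F hD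
  have hdim : finrank (LineField k d) F = Φ.rk e :=
    le_antisymm (Φ.finrank_spanLine_lam_le e) (Φ.rk_le_finrank_spanLine e)
  have hAF : ∀ i, ∀ x ∈ F, inclLin (A i) x ∈ F := fun i x hx => by
    induction hx using Submodule.span_induction with
    | mem y hy => rw [hFF']; exact Submodule.subset_span (Φ.inclLin_mem_lam (A i) (hA i) hy)
    | zero => rw [map_zero]; exact F.zero_mem
    | add y z _ _ hy hz => rw [map_add]; exact F.add_mem hy hz
    | smul c y _ hy' => rw [map_smul]; exact F.smul_mem _ hy'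
  have hst : ∀ i, ∀ v ∈ LinearMap.range ψ, A i v ∈ LinearMap.range ψ := by
    rintro i _ ⟨c, rfl⟩
    obtain ⟨B, hB⟩ := LinearMap.exists_leftInverse_of_injective ψ (LinearMap.ker_eq_bot.2 hψ)
    have h1 : inclV (ψ c) ∈ F := hψF.ge ⟨inclV c, inclLin_inclV ψ c⟩
    have h2 := hAF i _ h1
    rw [inclLin_inclV] at h2
    obtain ⟨g, hg⟩ := hψF.le h2
    refine ⟨B (A i (ψ c)), ?_⟩
    have h4 : inclLin B (inclLin ψ g) = g := by rw [inclLin_inclLin, hB, inclLin_id]
    rw [hg, inclLin_inclV] at h4
    refine funext fun α => (incl k d).injective ?_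
    exact congr_fun ((inclLin_inclV ψ _).symm.trans ((congrArg (inclLin ψ) h4).trans hg)) α
  have hLamF : ∀ u ∈ Φ.Lam e, u ∈ F := fun u hu => Submodule.subset_span hu
  clear_value F
  revert ψ
  rw [hdim]
  intro ψ hψ hψF hst
  exact ⟨ψ, hψ, fun u hu => hψF.le (hLamF u hu), hst⟩

/-- The slopes of the first degrees before a gap are controlled by the stable subspaces. -/
theorem sum_slope_le [CharZero k] {m₀ : ℤ} (hgen : IsGen k d r Φ.Γ m₀)
    (hspan : Submodule.span (FunField k d) (Φ.Γ m₀ : Set (Fin r → FunField k d)) = ⊤)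
    {P : ℚ[X]} (hPd : P.natDegree ≤ d) {N₀ : ℕ}
    (hP : ∀ m : ℕ, N₀ ≤ m → (finrank k (Φ.Γ m) : ℚ) = P.eval (m : ℚ))
    {I : Type*} (A : I → (Fin r → FunField k d) →ₗ[FunField k d] (Fin r → FunField k d))
    (hA : ∀ i e, ∀ v ∈ Φ.Γ e, A i v ∈ Φ.Γ (e + 1)) {μ : ℚ}
    (hμ : ∀ F₀ : Submodule (FunField k d) (Fin r → FunField k d), F₀ ≠ ⊥ → (∀ i, ∀ v ∈ F₀, A i v ∈ F₀) →
      ∃ (P' : ℚ[X]) (N : ℕ), P'.natDegree ≤ d ∧
        (∀ m : ℕ, N ≤ m → (finrank k (Φ.Γ m ⊓ F₀.restrictScalars k : Submodule k _) : ℚ) = P'.eval (m : ℚ)) ∧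
        alpha (d - 1) P' ≤ (finrank (FunField k d) F₀ : ℚ) * μ)
    {e : ℤ} (hgap : Φ.rk (e + 1) = Φ.rk e) (hpos : 0 < Φ.rk e) :
    ∑ α ∈ Finset.univ.filter (fun α => Φ.deg α ≤ e), Φ.slope α ≤ (Φ.rk e : ℚ) * μ := by
  classical
  obtain ⟨ψ, hψ, hlam, hst⟩ := Φ.exists_gap_subspace hgap A hA
  let F₀ := LinearMap.range ψ
  have hF₀dim : finrank (FunField k d) F₀ = Φ.rk e := by
    rw [LinearMap.finrank_range_of_inj hψ, Module.finrank_pi, Fintype.card_fin]
  have hF₀ : F₀ ≠ ⊥ := fun h => by rw [h, finrank_bot] at hF₀dim; omega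
  obtain ⟨P', N, hP'd, hP', hη⟩ := hμ F₀ hF₀ hst
  let b := Module.finBasis (FunField k d) ((Fin r → FunField k d) ⧸ F₀)
  let π : (Fin r → FunField k d) →ₗ[FunField k d] _ := b.equivFun.toLinearMap ∘ₗ F₀.mkQ
  have hπs : Function.Surjective π := b.equivFun.surjective.comp (Submodule.mkQ_surjective F₀)
  have hπker : LinearMap.ker π = F₀ := by
    rw [LinearMap.ker_comp, LinearEquiv.ker, Submodule.comap_bot, Submodule.ker_mkQ]
  let Ψ := Φ.map π hπs
  have hgenΨ : IsGen k d _ Ψ.Γ m₀ := by
    intro m hm w hw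
    obtain ⟨v, hv, rfl⟩ := hw
    obtain ⟨a, ha, c, hc, rfl⟩ := hgen m hm v hv
    refine ⟨π a, ⟨a, ha, rfl⟩, fun i => π (c i), fun i => ⟨c i, hc i, rfl⟩, ?_⟩
    simp [map_add, map_sum, map_smul]
  have hspanΨ : Submodule.span (FunField k d) (π '' (Φ.Γ m₀ : Set (Fin r → FunField k d))) = ⊤ := by
    rw [← Submodule.map_span, hspan, Submodule.map_top, LinearMap.range_eq_top.2 hπs]
  have hPQ : ∀ m : ℕ, max N₀ N ≤ m → (finrank k (Ψ.Γ m) : ℚ) = (P - P').eval (m : ℚ) := by
    intro m hm
    rw [eval_sub, ← hP m (le_of_max_le_left hm), ← hP' m (le_of_max_le_right hm)]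
    haveI := Φ.fin m
    have h := LinearMap.finrank_range_add_finrank_ker ((π.restrictScalars k).domRestrict (Φ.Γ m))
    rw [LinearMap.range_domRestrict] at h
    have e1 : (LinearMap.ker ((π.restrictScalars k).domRestrict (Φ.Γ m))).map (Φ.Γ m).subtype =
        Φ.Γ m ⊓ F₀.restrictScalars k := by
      rw [LinearMap.ker_domRestrict, Submodule.map_comap_subtype, LinearMap.ker_restrictScalars, hπker]
    rw [← e1, Submodule.finrank_map_subtype_eq, eq_sub_iff_add_eq]
    exact_mod_cast h
  obtain ⟨hαΨ, hηΨ⟩ := Ψ.alpha_eq hgenΨ hspanΨ ((natDegree_sub_le _ _).trans (max_le hPd hP'd)) hPQ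
  obtain ⟨-, hηΦ⟩ := Φ.alpha_eq hgen hspan hPd hP
  obtain ⟨M₁, hM₁⟩ := Φ.exists_finrank_span_eq
  obtain ⟨M₂, hM₂⟩ := Ψ.exists_finrank_span_eq
  choose J hJ using Φ.exists_lift
  obtain ⟨e₀, h₀⟩ := Φ.exists_low
  obtain ⟨g, hg⟩ := IsLocalization.exist_integer_multiples_of_finite (nonZeroDivisors (CoordRing k d))
    (fun _ : Fin 1 => (1 : FunField k d))
  -- a basis of the subspace inside one degree
  obtain ⟨e₁, he₁⟩ : ∃ e₁, Submodule.span (FunField k d)
      ((Φ.Γ e₁ ⊓ F₀.restrictScalars k : Submodule k (Fin r → FunField k d)) : Set (Fin r → FunField k d)) = F₀ := by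
    obtain ⟨es, hes⟩ := Φ.spans
    have h1 : ∀ β : Fin (Φ.rk e), ∃ (e₁ : ℤ) (c : FunField k d), c ≠ 0 ∧ c • ψ (Pi.single β 1) ∈ Φ.Γ e₁ := by
      intro β
      obtain ⟨n, a, v, hv⟩ := Submodule.mem_span_set'.1 (hes ▸ Submodule.mem_top (x := ψ (Pi.single β 1)))
      obtain ⟨b, hb⟩ := IsLocalization.exist_integer_multiples_of_finite (nonZeroDivisors (CoordRing k d)) a
      choose q hq using hb
      let D : ℕ := Finset.univ.sup fun l => (q l).totalDegree
      refine ⟨es + D, algebraMap _ _ (b : CoordRing k d), fun h => nonZeroDivisors.ne_zero b.2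
        (IsFractionRing.injective (CoordRing k d) (FunField k d) (h.trans (map_zero _).symm)), ?_⟩
      rw [← hv, Finset.smul_sum]
      have e2 : ∀ l, algebraMap (CoordRing k d) (FunField k d) (b : CoordRing k d) • a l •
          (v l : Fin r → FunField k d) = algebraMap (CoordRing k d) (FunField k d) (q l) • (v l : Fin r → FunField k d) :=
        fun l => by
          rw [hq, ← IsScalarTower.algebraMap_smul (FunField k d) (b : CoordRing k d) (a l), smul_eq_mul, mul_smul]
      simp only [e2]
      exact Φ.sum_smul_mem (fun l => (v l : Fin r → FunField k d)) (fun l => (v l).2) D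
        (f := fun l => algebraMap _ _ (q l)) fun l => ⟨q l, Or.inr (by
          rw [add_sub_cancel_left]
          exact_mod_cast Finset.le_sup (f := fun l => (q l).totalDegree) (Finset.mem_univ l)), rfl⟩
    choose eb cb hcb hmem using h1
    obtain ⟨B, hB⟩ := (Finset.univ.image eb).bddAbove
    refine ⟨B, le_antisymm (Submodule.span_le.2 fun x hx => hx.2) ?_⟩
    rintro _ ⟨c, rfl⟩
    rw [pi_eq_sum_univ c, map_sum]
    refine Submodule.sum_mem _ fun β _ => ?_
    rw [map_smul]
    refine Submodule.smul_mem _ _ ?_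
    rw [show (fun j => if β = j then (1 : FunField k d) else 0) = Pi.single β 1 by
      ext j; simp [Pi.single_apply, eq_comm], ← inv_smul_smul₀ (hcb β) (ψ (Pi.single β 1))]
    refine Submodule.smul_mem _ _ (Submodule.subset_span ⟨?_, ?_⟩)
    · exact Φ.le_of_le (hB (Finset.mem_coe.2 (Finset.mem_image_of_mem eb (Finset.mem_univ β)))) (hmem β)
    · exact F₀.smul_mem _ ⟨_, rfl⟩
  obtain ⟨M, hM⟩ : ∃ M : ℤ, M₁ ≤ M ∧ M₂ ≤ M ∧ e₁ + (((Finset.Icc e₀ (max e e₁)).sup J : ℕ) : ℤ) ≤ M ∧
      (∀ α, Φ.deg α ≤ M) ∧ max e e₁ ≤ M :=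
    ⟨max (max M₁ M₂) (max (max (e₁ + (((Finset.Icc e₀ (max e e₁)).sup J : ℕ) : ℤ)) (max e e₁))
      ((Finset.univ.sup fun α => (Φ.deg α).natAbs : ℕ) : ℤ)), by omega, by omega, by omega, fun α => by
        have := Finset.le_sup (f := fun α => (Φ.deg α).natAbs) (Finset.mem_univ α); omega, by omega⟩
  obtain ⟨hMa, hMb, hMc, hMd, hMe⟩ := hM
  let W : Submodule (ParField k d) (Fin r → LineField k d) := Φ.span M ⊓ LinearMap.ker (lineLin π)
  haveI := Φ.finite_span M
  haveI : Module.Finite (ParField k d) W := Submodule.finiteDimensional_of_le inf_le_left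
  have hker : ∀ g, inclLin ψ g ∈ LinearMap.ker (lineLin π) := fun g => by
    rw [LinearMap.mem_ker]
    show inclLin π (inclLin ψ g) = 0
    rw [inclLin_inclLin, show π ∘ₗ ψ = 0 from LinearMap.ext fun c =>
      LinearMap.mem_ker.1 (hπker.ge ⟨c, rfl⟩), inclLin_zero]
  let N' : ℕ := (M - e₀ + 1).toNat
  have hbot : divBy (ParField k d) W N' = ⊥ := eq_bot_iff.2 fun x ⟨hx, y, hy, hxy⟩ => by
    subst hxy
    have hy' : y ∈ Φ.Lam (M - N') := ⟨hy, N', by rw [sub_add_cancel]; exact hx.1⟩
    rw [h₀ _ (by omega), Submodule.mem_bot] at hy'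
    rw [Submodule.mem_bot, hy', smul_zero]
  have hW := finrank_eq_sum_grad (ParField k d) W (fun x hx => Φ.span_le_regV M hx.1) hbot
  have hgr : ∀ j ∈ Finset.range N',
      ((Finset.univ.filter fun α => Φ.deg α ≤ e).filter fun α => Φ.deg α ≤ M - j).card ≤
        finrank (ParField k d) (grad (ParField k d) W j) := by
    intro j hj
    rw [Finset.mem_range] at hj
    have hcard : ((Finset.univ.filter fun α => Φ.deg α ≤ e).filter fun α => Φ.deg α ≤ M - j).card =
        Φ.rk (min e (M - j)) := by
      rw [rk_eq_card, Finset.filter_filter]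
      congr 1
      ext α
      simp only [Finset.mem_filter, Finset.mem_univ, true_and, le_min_iff]
    rw [hcard]
    rcases lt_or_ge (M - j) e₁ with hsmall | hbig
    · set e' := min e (M - j) with he'
      rcases lt_or_ge e' e₀ with hlo | hlo
      · rw [show Φ.rk e' = 0 from Submodule.finrank_eq_zero.2 (eq_bot_iff.2 fun a ⟨u, hu, h⟩ => by
          rw [SetLike.mem_coe, h₀ _ hlo, Submodule.mem_bot] at hu
          rw [← h, hu, ev0V_zero]; exact Submodule.zero_mem _)]
        exact Nat.zero_le _
      have hJle : J e' ≤ (Finset.Icc e₀ (max e e₁)).sup J := Finset.le_sup (Finset.mem_Icc.2 ⟨hlo, by omega⟩)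
      refine Submodule.finrank_mono (R := ParField k d) fun a ha => ?_
      obtain ⟨y, hy, hyT, rfl⟩ := (mem_grad (ParField k d)).1 (hJ e' j (by omega) ha)
      refine (mem_grad (ParField k d)).2 ⟨y, hy, ⟨Φ.span_mono (by omega) hyT, ?_⟩, rfl⟩
      obtain ⟨g', hg'⟩ := hlam y (Φ.lam_mono (by omega) (show y ∈ Φ.Lam e' from ⟨hy, j, hyT⟩))
      rw [← hg', ← map_smul]
      exact hker _
    · refine (Φ.rk_mono (min_le_left _ _)).trans ?_
      obtain ⟨B, hB⟩ := LinearMap.exists_leftInverse_of_injective ψ (LinearMap.ker_eq_bot.2 hψ)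
      let E : (Fin r → ParField k d) →ₗ[ParField k d] (Fin (Φ.rk e) → ParField k d) :=
        Fintype.linearCombination (ParField k d) fun β => ev0V (inclV (B (Pi.single β 1)))
      have hsur : ∀ c : Fin (Φ.rk e) → FunField k d, ev0V (inclV c) ∈ (grad (ParField k d) W j).map E := by
        intro c
        have hmemF : ψ c ∈ Submodule.span (FunField k d)
            ((Φ.Γ e₁ ⊓ F₀.restrictScalars k : Submodule k (Fin r → FunField k d)) : Set (Fin r → FunField k d)) := by
          rw [he₁]; exact ⟨c, rfl⟩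
        obtain ⟨n, a, v, hv⟩ := Submodule.mem_span_set'.1 hmemF
        let x := ∑ l, ev0 (incl k d (a l)) • inclV (v l : Fin r → FunField k d)
        have hxs : x ∈ Φ.span e₁ :=
          Submodule.sum_mem _ fun l _ => Submodule.smul_mem _ _ (Φ.inclV_mem_span (v l).2.1)
        refine ⟨ev0V x, (mem_grad (ParField k d)).2 ⟨x, Φ.span_le_regV _ hxs,
          ⟨Φ.span_mono (by omega) (Φ.X_pow_smul_mem_span hxs j), ?_⟩, rfl⟩, ?_⟩
        · have hmem : x ∈ LinearMap.range (inclLin ψ) := Submodule.sum_mem _ fun l _ => by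
            rw [← algebraMap_smul (LineField k d)]
            refine Submodule.smul_mem _ _ ?_
            obtain ⟨cl, hcl⟩ := (v l).2.2
            exact ⟨inclV cl, by rw [inclLin_inclV, hcl]⟩
          obtain ⟨g', hg'⟩ := hmem
          rw [← hg', ← map_smul]
          exact hker _
        · have hxval : ev0V x = ev0V (inclV (ψ c)) := by
            rw [← hv, inclV_sum, ev0V_sum _ fun l _ => Submodule.smul_mem _ _ (inclV_mem_regV _),
              ev0V_sum _ fun l _ => inclV_mem_regV _]
            refine Finset.sum_congr rfl fun l _ => ?_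
            rw [ev0V_smul _ (inclV_mem_regV _), inclV_smul, ev0V_smul' (reg_incl _) (inclV_mem_regV _)]
          rw [hxval]
          have hc : B (ψ c) = c := LinearMap.congr_fun hB c
          conv_rhs => rw [← hc, apply_eq_sum_single B (ψ c), inclV_sum]
          rw [ev0V_sum _ fun l _ => inclV_mem_regV _, Fintype.linearCombination_apply]
          refine Finset.sum_congr rfl fun β _ => ?_
          rw [inclV_smul, ev0V_smul' (reg_incl _) (inclV_mem_regV _)]
          rfl
      have htop : (grad (ParField k d) W j).map E = ⊤ := eq_top_iff.2 fun w _ => by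
        rw [pi_eq_sum_univ w]
        refine Submodule.sum_mem _ fun β _ => Submodule.smul_mem _ _ ?_
        convert hsur (Pi.single β 1) using 1
        ext γ
        rcases eq_or_ne β γ with rfl | h
        · simp [ev0V, inclV, ev0_one]
        · simp [ev0V, inclV, h, h.symm, ev0_zero]
      have h2 : finrank (ParField k d) ((grad (ParField k d) W j).map E) = Φ.rk e := by
        rw [htop, finrank_top, Module.finrank_pi, Fintype.card_fin]
      rw [← h2]
      exact Submodule.finrank_map_le E _
  have hlow : (∑ α ∈ Finset.univ.filter (fun α => Φ.deg α ≤ e), (M - Φ.deg α + 1)) ≤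
      (finrank (ParField k d) W : ℤ) := by
    rw [hW]
    refine le_trans ?_ (Int.ofNat_le.2 (Finset.sum_le_sum hgr))
    simp only [Finset.card_filter, Nat.cast_sum, Nat.cast_ite, Nat.cast_one, Nat.cast_zero]
    rw [Finset.sum_comm]
    refine Finset.sum_le_sum fun α _ => ?_
    rw [← Finset.sum_filter, Finset.sum_const, nsmul_one]
    have hlo : e₀ ≤ Φ.deg α := not_lt.1 fun h => by
      have h1 := (Φ.deg_le_iff α (Φ.deg α)).1 le_rfl
      rw [show Φ.rk (Φ.deg α) = 0 from Submodule.finrank_eq_zero.2 (eq_bot_iff.2 fun a ⟨u, hu, h'⟩ => by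
        rw [SetLike.mem_coe, h₀ _ h, Submodule.mem_bot] at hu
        rw [← h', hu, ev0V_zero]; exact Submodule.zero_mem _)] at h1
      omega
    rw [show (Finset.range N').filter (fun j : ℕ => Φ.deg α ≤ M - j) = Finset.range (M - Φ.deg α + 1).toNat by
      ext j; simp only [Finset.mem_filter, Finset.mem_range]; omega, Finset.card_range]
    omega
  have hrn := Φ.finrank_span_map π hπs M
  have hcount : (∑ β, (M - Ψ.deg β + 1)) + (∑ α ∈ Finset.univ.filter (fun α => Φ.deg α ≤ e), (M - Φ.deg α + 1)) ≤
      ∑ α, (M - Φ.deg α + 1) := by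
    rw [← hM₁ M hMa, ← hM₂ M hMb, ← hrn]
    push_cast
    linarith
  have hq := (Int.cast_le (R := ℚ)).2 hcount
  push_cast at hq
  have hr : (finrank (FunField k d) ((Fin r → FunField k d) ⧸ F₀) : ℚ) + (Φ.rk e : ℚ) = r := by
    have h := Submodule.finrank_quotient_add_finrank F₀
    rw [hF₀dim, Module.finrank_pi, Fintype.card_fin] at h
    exact_mod_cast h
  have hS : (((Finset.univ.filter fun α => Φ.deg α ≤ e).card : ℕ) : ℚ) = (Φ.rk e : ℚ) := by rw [rk_eq_card]
  rw [hF₀dim] at hη
  rw [alpha_sub, hηΦ] at hηΨ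
  simp only [slope, Finset.sum_add_distrib, Finset.sum_sub_distrib, Finset.sum_neg_distrib, Finset.sum_const,
    Finset.card_univ, Fintype.card_fin, nsmul_eq_mul] at hq hηΨ ⊢
  rw [hS] at hq ⊢
  rw [← hr] at hq hηΨ
  linarith

/-- The slopes are bounded in terms of the slopes of the stable subspaces. -/
theorem slope_le [CharZero k] {m₀ : ℤ} (hgen : IsGen k d r Φ.Γ m₀)
    (hspan : Submodule.span (FunField k d) (Φ.Γ m₀ : Set (Fin r → FunField k d)) = ⊤)
    {P : ℚ[X]} (hPd : P.natDegree ≤ d) {N₀ : ℕ}
    (hP : ∀ m : ℕ, N₀ ≤ m → (finrank k (Φ.Γ m) : ℚ) = P.eval (m : ℚ))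
    {I : Type*} (A : I → (Fin r → FunField k d) →ₗ[FunField k d] (Fin r → FunField k d))
    (hA : ∀ i e, ∀ v ∈ Φ.Γ e, A i v ∈ Φ.Γ (e + 1)) {μ : ℚ}
    (hμ : ∀ F₀ : Submodule (FunField k d) (Fin r → FunField k d), F₀ ≠ ⊥ → (∀ i, ∀ v ∈ F₀, A i v ∈ F₀) →
      ∃ (P' : ℚ[X]) (N : ℕ), P'.natDegree ≤ d ∧
        (∀ m : ℕ, N ≤ m → (finrank k (Φ.Γ m ⊓ F₀.restrictScalars k : Submodule k _) : ℚ) = P'.eval (m : ℚ)) ∧
        alpha (d - 1) P' ≤ (finrank (FunField k d) F₀ : ℚ) * μ)
    (α : Fin r) : Φ.slope α ≤ μ + r := by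
  classical
  let α₀ : Fin r := ⟨0, α.pos⟩
  let P2 : ℕ → Prop := fun n => Φ.rk (Φ.deg α₀ + (n + 1 : ℕ)) = Φ.rk (Φ.deg α₀ + n)
  have hstep : ∀ n : ℕ, (∀ l, l < n → ¬ P2 l) → n + 1 ≤ Φ.rk (Φ.deg α₀ + n) := by
    intro n
    induction n with
    | zero =>
      intro _
      have h := (Φ.deg_le_iff α₀ (Φ.deg α₀ + (0 : ℕ))).1 (by simp)
      simp only [Nat.cast_zero, add_zero, α₀] at h ⊢
      omega
    | succ n ih =>
      intro h
      have h1 := ih fun l hl => h l (by omega)
      have h2 : Φ.rk (Φ.deg α₀ + n) ≤ Φ.rk (Φ.deg α₀ + (n + 1 : ℕ)) := Φ.rk_mono (by omega)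
      have h3 : Φ.rk (Φ.deg α₀ + (n + 1 : ℕ)) ≠ Φ.rk (Φ.deg α₀ + n) := h n (Nat.lt_succ_self n)
      omega
  have hex : ∃ n, P2 n := by
    by_contra hne
    push Not at hne
    have := hstep r fun l _ => hne l
    have := Φ.rk_le (Φ.deg α₀ + r)
    omega
  let n := Nat.find hex
  have hn : P2 n := Nat.find_spec hex
  have hlow := hstep n fun l hl => Nat.find_min hex hl
  set e := Φ.deg α₀ + (n : ℤ) with he
  have hgap : Φ.rk (e + 1) = Φ.rk e := by
    rw [he, add_assoc]
    exact_mod_cast hn
  have h := Φ.sum_slope_le hgen hspan hPd hP A hA hμ hgap (by omega)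
  have hS : (((Finset.univ.filter fun β => Φ.deg β ≤ e).card : ℕ) : ℚ) = (Φ.rk e : ℚ) := by rw [rk_eq_card]
  have hnr : (n : ℤ) ≤ r := by have := Φ.rk_le e; omega
  have hlower : ∀ β ∈ Finset.univ.filter (fun β => Φ.deg β ≤ e), Φ.slope α₀ - r ≤ Φ.slope β := by
    intro β hβ
    rw [Finset.mem_filter] at hβ
    have h' : ((Φ.deg β : ℤ) : ℚ) ≤ ((Φ.deg α₀ + (r : ℤ) : ℤ) : ℚ) := Int.cast_le.2 (by omega)
    push_cast at h'
    simp only [slope]
    linarith
  have h2 := (Finset.card_nsmul_le_sum _ _ _ hlower).trans h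
  rw [nsmul_eq_mul, hS] at h2
  have hk : (0 : ℚ) < (Φ.rk e : ℚ) := Nat.cast_pos.2 (by omega)
  have h3 : Φ.slope α₀ - r ≤ μ := le_of_mul_le_mul_left h2 hk
  have h4 : Φ.slope α ≤ Φ.slope α₀ := by
    have h' : ((Φ.deg α₀ : ℤ) : ℚ) ≤ (Φ.deg α : ℚ) := Int.cast_le.2 (Φ.deg_mono (Nat.zero_le _))
    simp only [slope]
    linarith
  linarith

end Sys

end Groth.Agent.SimpsonEst

end
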