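import Groth.Agent.SimpsonEst.Data
import Groth.Agent.AmpleVan.Vanish
import Groth.Agent.FMBase.IdealProd
import Groth.Agent.H23.C1Comm

/-!
# Projections adapted to a sheaf
-/

set_option autoImplicit false
set_option linter.style.haveILetI false
set_option linter.unusedSectionVars false
set_option backward.isDefEq.respectTransparency false
set_option backward.isDefEq.respectTransparency.types false
set_option maxHeartbeats 1000000

universe u

open CategoryTheory CategoryTheory.Limits AlgebraicGeometry TopologicalSpace Opposite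

attribute [local instance] HasDerivedCategory.standard
attribute [local instance] Groth.Agent.QCoh.hasFiniteBiproducts

noncomputable section

namespace Groth.Agent.SimpsonEst

open Groth.Agent Groth.Agent.RegEpi Groth.Agent.HilbBound Groth.Agent.PnCoh.Finite

section General

variable {X : Scheme.{u}} {L : X.Modules}

theorem support_itw_subset (M : X.Modules) : ∀ n, CohB1.support ((AmpleVan.itw L n).obj M) ⊆ CohB1.support M
  | 0 => subset_rfl
  | n + 1 => (FMBase.support_tensor_subset_left (E := (AmpleVan.itw L n).obj M) (F := L)).trans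
      (support_itw_subset M n)

/-- Sections of `L` without common zero on the support generate the twists. -/
theorem genFrom_twSys_supp {r : ℕ} (hL : PicF.IsInvertible L) (s : Fin r → (Coh.structureModule X ⟶ L))
    (M : X.Modules) (hcov : ∀ x ∈ CohB1.support M, ∃ k, x ∈ CohB1.genLocus L (s k)) :
    (AmpleVan.twSys hL (fun k => InvX.one (s k)) M).GenFrom 0 := by
  intro n _
  refine Preadditive.epi_of_cancel_zero _ fun {Z} g hg => ?_
  have hk : ∀ k, AmpleVan.mulSec (InvX.one (s k)) ((AmpleVan.itw L n).obj M) ≫ g = 0 := fun k => by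
    have h := congrArg (fun z => biproduct.ι (fun _ : ULift.{u} (Fin r) => (AmpleVan.itw L n).obj M) ⟨k⟩ ≫ z) hg
    simp only [FFun.Gen.Sys.tAll, AmpleVan.twSys, biproduct.ι_desc_assoc, comp_zero] at h
    exact h
  refine AmpleVan.hom_ext_tmul (M := (AmpleVan.itw L n).obj M) (N := L) fun U m b => ?_
  refine AModX.eq_of_locally _ _ fun p hp => ?_
  by_cases hpM : p ∈ CohB1.support ((AmpleVan.itw L n).obj M)
  · obtain ⟨k, hk'⟩ := hcov p (support_itw_subset M n hpM)
    let W := CohB1.genLocus L (s k) ⊓ U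
    have hτ := (AmpleX.res_genLocus_frame (s k)).res (inf_le_left : W ≤ CohB1.genLocus L (s k))
    obtain ⟨c, hc⟩ := hτ.exists_coord le_rfl (AModX.res L (inf_le_right : W ≤ U) b)
    rw [AModX.res_self, AModX.res_res] at hc
    refine ⟨W, inf_le_right, ⟨hk', hp⟩, ?_⟩
    rw [← AModX.app_res, ← AModX.app_res]
    show g.app W (AModX.res (CohB1.tensorMod ((AmpleVan.itw L n).obj M) L) inf_le_right (InvX.tmul m b)) = _
    rw [InvX.res_tmul, hc, InvX.tmul_smul_right, ← InvX.tmul_smul_left]
    exact (congr(($(hk k)).app W (c • AModX.res _ inf_le_right m)) : _).trans rfl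
  · haveI : Subsingleton (((AmpleVan.itw L n).obj M).presheaf.stalk p) := not_not.1 hpM
    obtain ⟨W, hpW, iW, iW', hW⟩ :=
      TopCat.Presheaf.germ_eq (C := AddCommGrpCat.{u}) ((AmpleVan.itw L n).obj M).presheaf p hp hp m 0
        (Subsingleton.elim _ _)
    refine ⟨W, iW.le, hpW, ?_⟩
    have hm : AModX.res ((AmpleVan.itw L n).obj M) iW.le m = 0 := hW.trans (map_zero _)
    rw [← AModX.app_res, ← AModX.app_res]
    show g.app W (AModX.res (CohB1.tensorMod ((AmpleVan.itw L n).obj M) L) iW.le (InvX.tmul m b)) = _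
    rw [InvX.res_tmul, hm, AmpleVan.tmul_zero_left, map_zero]
    rfl

theorem eGl_mapLin {A : Type u} [Field A] [X.Over (Spec (CommRingCat.of A))] {M N : X.Modules} (φ : M ⟶ N)
    (x : Coh.HH X M 0) : GrothLem.eGl N (mapLin A φ 0 x) = φ.app ⊤ (GrothLem.eGl M x) :=
  (Sheaf.H.equiv₀_naturality (F := Coh.toAb M) (G := Coh.toAb N) Limits.isTerminalTop
    ((QCoh.toAbFunctor X).map φ) x).symm

/-- Generation of cohomology in degree zero, on sections. -/
theorem exists_sum_of_genHH {A : Type u} [Field A] [X.Over (Spec (CommRingCat.of A))] {r : ℕ}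
    (S : FFun.Gen.Sys X r) {e m : ℕ} (he : S.GenHH A 0 e) (hm : e ≤ m) (x : Γ(S.G (m + 1), ⊤)) :
    ∃ b : Fin r → Γ(S.G m, ⊤), x = ∑ i, (S.t m i).app ⊤ (b i) := by
  classical
  obtain ⟨z, hz⟩ := (GrothLem.eGl (S.G (m + 1))).surjective x
  have hmem : z ∈ ⨆ i, LinearMap.range (mapLin A (S.t m i) 0) := (he m hm).ge Submodule.mem_top
  rw [← hz]
  clear hz x
  induction hmem using Submodule.iSup_induction' with
  | mem i y hy =>
    obtain ⟨w, rfl⟩ := hy
    refine ⟨Pi.single i (GrothLem.eGl (S.G m) w), ?_⟩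
    rw [eGl_mapLin, Finset.sum_eq_single i (fun j _ hj => by rw [Pi.single_eq_of_ne hj, map_zero])
      (fun h => absurd (Finset.mem_univ i) h), Pi.single_eq_same]
  | zero => exact ⟨0, by simp⟩
  | add a b _ _ ha hb =>
    obtain ⟨ca, hca⟩ := ha
    obtain ⟨cb, hcb⟩ := hb
    exact ⟨ca + cb, by rw [map_add, hca, hcb, ← Finset.sum_add_distrib]; simp⟩

end General

variable {k : Type u} [Field k] {n d : ℕ}

local notation "PP" => Proj (CohB1.polyGrading n k)
local notation "MOD" => Scheme.Modules (Proj (CohB1.polyGrading n k))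
local notation "Lin" => (CohB1.polyGrading n k) 1
local notation "OO" => Twist.twist (CohB1.polyGrading n k) 1

attribute [local instance 10000] HilbBound.projOver

/-- Finitely many points avoid a hyperplane. -/
theorem exists_lin_avoid [Infinite k] {Z : Set PP} (hZ : Z.Finite) : ∃ l : Lin, ∀ x ∈ Z, x ∈ UL l := by
  obtain ⟨l₀, hl₀, hl₀P⟩ := S10915.exists_avoiding k n
    ((fun x : PP => (x : ProjectiveSpectrum (CohB1.polyGrading n k)).asHomogeneousIdeal.toIdeal) '' Z)
    (hZ.image _) (by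
    rintro _ ⟨x, -, rfl⟩
    refine ⟨(x : ProjectiveSpectrum (CohB1.polyGrading n k)).isPrime,
      (x : ProjectiveSpectrum (CohB1.polyGrading n k)).asHomogeneousIdeal.isHomogeneous, fun h => ?_⟩
    refine (x : ProjectiveSpectrum (CohB1.polyGrading n k)).not_irrelevant_le fun a ha => ?_
    refine h.ge ?_
    refine (Ideal.span_le.2 ?_) (SegreX.irrelevant_le_span n k ha)
    rintro _ ⟨i, rfl⟩
    exact MvPolynomial.constantCoeff_X k i)
  exact ⟨⟨l₀, (MvPolynomial.mem_homogeneousSubmodule 1 l₀).2 hl₀⟩, fun x hx => hl₀P _ ⟨x, hx, rfl⟩⟩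

/-- A closed set of dimension less than `d` is covered by the complements of `d` hyperplanes. -/
theorem exists_cover [Infinite k] : ∀ (d : ℕ) (A : Set PP), IsClosed A →
    topologicalKrullDim ↥A < (d : WithBot ℕ∞) → ∃ y : Fin d → Lin, ∀ x ∈ A, ∃ i, x ∈ UL (y i)
  | 0, A, _, hd => ⟨Fin.elim0, fun x hx => by
      haveI : Nonempty (IrreducibleCloseds ↥A) :=
        ⟨⟨closure {⟨x, hx⟩}, isIrreducible_singleton.closure, isClosed_closure⟩⟩
      exact absurd hd (not_lt.2 (by exact_mod_cast Order.krullDim_nonneg))⟩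
  | d + 1, A, hA, hd => by
    haveI : IsNoetherian PP := Proj16.isNoetherian_proj _
    obtain ⟨l, hl⟩ := exists_lin_avoid (H23.C1Comm.finite_maximal_inter hA (CompactSpace.isCompact_univ))
    have hB : IsClosed (A ∩ (UL l : Set PP)ᶜ) := hA.inter (UL l).2.isClosed_compl
    obtain ⟨y, hy⟩ := exists_cover d _ hB
      (dim_lt_of_avoid hA hB Set.inter_subset_left (fun z hz hmax hzB => hzB.2 (hl z ⟨hz, hmax, trivial⟩)) hd)
    refine ⟨Fin.cons l y, fun x hx => ?_⟩
    by_cases hxl : x ∈ UL l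
    · exact ⟨0, hxl⟩
    · obtain ⟨i, hi⟩ := hy x ⟨hx, hxl⟩
      exact ⟨i.succ, by rwa [Fin.cons_succ]⟩

/-- Linear forms without common zero on the support generate the twisted sections eventually. -/
theorem exists_gen {r : ℕ} {M : MOD} (hM : Coh.IsCoh M) (a : Fin r → Lin)
    (hcov : ∀ x ∈ CohB1.support M, ∃ i, x ∈ UL (a i)) :
    ∃ m₀, ∀ m, m₀ ≤ m → ∀ x : Γ(itM M (m + 1), ⊤),
      ∃ b : Fin r → Γ(itM M m, ⊤), x = ∑ i, mulA M m (a i) (b i) := by
  haveI : IsNoetherian PP := Proj16.isNoetherian_proj _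
  let s : Fin r → (Coh.structureModule PP ⟶ OO) := fun i => InvX.ofSect (GrothLem.lsec (a i))
  have hgen : ∀ i, CohB1.genLocus (OO) (s i) = UL (a i) := fun i =>
    AmpleX.genLocus_sec (CohB1.polyGrading n k) (ProjRegular.coords k n) ProjRegular.coords_mem
      ProjRegular.coords_cover (a i).2
  let S := AmpleVan.twSys isInvertible_O1 (fun i => InvX.one (s i)) M
  have hg : S.GenFrom 0 := genFrom_twSys_supp isInvertible_O1 s M fun x hx => by
    obtain ⟨i, hi⟩ := hcov x hx
    exact ⟨i, (hgen i).symm ▸ hi⟩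
  haveI : IsNoetherian (CohB1.ProjSpace n k) := ‹IsNoetherian PP›
  obtain ⟨e, he⟩ := FFun.Gen.exists_genHH (A := k) (fun N hN p => projSpace_finite_HH n k N hN p) 0 S
    (fun m => isCoh_itM hM m) 0 hg
  refine ⟨e, fun m hm x => ?_⟩
  obtain ⟨b, hb⟩ := exists_sum_of_genHH S he hm x
  refine ⟨b, hb.trans (Finset.sum_congr rfl fun i _ => ?_)⟩
  show (AmpleVan.mulSec (InvX.one (InvX.ofSect (GrothLem.lsec (a i)))) (itM M m)).app ⊤ (b i) = _
  rw [InvX.one_ofSect, AmpleVan.mulSec_app, AModX.res_self]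
  rfl

/-- A hyperplane containing no associated point gives a projection adapted to a pure sheaf. -/
theorem exists_setup_of [Infinite k] {M : MOD} (hM : Coh.IsCoh M) (hpure : GrothLem.IsPureDeg M d)
    (hdim : HilbPoly.DimLT M (d + 1)) {l : Lin} (hl : ∀ x, Curv2.IsWeakAssPoint M x → x ∈ UL l) :
    ∃ y : Fin d → Lin, Setup M l y := by
  haveI : IsNoetherian PP := Proj16.isNoetherian_proj _
  have hA := QCoh.isClosed_support_of_isFT hM.1 hM.2
  have hB : IsClosed (CohB1.support M ∩ (UL l : Set PP)ᶜ) := hA.inter (UL l).2.isClosed_compl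
  obtain ⟨y, hy⟩ := exists_cover (k := k) (n := n) d _ hB
    (dim_lt_of_avoid hA hB Set.inter_subset_left
      (fun z hz hmax hzB => hzB.2 (hl z (AssPtX.isWeakAssPoint_of_maximal hM.1 hz hmax))) hdim)
  obtain ⟨m₀, hm₀⟩ := exists_gen hM (Fin.cons l y) fun x hx => by
    by_cases hxl : x ∈ UL l
    · exact ⟨0, hxl⟩
    · obtain ⟨i, hi⟩ := hy x ⟨hx, hxl⟩
      exact ⟨i.succ, by rwa [Fin.cons_succ]⟩
  refine ⟨y, hM, hl, hpure, hdim, m₀, fun m hm x => ?_⟩
  obtain ⟨b, rfl⟩ := hm₀ m hm x
  exact ⟨b 0, fun i => b i.succ, by rw [Fin.sum_univ_succ]; simp only [Fin.cons_zero, Fin.cons_succ]⟩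

/-- Projections adapted to a pure sheaf exist. -/
theorem exists_setup [Infinite k] {M : MOD} (hM : Coh.IsCoh M) (hpure : GrothLem.IsPureDeg M d)
    (hdim : HilbPoly.DimLT M (d + 1)) : ∃ (l : Lin) (y : Fin d → Lin), Setup M l y := by
  obtain ⟨l, hl⟩ := exists_lin_avoid (finite_weakAss hM)
  exact ⟨l, exists_setup_of hM hpure hdim hl⟩

end Groth.Agent.SimpsonEst

end
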