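import Mathlib.Algebra.DualNumber
import Mathlib.Algebra.MvPolynomial.PDeriv
import Mathlib.Algebra.MvPolynomial.NoZeroDivisors
import Mathlib.FieldTheory.RatFunc.AsPolynomial
import Mathlib.RingTheory.Localization.FractionRing
import Mathlib.RingTheory.Polynomial.UniqueFactorization
import Mathlib.RingTheory.UniqueFactorizationDomain.Basic

/-!
# The generic pointed line of affine space

The line `t = p + X • w` through a generic point `p` in a generic direction `w`, the derivations
moving it along the fibres of `(p, w, X) ↦ t`, and their constants.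
-/

set_option autoImplicit false
set_option maxHeartbeats 1000000
set_option synthInstance.maxHeartbeats 100000

universe u

noncomputable section

namespace Groth.Agent.SimpsonEst

open Polynomial

variable (k : Type u) [Field k] (d : ℕ)

/-- The coordinate ring of affine space. -/
abbrev CoordRing : Type u := MvPolynomial (Fin d) k

/-- The function field of affine space. -/
abbrev FunField : Type u := FractionRing (CoordRing k d)

/-- The parameters of a pointed line. -/
abbrev ParRing : Type u := MvPolynomial (Fin d ⊕ Fin d) k

/-- The field of parameters. -/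
abbrev ParField : Type u := FractionRing (ParRing k d)

/-- The function field of the generic line. -/
abbrev LineField : Type u := RatFunc (ParField k d)

variable {k d}

/-- A coordinate of the point. -/
def pp (i : Fin d) : ParRing k d := MvPolynomial.X (Sum.inl i)

/-- A coordinate of the direction. -/
def ww (i : Fin d) : ParRing k d := MvPolynomial.X (Sum.inr i)

variable (k d)

/-- Restriction to the line, with coefficients in the parameters. -/
def lineMap₀ : CoordRing k d →ₐ[k] Polynomial (ParRing k d) :=
  MvPolynomial.aeval fun i => C (pp i) + C (ww i) * X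

/-- Restriction of polynomials to the line. -/
def lineMap : CoordRing k d →+* Polynomial (ParField k d) :=
  (Polynomial.mapRingHom (algebraMap (ParRing k d) (ParField k d))).comp (lineMap₀ k d).toRingHom

theorem eval_lineMap₀ (f : CoordRing k d) : (lineMap₀ k d f).eval 0 = MvPolynomial.rename Sum.inl f := by
  induction f using MvPolynomial.induction_on with
  | C a => simp [lineMap₀, Polynomial.algebraMap_apply, MvPolynomial.algebraMap_eq]
  | add f g hf hg => rw [map_add, eval_add, hf, hg, map_add]
  | mul_X f i hf =>
    rw [map_mul, eval_mul, hf, map_mul, MvPolynomial.rename_X, lineMap₀, MvPolynomial.aeval_X]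
    simp [pp]

theorem eval_lineMap (f : CoordRing k d) :
    (lineMap k d f).eval 0 = algebraMap (ParRing k d) (ParField k d) (MvPolynomial.rename Sum.inl f) := by
  rw [← eval_lineMap₀]
  show ((lineMap₀ k d f).map (algebraMap (ParRing k d) (ParField k d))).eval 0 = _
  rw [eval_map, eval₂_at_zero, coeff_zero_eq_eval_zero]

theorem eval_lineMap_ne_zero {f : CoordRing k d} (hf : f ≠ 0) : (lineMap k d f).eval 0 ≠ 0 := by
  rw [eval_lineMap]
  intro h
  exact hf (MvPolynomial.rename_injective _ Sum.inl_injective
    ((IsFractionRing.injective (ParRing k d) (ParField k d)) (h.trans (map_zero _).symm) |>.trans (map_zero _).symm))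

theorem lineMap_injective : Function.Injective (lineMap k d) := by
  refine (injective_iff_map_eq_zero _).2 fun f hf => ?_
  by_contra h
  exact eval_lineMap_ne_zero k d h (by rw [hf, eval_zero])

theorem algebraMap_lineMap_injective :
    Function.Injective ((algebraMap (Polynomial (ParField k d)) (LineField k d)).comp (lineMap k d)) :=
  (RatFunc.algebraMap_injective (K := ParField k d)).comp (lineMap_injective k d)

/-- Restriction of rational functions to the line. -/
def incl : FunField k d →+* LineField k d :=
  IsFractionRing.lift (algebraMap_lineMap_injective k d)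

theorem incl_algebraMap (f : CoordRing k d) :
    incl k d (algebraMap _ _ f) = algebraMap (Polynomial (ParField k d)) (LineField k d) (lineMap k d f) :=
  IsFractionRing.lift_algebraMap _ f

variable {k d}

/-- A rational function on the line regular at the marked point. -/
def Reg (x : LineField k d) : Prop :=
  x.denom.eval 0 ≠ 0

/-- The value at the marked point. -/
def ev0 (x : LineField k d) : ParField k d :=
  RatFunc.eval (RingHom.id _) 0 x

theorem reg_algebraMap (q : Polynomial (ParField k d)) :
    Reg (algebraMap (Polynomial (ParField k d)) (LineField k d) q) := by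
  simp [Reg, RatFunc.denom_algebraMap]

theorem ev0_algebraMap (q : Polynomial (ParField k d)) :
    ev0 (algebraMap (Polynomial (ParField k d)) (LineField k d) q) = q.eval 0 := by
  simp [ev0, RatFunc.eval_algebraMap, coeff_zero_eq_eval_zero]

theorem Reg.add {x y : LineField k d} (hx : Reg x) (hy : Reg y) : Reg (x + y) := fun h => by
  obtain ⟨c, hc⟩ := RatFunc.denom_add_dvd x y
  have := congrArg (Polynomial.eval 0) hc
  rw [eval_mul, eval_mul, h, zero_mul] at this
  exact (mul_ne_zero hx hy) this

theorem Reg.mul {x y : LineField k d} (hx : Reg x) (hy : Reg y) : Reg (x * y) := fun h => by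
  obtain ⟨c, hc⟩ := RatFunc.denom_mul_dvd x y
  have := congrArg (Polynomial.eval 0) hc
  rw [eval_mul, eval_mul, h, zero_mul] at this
  exact (mul_ne_zero hx hy) this

theorem reg_zero : Reg (0 : LineField k d) := by
  rw [← map_zero (algebraMap (Polynomial (ParField k d)) (LineField k d))]
  exact reg_algebraMap _

theorem reg_sum {ι : Type*} (s : Finset ι) {f : ι → LineField k d} (h : ∀ i ∈ s, Reg (f i)) :
    Reg (∑ i ∈ s, f i) :=
  Finset.sum_induction f Reg (fun _ _ => Reg.add) reg_zero h

theorem ev0_add {x y : LineField k d} (hx : Reg x) (hy : Reg y) : ev0 (x + y) = ev0 x + ev0 y :=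
  RatFunc.eval_add (RingHom.id _) (a := 0) hx hy

theorem ev0_mul {x y : LineField k d} (hx : Reg x) (hy : Reg y) : ev0 (x * y) = ev0 x * ev0 y :=
  RatFunc.eval_mul (RingHom.id _) (a := 0) hx hy

theorem ev0_zero : ev0 (0 : LineField k d) = 0 := by
  rw [← map_zero (algebraMap (Polynomial (ParField k d)) (LineField k d)), ev0_algebraMap, eval_zero]

theorem ev0_sum {ι : Type*} (s : Finset ι) {f : ι → LineField k d} (h : ∀ i ∈ s, Reg (f i)) :
    ev0 (∑ i ∈ s, f i) = ∑ i ∈ s, ev0 (f i) := by
  classical
  induction s using Finset.induction_on with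
  | empty => rw [Finset.sum_empty, Finset.sum_empty, ev0_zero]
  | insert a s ha ih =>
    rw [Finset.sum_insert ha, Finset.sum_insert ha, ev0_add (h a (Finset.mem_insert_self _ _))
      (reg_sum s fun i hi => h i (Finset.mem_insert_of_mem hi)), ih fun i hi => h i (Finset.mem_insert_of_mem hi)]

theorem reg_algebraMap_field (c : ParField k d) : Reg (algebraMap (ParField k d) (LineField k d) c) := by
  rw [IsScalarTower.algebraMap_apply (ParField k d) (Polynomial (ParField k d)) (LineField k d)]
  exact reg_algebraMap _

theorem ev0_algebraMap_field (c : ParField k d) : ev0 (algebraMap (ParField k d) (LineField k d) c) = c := by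
  rw [IsScalarTower.algebraMap_apply (ParField k d) (Polynomial (ParField k d)) (LineField k d), ev0_algebraMap,
    Polynomial.algebraMap_apply, eval_C]
  rfl

theorem Reg.smul (c : ParField k d) {x : LineField k d} (hx : Reg x) : Reg (c • x) := by
  rw [Algebra.smul_def]
  exact (reg_algebraMap_field c).mul hx

theorem ev0_smul (c : ParField k d) {x : LineField k d} (hx : Reg x) : ev0 (c • x) = c * ev0 x := by
  rw [Algebra.smul_def, ev0_mul (reg_algebraMap_field c) hx, ev0_algebraMap_field]

theorem reg_X : Reg (RatFunc.X : LineField k d) := by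
  rw [← RatFunc.algebraMap_X]
  exact reg_algebraMap _

theorem ev0_X : ev0 (RatFunc.X : LineField k d) = 0 := by
  rw [← RatFunc.algebraMap_X, ev0_algebraMap, eval_X]

theorem reg_X_pow (j : ℕ) : Reg ((RatFunc.X : LineField k d) ^ j) := by
  rw [← RatFunc.algebraMap_X, ← map_pow]
  exact reg_algebraMap _

/-- A regular function vanishing at the marked point is divisible by `X`. -/
theorem exists_eq_X_mul {x : LineField k d} (hx : Reg x) (h0 : ev0 x = 0) :
    ∃ y : LineField k d, Reg y ∧ x = RatFunc.X * y := by
  have hn : x.num.eval 0 = 0 := by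
    rw [ev0, RatFunc.eval, eval₂_id, eval₂_id, div_eq_zero_iff] at h0
    exact h0.resolve_right hx
  obtain ⟨q, hq⟩ : (X : Polynomial (ParField k d)) ∣ x.num := by
    rwa [X_dvd_iff, coeff_zero_eq_eval_zero]
  refine ⟨algebraMap _ _ q / algebraMap _ _ x.denom, fun h => ?_, ?_⟩
  · obtain ⟨c, hc⟩ := RatFunc.denom_div_dvd q x.denom
    have := congrArg (Polynomial.eval 0) hc
    rw [eval_mul, h, zero_mul] at this
    exact hx this
  · rw [← mul_div_assoc, ← RatFunc.algebraMap_X, ← map_mul, ← hq, RatFunc.num_div_denom]

theorem reg_incl (z : FunField k d) : Reg (incl k d z) := by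
  obtain ⟨a, b, hb, rfl⟩ := IsFractionRing.div_surjective (CoordRing k d) z
  rw [map_div₀, incl_algebraMap, incl_algebraMap]
  intro h
  obtain ⟨c, hc⟩ := RatFunc.denom_div_dvd (lineMap k d a) (lineMap k d b)
  have := congrArg (Polynomial.eval 0) hc
  rw [eval_mul, h, zero_mul] at this
  exact eval_lineMap_ne_zero k d (nonZeroDivisors.ne_zero hb) this

theorem ev0_incl_eq_zero {z : FunField k d} (h : ev0 (incl k d z) = 0) : z = 0 := by
  by_contra hz
  have h1 : ev0 (incl k d z * incl k d z⁻¹) = 1 := by
    rw [← map_mul, mul_inv_cancel₀ hz, map_one, ← map_one (algebraMap (Polynomial (ParField k d)) (LineField k d)),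
      ev0_algebraMap, eval_one]
  rw [ev0_mul (reg_incl z) (reg_incl z⁻¹), h, zero_mul] at h1
  exact zero_ne_one h1

section Moves

/-- The directions in which the line moves with its image point fixed. -/
def movePar : Option (Fin d) → Fin d ⊕ Fin d → LineField k d
  | some i, Sum.inl j => if i = j then -RatFunc.X else 0
  | some i, Sum.inr j => if i = j then 1 else 0
  | none, Sum.inl j => -algebraMap (ParField k d) (LineField k d) (algebraMap (ParRing k d) (ParField k d) (ww j))
  | none, Sum.inr _ => 0

/-- The motion of the parameter of the line. -/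
def moveX : Option (Fin d) → LineField k d
  | some _ => 0
  | none => 1

/-- The first order motion on the parameters. -/
def move₀ (e : Option (Fin d)) : ParRing k d →ₐ[k] DualNumber (LineField k d) :=
  MvPolynomial.aeval fun j => TrivSqZeroExt.inl
    (algebraMap (ParField k d) (LineField k d) (algebraMap (ParRing k d) (ParField k d) (MvPolynomial.X j))) +
      TrivSqZeroExt.inr (movePar e j)

theorem fst_move₀ (e : Option (Fin d)) (x : ParRing k d) :
    TrivSqZeroExt.fst (move₀ e x) =
      algebraMap (ParField k d) (LineField k d) (algebraMap (ParRing k d) (ParField k d) x) := by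
  induction x using MvPolynomial.induction_on with
  | C a =>
    rw [show (MvPolynomial.C a : ParRing k d) = algebraMap k (ParRing k d) a from rfl, AlgHom.commutes,
      TrivSqZeroExt.algebraMap_eq_inl', TrivSqZeroExt.fst_inl, ← IsScalarTower.algebraMap_apply,
      ← IsScalarTower.algebraMap_apply]
  | add f g hf hg => simp only [map_add, TrivSqZeroExt.fst_add, hf, hg]
  | mul_X f i hf => simp [move₀, TrivSqZeroExt.fst_mul] at hf ⊢; rw [hf]

theorem isUnit_move₀ (e : Option (Fin d)) (y : nonZeroDivisors (ParRing k d)) :
    IsUnit ((move₀ (k := k) e).toRingHom (y : ParRing k d)) := by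
  rw [TrivSqZeroExt.isUnit_iff_isUnit_fst, isUnit_iff_ne_zero]
  show TrivSqZeroExt.fst (move₀ e y.1) ≠ 0
  rw [fst_move₀]
  exact fun h => nonZeroDivisors.ne_zero y.2 (IsFractionRing.injective (ParRing k d) (ParField k d)
    (((algebraMap (ParField k d) (LineField k d)).injective (h.trans (map_zero _).symm)).trans (map_zero _).symm))

/-- The first order motion on the field of parameters. -/
def move₁ (e : Option (Fin d)) : ParField k d →+* DualNumber (LineField k d) :=
  IsLocalization.lift (isUnit_move₀ e)

theorem fst_move₁ (e : Option (Fin d)) (c : ParField k d) :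
    TrivSqZeroExt.fst (move₁ e c) = algebraMap (ParField k d) (LineField k d) c := by
  have h : ((TrivSqZeroExt.fstHom k (LineField k d) (LineField k d)).toRingHom).comp (move₁ e) =
      algebraMap (ParField k d) (LineField k d) :=
    IsLocalization.ringHom_ext (nonZeroDivisors (ParRing k d)) (RingHom.ext fun x => by
      show TrivSqZeroExt.fst (move₁ e (algebraMap _ _ x)) = _
      rw [move₁, IsLocalization.lift_eq]
      exact fst_move₀ e x)
  exact RingHom.congr_fun h c

/-- The first order motion on polynomials. -/
def move₂ (e : Option (Fin d)) : Polynomial (ParField k d) →+* DualNumber (LineField k d) :=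
  eval₂RingHom (move₁ e) (TrivSqZeroExt.inl RatFunc.X + TrivSqZeroExt.inr (moveX e))

theorem fst_move₂ (e : Option (Fin d)) (q : Polynomial (ParField k d)) :
    TrivSqZeroExt.fst (move₂ e q) = algebraMap (Polynomial (ParField k d)) (LineField k d) q := by
  induction q using Polynomial.induction_on' with
  | add f g hf hg => simp only [map_add, TrivSqZeroExt.fst_add, hf, hg]
  | monomial n c =>
    rw [← C_mul_X_pow_eq_monomial, map_mul, map_mul, map_pow, map_pow, TrivSqZeroExt.fst_mul,
      TrivSqZeroExt.fst_pow, RatFunc.algebraMap_X, RatFunc.algebraMap_C]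
    simp [move₂, fst_move₁, RatFunc.algebraMap_eq_C]

theorem isUnit_move₂ (e : Option (Fin d)) (y : nonZeroDivisors (Polynomial (ParField k d))) :
    IsUnit (move₂ (k := k) e (y : Polynomial (ParField k d))) := by
  rw [TrivSqZeroExt.isUnit_iff_isUnit_fst, isUnit_iff_ne_zero, fst_move₂]
  exact RatFunc.algebraMap_ne_zero (nonZeroDivisors.ne_zero y.2)

/-- The first order motion on the function field of the line. -/
def move (e : Option (Fin d)) : LineField k d →+* DualNumber (LineField k d) :=
  IsLocalization.lift (isUnit_move₂ (k := k) e)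

theorem fst_move (e : Option (Fin d)) (x : LineField k d) : TrivSqZeroExt.fst (move e x) = x := by
  have h : ((TrivSqZeroExt.fstHom k (LineField k d) (LineField k d)).toRingHom).comp (move e) =
      RingHom.id _ :=
    IsLocalization.ringHom_ext (nonZeroDivisors (Polynomial (ParField k d))) (RingHom.ext fun q => by
      show TrivSqZeroExt.fst (move (k := k) e (algebraMap (Polynomial (ParField k d)) (LineField k d) q)) = _
      rw [move, IsLocalization.lift_eq, fst_move₂]
      rfl)
  exact RingHom.congr_fun h x

/-- The derivation moving the line. -/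
def D (e : Option (Fin d)) (x : LineField k d) : LineField k d :=
  TrivSqZeroExt.snd (move e x)

theorem D_add (e : Option (Fin d)) (x y : LineField k d) : D e (x + y) = D e x + D e y := by
  rw [D, map_add, TrivSqZeroExt.snd_add]
  rfl

theorem D_zero (e : Option (Fin d)) : D e (0 : LineField k d) = 0 := by
  rw [D, map_zero, TrivSqZeroExt.snd_zero]

theorem D_mul (e : Option (Fin d)) (x y : LineField k d) : D e (x * y) = x * D e y + y * D e x := by
  rw [D, map_mul, DualNumber.snd_mul, fst_move, fst_move, mul_comm (TrivSqZeroExt.snd _) y]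
  rfl

theorem D_one (e : Option (Fin d)) : D e (1 : LineField k d) = 0 := by
  rw [D, map_one, TrivSqZeroExt.snd_one]

theorem D_sum {ι : Type*} (e : Option (Fin d)) (s : Finset ι) (f : ι → LineField k d) :
    D e (∑ i ∈ s, f i) = ∑ i ∈ s, D e (f i) := by
  simp only [D, map_sum, TrivSqZeroExt.snd_sum]

theorem D_par (e : Option (Fin d)) (j : Fin d ⊕ Fin d) :
    D e (algebraMap (ParField k d) (LineField k d) (algebraMap (ParRing k d) (ParField k d) (MvPolynomial.X j))) =
      movePar e j := by
  rw [D, RatFunc.algebraMap_eq_C, ← RatFunc.algebraMap_C, move, IsLocalization.lift_eq, move₂]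
  simp [move₁, IsLocalization.lift_eq, move₀]

theorem D_X (e : Option (Fin d)) : D e (RatFunc.X : LineField k d) = moveX e := by
  rw [D, ← RatFunc.algebraMap_X, move, IsLocalization.lift_eq, move₂]
  simp

theorem D_const (e : Option (Fin d)) (c : k) :
    D e (algebraMap (ParField k d) (LineField k d) (algebraMap (ParRing k d) (ParField k d) (MvPolynomial.C c))) =
      0 := by
  rw [D, RatFunc.algebraMap_eq_C, ← RatFunc.algebraMap_C, move, IsLocalization.lift_eq, move₂]
  simp [move₁, IsLocalization.lift_eq, move₀, TrivSqZeroExt.algebraMap_eq_inl']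

theorem D_lineMap (e : Option (Fin d)) (f : CoordRing k d) :
    D e (algebraMap (Polynomial (ParField k d)) (LineField k d) (lineMap k d f)) = 0 := by
  induction f using MvPolynomial.induction_on with
  | C a =>
    have h : lineMap k d (MvPolynomial.C a) = C (algebraMap (ParRing k d) (ParField k d) (MvPolynomial.C a)) := by
      simp [lineMap, lineMap₀, MvPolynomial.algebraMap_eq, Polynomial.algebraMap_apply]
    rw [h, RatFunc.algebraMap_C, ← RatFunc.algebraMap_eq_C]
    exact D_const e a
  | add f g hf hg => simp only [map_add, D_add, hf, hg, add_zero]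
  | mul_X f i hf =>
    rw [map_mul, map_mul, D_mul, hf, mul_zero, add_zero]
    have h : lineMap k d (MvPolynomial.X i) = C (algebraMap (ParRing k d) (ParField k d) (pp i)) +
        C (algebraMap (ParRing k d) (ParField k d) (ww i)) * X := by
      simp [lineMap, lineMap₀]
    rw [h, map_add, map_mul, RatFunc.algebraMap_X, RatFunc.algebraMap_C, RatFunc.algebraMap_C,
      ← RatFunc.algebraMap_eq_C, D_add, D_mul, D_X, pp, ww, D_par, D_par]
    cases e with
    | none => simp [movePar, moveX, ww]
    | some l => by_cases hl : l = i <;> simp [movePar, moveX, hl]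

theorem D_incl (e : Option (Fin d)) (z : FunField k d) : D e (incl k d z) = 0 := by
  obtain ⟨a, b, hb, rfl⟩ := IsFractionRing.div_surjective (CoordRing k d) z
  have hb0 : incl k d (algebraMap _ _ b) ≠ 0 := fun h => nonZeroDivisors.ne_zero hb
    (IsFractionRing.injective (CoordRing k d) (FunField k d) (((incl k d).injective
      (h.trans (map_zero _).symm)).trans (map_zero _).symm))
  have h := D_mul e (incl k d (algebraMap _ _ a / algebraMap _ _ b)) (incl k d (algebraMap _ _ b))
  rw [map_div₀, div_mul_cancel₀ _ hb0, incl_algebraMap, incl_algebraMap, D_lineMap, D_lineMap, mul_zero,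
    zero_add, zero_eq_mul, ← incl_algebraMap, ← incl_algebraMap, ← map_div₀] at h
  exact h.resolve_left hb0

end Moves

section Constants

/-- Polynomials in the motion of the line over the coordinate ring. -/
abbrev MoveRing (k : Type u) [Field k] (d : ℕ) : Type u := MvPolynomial (Option (Fin d)) (CoordRing k d)

/-- The line coordinates as functions of the image point and the motion. -/
def toLine : MoveRing k d →+* Polynomial (ParRing k d) :=
  MvPolynomial.eval₂Hom (lineMap₀ k d).toRingHom fun e => e.elim X fun i => C (ww i)

/-- The inverse of `toLine`. -/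
def ofLine : Polynomial (ParRing k d) →+* MoveRing k d :=
  eval₂RingHom (MvPolynomial.eval₂Hom (MvPolynomial.C.comp MvPolynomial.C) fun j => j.elim
    (fun i => MvPolynomial.C (MvPolynomial.X i) - MvPolynomial.X (some i) * MvPolynomial.X none)
    fun i => MvPolynomial.X (some i)) (MvPolynomial.X none)

theorem ofLine_toLine (x : MoveRing k d) : ofLine (toLine x) = x := by
  have h : ofLine.comp (toLine (k := k) (d := d)) = RingHom.id _ := by
    refine MvPolynomial.ringHom_ext' (MvPolynomial.ringHom_ext (fun a => ?_) fun i => ?_) fun e => ?_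
    · simp [toLine, ofLine, lineMap₀, Polynomial.algebraMap_apply, MvPolynomial.algebraMap_eq]
    · simp [toLine, ofLine, lineMap₀, pp, ww]
    · cases e <;> simp [toLine, ofLine, ww]
  exact RingHom.congr_fun h x

theorem toLine_ofLine (x : Polynomial (ParRing k d)) : toLine (ofLine x) = x := by
  have h : (toLine (k := k) (d := d)).comp ofLine = RingHom.id _ := by
    refine Polynomial.ringHom_ext' (MvPolynomial.ringHom_ext (fun a => ?_) fun j => ?_) ?_
    · simp [toLine, ofLine, lineMap₀, Polynomial.algebraMap_apply, MvPolynomial.algebraMap_eq]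
    · cases j <;> simp [toLine, ofLine, lineMap₀, pp, ww]
    · simp [toLine, ofLine]
  exact RingHom.congr_fun h x

/-- The motion ring in the function field of the line. -/
def toField : MoveRing k d →+* LineField k d :=
  ((algebraMap (Polynomial (ParField k d)) (LineField k d)).comp
    (Polynomial.mapRingHom (algebraMap (ParRing k d) (ParField k d)))).comp toLine

theorem toField_injective : Function.Injective (toField (k := k) (d := d)) :=
  ((RatFunc.algebraMap_injective (K := ParField k d)).comp
    (Polynomial.map_injective _ (IsFractionRing.injective (ParRing k d) (ParField k d)))).comp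
    (Function.LeftInverse.injective ofLine_toLine)

theorem toField_C (f : CoordRing k d) : toField (MvPolynomial.C f) = incl k d (algebraMap _ _ f) := by
  rw [incl_algebraMap]
  simp [toField, toLine, lineMap]

theorem exists_eq_div (x : LineField k d) :
    ∃ p q : MoveRing k d, q ≠ 0 ∧ x = toField p / toField q := by
  obtain ⟨m₁, hm₁⟩ := IsLocalization.integerNormalization_spec (nonZeroDivisors (ParRing k d)) x.num
  obtain ⟨m₂, hm₂⟩ := IsLocalization.integerNormalization_spec (nonZeroDivisors (ParRing k d)) x.denom
  let n₁ := IsLocalization.integerNormalization (nonZeroDivisors (ParRing k d)) x.num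
  let n₂ := IsLocalization.integerNormalization (nonZeroDivisors (ParRing k d)) x.denom
  have h₁ : n₁.map (algebraMap (ParRing k d) (ParField k d)) = C (algebraMap (ParRing k d) (ParField k d) m₁) * x.num := by
    rw [hm₁.2, Algebra.smul_def, Polynomial.algebraMap_apply]
  have h₂ : n₂.map (algebraMap (ParRing k d) (ParField k d)) = C (algebraMap (ParRing k d) (ParField k d) m₂) * x.denom := by
    rw [hm₂.2, Algebra.smul_def, Polynomial.algebraMap_apply]
  refine ⟨ofLine (n₁ * C m₂), ofLine (n₂ * C m₁), fun h => ?_, ?_⟩
  · have := congrArg toLine h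
    rw [toLine_ofLine, map_zero, mul_eq_zero, C_eq_zero] at this
    refine this.elim (fun h' => x.denom_ne_zero ?_) (nonZeroDivisors.ne_zero hm₁.1)
    rw [h', Polynomial.map_zero, zero_eq_mul, C_eq_zero] at h₂
    exact h₂.resolve_left fun h'' => nonZeroDivisors.ne_zero hm₂.1
      (IsFractionRing.injective (ParRing k d) (ParField k d) (h''.trans (map_zero _).symm))
  · have hm : ∀ m : ParRing k d, m ∈ nonZeroDivisors (ParRing k d) → algebraMap (Polynomial (ParField k d)) (LineField k d)
        (C (algebraMap (ParRing k d) (ParField k d) m)) ≠ 0 := fun m hm' =>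
      RatFunc.algebraMap_ne_zero fun h => nonZeroDivisors.ne_zero hm'
        (IsFractionRing.injective (ParRing k d) (ParField k d) ((C_eq_zero.1 h).trans (map_zero _).symm))
    simp only [toField, RingHom.comp_apply, toLine_ofLine, coe_mapRingHom, Polynomial.map_mul, map_C, h₁, h₂,
      map_mul]
    rw [mul_comm _ (algebraMap _ _ x.num), mul_comm _ (algebraMap _ _ x.denom), mul_assoc, mul_assoc,
      mul_comm (algebraMap (Polynomial (ParField k d)) (LineField k d)
        (C (algebraMap (ParRing k d) (ParField k d) m₂))),
      mul_div_mul_right _ _ (mul_ne_zero (hm m₁ hm₁.1) (hm m₂ hm₂.1))]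
    exact (RatFunc.num_div_denom x).symm

theorem D_toField (e : Option (Fin d)) (q : MoveRing k d) :
    D e (toField q) = toField (MvPolynomial.pderiv e q) := by
  induction q using MvPolynomial.induction_on with
  | C a => rw [toField_C, D_incl, MvPolynomial.pderiv_C, map_zero]
  | add f g hf hg => simp only [map_add, D_add, hf, hg]
  | mul_X f i hf =>
    have hX : D e (toField (MvPolynomial.X i : MoveRing k d)) = toField (MvPolynomial.pderiv e (MvPolynomial.X i)) := by
      cases i with
      | none =>
        rw [show toField (MvPolynomial.X none : MoveRing k d) = RatFunc.X by simp [toField, toLine], D_X]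
        cases e <;> simp [moveX]
      | some l =>
        rw [show toField (MvPolynomial.X (some l) : MoveRing k d) = algebraMap (ParField k d) (LineField k d)
          (algebraMap (ParRing k d) (ParField k d) (ww l)) by simp [toField, toLine, RatFunc.algebraMap_eq_C], ww, D_par]
        cases e with
        | none => simp [movePar]
        | some m =>
          by_cases h : m = l
          · subst h; simp [movePar]
          · simp [movePar, h, MvPolynomial.pderiv_X_of_ne (show (some l : Option (Fin d)) ≠ some m from
              fun h' => h (Option.some_injective _ h').symm)]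
    rw [map_mul, D_mul, hf, hX, MvPolynomial.pderiv_mul, map_add, map_mul, map_mul]
    ring

theorem totalDegree_pderiv_lt {σ R : Type*} [CommRing R] {q : MvPolynomial σ R} {e : σ}
    (h : MvPolynomial.pderiv e q ≠ 0) : (MvPolynomial.pderiv e q).totalDegree < q.totalDegree := by
  classical
  obtain ⟨m, hm, hmd⟩ := Finset.exists_mem_eq_sup _ (MvPolynomial.support_nonempty.2 h)
    fun m : σ →₀ ℕ => m.sum fun _ n => n
  have hm' : m + Finsupp.single e 1 ∈ q.support := MvPolynomial.mem_support_iff.2 fun h0 => by
    rw [MvPolynomial.mem_support_iff, MvPolynomial.coeff_pderiv, h0] at hm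
    simp at hm
  have := MvPolynomial.le_totalDegree hm'
  rw [Finsupp.sum_add_index' (fun _ => rfl) (fun _ _ _ => rfl), Finsupp.sum_single_index rfl] at this
  rw [MvPolynomial.totalDegree]
  omega

theorem eq_C_of_pderiv_eq_zero {σ R : Type*} [CommRing R] [IsDomain R] [CharZero R] {q : MvPolynomial σ R}
    (h : ∀ e, MvPolynomial.pderiv e q = 0) : q = MvPolynomial.C (MvPolynomial.coeff 0 q) := by
  classical
  refine MvPolynomial.ext _ _ fun m => ?_
  rw [MvPolynomial.coeff_C]
  split_ifs with hm
  · rw [← hm]
  obtain ⟨e, he⟩ := Finsupp.support_nonempty_iff.2 (Ne.symm hm)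
  have hle : Finsupp.single e 1 ≤ m := by
    rw [Finsupp.single_le_iff]
    exact Nat.one_le_iff_ne_zero.2 (Finsupp.mem_support_iff.1 he)
  have h1 := MvPolynomial.coeff_pderiv (i := e) q (m - Finsupp.single e 1)
  rw [h e, MvPolynomial.coeff_zero, tsub_add_cancel_of_le hle, zero_eq_mul] at h1
  exact h1.resolve_right fun h2 => by
    have h3 : (((((m - Finsupp.single e 1 : σ →₀ ℕ)) e + 1 : ℕ)) : R) = 0 := by push_cast; exact h2
    exact Nat.succ_ne_zero _ (Nat.cast_eq_zero.1 h3)

/-- In characteristic zero the constants of the motions are the functions on affine space. -/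
theorem mem_range_incl_of_D [CharZero k] {x : LineField k d} (h : ∀ e, D e x = 0) :
    ∃ z : FunField k d, incl k d z = x := by
  obtain ⟨p, q, hq, rfl⟩ := exists_eq_div x
  obtain ⟨p', q', c, hrel, rfl, rfl⟩ := UniqueFactorizationMonoid.exists_reduced_factors' p q hq
  have hc : c ≠ 0 := fun h0 => hq (by rw [h0, zero_mul])
  have hq' : q' ≠ 0 := fun h0 => hq (by rw [h0, mul_zero])
  have hx : toField (c * p') / toField (c * q') = toField p' / toField q' := by
    rw [map_mul, map_mul, mul_div_mul_left _ _ fun h0 => hc (toField_injective (h0.trans (map_zero _).symm))]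
  rw [hx] at h ⊢
  have hq0 : toField q' ≠ 0 := fun h0 => hq' (toField_injective (h0.trans (map_zero _).symm))
  have hrels : ∀ e, q' * MvPolynomial.pderiv e p' = p' * MvPolynomial.pderiv e q' := fun e => by
    refine toField_injective ?_
    have h1 := D_mul e (toField p' / toField q') (toField q')
    rw [div_mul_cancel₀ _ hq0, h e, mul_zero, add_zero, D_toField, D_toField] at h1
    rw [map_mul, map_mul, h1]
    field_simp
  have hqz : ∀ e, MvPolynomial.pderiv e q' = 0 := fun e => by
    by_contra hne
    obtain ⟨w, hw⟩ : q' ∣ MvPolynomial.pderiv e q' :=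
      (hrel.symm).dvd_of_dvd_mul_left ⟨_, (hrels e).symm⟩
    have h2 := totalDegree_pderiv_lt hne
    rw [hw, MvPolynomial.totalDegree_mul_of_isDomain hq' (fun h0 => hne (by rw [hw, h0, mul_zero]))] at h2
    omega
  have hpz : ∀ e, MvPolynomial.pderiv e p' = 0 := fun e => by
    have h2 := hrels e
    rw [hqz e, mul_zero, mul_eq_zero] at h2
    exact h2.resolve_left hq'
  refine ⟨algebraMap _ _ (MvPolynomial.coeff 0 p') / algebraMap _ _ (MvPolynomial.coeff 0 q'), ?_⟩
  rw [map_div₀, ← toField_C, ← toField_C, ← eq_C_of_pderiv_eq_zero hpz, ← eq_C_of_pderiv_eq_zero hqz]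

end Constants

end Groth.Agent.SimpsonEst

end
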