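import Groth.Agent.SimpsonEst.Numeric

/-!
# Linear maps between systems, and the degree formula
-/

set_option autoImplicit false
set_option maxHeartbeats 1000000
set_option synthInstance.maxHeartbeats 100000

universe u

noncomputable section

namespace Groth.Agent.SimpsonEst

open Polynomial Module StabCat

variable {k : Type u} [Field k] {d r r' r'' : ℕ}

theorem apply_eq_sum_single (A : (Fin r → FunField k d) →ₗ[FunField k d] (Fin r' → FunField k d))
    (v : Fin r → FunField k d) : A v = ∑ β, v β • A (Pi.single β 1) := by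
  conv_lhs => rw [pi_eq_sum_univ v, map_sum]
  refine Finset.sum_congr rfl fun β _ => ?_
  rw [map_smul]
  congr 2
  ext γ
  simp [Pi.single_apply, eq_comm]

/-- A linear map on the generic line. -/
def inclLin (A : (Fin r → FunField k d) →ₗ[FunField k d] (Fin r' → FunField k d)) :
    (Fin r → LineField k d) →ₗ[LineField k d] (Fin r' → LineField k d) :=
  Fintype.linearCombination (LineField k d) fun β => inclV (A (Pi.single β 1))

theorem inclLin_inclV (A : (Fin r → FunField k d) →ₗ[FunField k d] (Fin r' → FunField k d))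
    (v : Fin r → FunField k d) : inclLin A (inclV v) = inclV (A v) := by
  conv_rhs => rw [apply_eq_sum_single A v]
  rw [inclV_sum, inclLin, Fintype.linearCombination_apply]
  exact Finset.sum_congr rfl fun β _ => (inclV_smul _ _).symm

theorem inclV_single (β : Fin r) : inclV (Pi.single β 1 : Fin r → FunField k d) = Pi.single β 1 := by
  ext γ
  rcases eq_or_ne γ β with rfl | h
  · simp [inclV]
  · simp [inclV, h]

theorem inclLin_inclLin (A : (Fin r → FunField k d) →ₗ[FunField k d] (Fin r' → FunField k d))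
    (B : (Fin r' → FunField k d) →ₗ[FunField k d] (Fin r'' → FunField k d)) (x : Fin r → LineField k d) :
    inclLin B (inclLin A x) = inclLin (B ∘ₗ A) x := by
  refine LinearMap.congr_fun (f := (inclLin B).comp (inclLin A)) (g := inclLin (B ∘ₗ A))
    (LinearMap.pi_ext' fun β => LinearMap.ext_ring ?_) x
  show inclLin B (inclLin A (Pi.single β 1)) = inclLin (B ∘ₗ A) (Pi.single β 1)
  rw [← inclV_single, inclLin_inclV, inclLin_inclV, inclLin_inclV]
  rfl

theorem inclLin_id (x : Fin r → LineField k d) :
    inclLin (LinearMap.id : (Fin r → FunField k d) →ₗ[FunField k d] _) x = x := by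
  refine LinearMap.congr_fun (f := inclLin LinearMap.id) (g := LinearMap.id)
    (LinearMap.pi_ext' fun β => LinearMap.ext_ring ?_) x
  show inclLin LinearMap.id (Pi.single β 1) = Pi.single β 1
  rw [← inclV_single, inclLin_inclV]
  rfl

theorem inclLin_zero (x : Fin r → LineField k d) :
    inclLin (0 : (Fin r → FunField k d) →ₗ[FunField k d] (Fin r' → FunField k d)) x = 0 := by
  simp [inclLin, Fintype.linearCombination_apply, inclV_zero]

theorem inclLin_smul (A : (Fin r → FunField k d) →ₗ[FunField k d] (Fin r' → FunField k d))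
    (c : ParField k d) (x : Fin r → LineField k d) : inclLin A (c • x) = c • inclLin A x := by
  rw [← algebraMap_smul (LineField k d) c x, map_smul, algebraMap_smul]

/-- Linear maps preserve boundedness. -/
theorem bdd_map (A : (Fin r → FunField k d) →ₗ[FunField k d] (Fin r' → FunField k d)) (Φ : Sys k d r) :
    ∃ (g : CoordRing k d) (C m₁ : ℤ), g ≠ 0 ∧ ∀ e, m₁ ≤ e → ∀ v ∈ Φ.Γ e, ∀ α,
      ∃ q : CoordRing k d, (q = 0 ∨ (q.totalDegree : ℤ) ≤ e + C) ∧
        algebraMap (CoordRing k d) (FunField k d) q = algebraMap (CoordRing k d) (FunField k d) g * A v α := by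
  classical
  obtain ⟨g, C, m₁, hg, hb⟩ := Φ.bdd
  obtain ⟨h, hh⟩ := IsLocalization.exist_integer_multiples_of_finite (nonZeroDivisors (CoordRing k d))
    (fun p : Fin r × Fin r' => A (Pi.single p.1 1) p.2)
  choose a ha using hh
  let D : ℕ := Finset.univ.sup fun p => (a p).totalDegree
  refine ⟨g * (h : CoordRing k d), C + D, m₁, mul_ne_zero hg (nonZeroDivisors.ne_zero h.2), fun e he v hv α => ?_⟩
  choose q hq hqe using fun β => hb e he v hv β
  refine ⟨∑ β, q β * a (β, α), ?_, ?_⟩
  · by_cases hz : ∀ β, q β = 0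
    · exact Or.inl (Finset.sum_eq_zero fun β _ => by rw [hz β, zero_mul])
    push Not at hz
    obtain ⟨β₀, hβ₀⟩ := hz
    have h0 : 0 ≤ e + C := le_trans (Int.natCast_nonneg _) ((hq β₀).resolve_left hβ₀)
    refine Or.inr ?_
    obtain ⟨n, hn⟩ : ∃ n : ℕ, e + C = n := ⟨(e + C).toNat, by omega⟩
    have h1 : (∑ β, q β * a (β, α)).totalDegree ≤ n + D := MvPolynomial.totalDegree_finsetSum_le fun β _ => by
      refine (MvPolynomial.totalDegree_mul _ _).trans ?_
      have h2 : (q β).totalDegree ≤ n := (hq β).elim (fun h => by simp [h]) (fun h => by omega)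
      have h3 : (a (β, α)).totalDegree ≤ D :=
        Finset.le_sup (f := fun p => (a p).totalDegree) (Finset.mem_univ (β, α))
      omega
    omega
  · rw [apply_eq_sum_single A v, map_sum, Finset.sum_apply, map_mul, Finset.mul_sum]
    refine Finset.sum_congr rfl fun β _ => ?_
    rw [map_mul, hqe, ha, Algebra.smul_def, Pi.smul_apply, smul_eq_mul]
    ring

namespace Sys

variable (Φ : Sys k d r)

/-- The image system under a surjective linear map. -/
def map (A : (Fin r → FunField k d) →ₗ[FunField k d] (Fin r' → FunField k d)) (hA : Function.Surjective A) :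
    Sys k d r' where
  Γ e := (Φ.Γ e).map (A.restrictScalars k)
  mono e := Submodule.map_mono (Φ.mono e)
  mulX := by
    rintro i e _ ⟨v, hv, rfl⟩
    exact ⟨tt k d i • v, Φ.mulX i e v hv, map_smul A _ _⟩
  fin e := by
    haveI := Φ.fin e
    infer_instance
  spans := by
    obtain ⟨e, he⟩ := Φ.spans
    refine ⟨e, ?_⟩
    rw [show ((Φ.Γ e).map (A.restrictScalars k) : Set (Fin r' → FunField k d)) = A '' Φ.Γ e from rfl,
      ← Submodule.map_span, he, Submodule.map_top, LinearMap.range_eq_top.2 hA]
  bdd := by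
    obtain ⟨g, C, m₁, hg, hb⟩ := bdd_map A Φ
    exact ⟨g, C, m₁, hg, fun e he _ ⟨v, hv, h⟩ α => h ▸ hb e he v hv α⟩

/-- The system cut out by an injective linear map. -/
def comap (ψ : (Fin r' → FunField k d) →ₗ[FunField k d] (Fin r → FunField k d)) (hψ : Function.Injective ψ)
    (hspan : ∃ e, Submodule.span (FunField k d) (((Φ.Γ e).comap (ψ.restrictScalars k) : Submodule k (Fin r' → FunField k d)) : Set (Fin r' → FunField k d)) = ⊤) :
    Sys k d r' where
  Γ e := (Φ.Γ e).comap (ψ.restrictScalars k)
  mono e := Submodule.comap_mono (Φ.mono e)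
  mulX i e v hv := by
    show ψ (tt k d i • v) ∈ Φ.Γ (e + 1)
    rw [map_smul]
    exact Φ.mulX i e _ hv
  fin e := by
    haveI := Φ.fin e
    exact Module.Finite.of_injective (M := (Φ.Γ e).comap (ψ.restrictScalars k)) (N := Φ.Γ e)
      ((ψ.restrictScalars k).restrict fun v hv => hv)
      fun a b hab => Subtype.ext (hψ (congrArg Subtype.val hab))
  spans := hspan
  bdd := by
    obtain ⟨A, hA⟩ := LinearMap.exists_leftInverse_of_injective ψ (LinearMap.ker_eq_bot.2 hψ)
    obtain ⟨g, C, m₁, hg, hb⟩ := bdd_map A Φ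
    refine ⟨g, C, m₁, hg, fun e he v hv α => ?_⟩
    have h := hb e he (ψ v) hv α
    rwa [show A (ψ v) = v from LinearMap.congr_fun hA v] at h

/-- A linear map on the line, over the parameters. -/
def lineLin (A : (Fin r → FunField k d) →ₗ[FunField k d] (Fin r' → FunField k d)) :
    (Fin r → LineField k d) →ₗ[ParField k d] (Fin r' → LineField k d) where
  toFun := inclLin A
  map_add' := map_add _
  map_smul' := inclLin_smul A

theorem span_map (A : (Fin r → FunField k d) →ₗ[FunField k d] (Fin r' → FunField k d))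
    (hA : Function.Surjective A) (e : ℤ) : (Φ.map A hA).span e = (Φ.span e).map (lineLin A) := by
  rw [span, span, Submodule.map_span]
  congr 1
  rw [show ((Φ.map A hA).Γ e : Set (Fin r' → FunField k d)) = A '' Φ.Γ e from rfl, ← Set.image_comp,
    ← Set.image_comp]
  exact Set.image_congr fun v _ => (inclLin_inclV A v).symm

theorem finrank_span_map (A : (Fin r → FunField k d) →ₗ[FunField k d] (Fin r' → FunField k d))
    (hA : Function.Surjective A) (e : ℤ) :
    finrank (ParField k d) ((Φ.map A hA).span e) +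
      finrank (ParField k d) (Φ.span e ⊓ LinearMap.ker (lineLin A) : Submodule (ParField k d) _) =
    finrank (ParField k d) (Φ.span e) := by
  haveI := Φ.finite_span e
  rw [Φ.span_map A hA]
  have h := LinearMap.finrank_range_add_finrank_ker ((lineLin A).domRestrict (Φ.span e))
  rw [LinearMap.range_domRestrict] at h
  rw [← h]
  congr 1
  have e1 : (LinearMap.ker ((lineLin A).domRestrict (Φ.span e))).map (Φ.span e).subtype =
      Φ.span e ⊓ LinearMap.ker (lineLin A) := by
    rw [LinearMap.ker_domRestrict, Submodule.map_comap_subtype]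
  rw [← e1, Submodule.finrank_map_subtype_eq]

theorem finrank_span_comap_le (ψ : (Fin r' → FunField k d) →ₗ[FunField k d] (Fin r → FunField k d))
    (hψ : Function.Injective ψ) (hspan) (A : (Fin r → FunField k d) →ₗ[FunField k d] (Fin r'' → FunField k d))
    (hAψ : A ∘ₗ ψ = 0) (e : ℤ) :
    finrank (ParField k d) ((Φ.comap ψ hψ hspan).span e) ≤
      finrank (ParField k d) (Φ.span e ⊓ LinearMap.ker (lineLin A) : Submodule (ParField k d) _) := by
  haveI := Φ.finite_span e
  haveI : Module.Finite (ParField k d) (Φ.span e ⊓ LinearMap.ker (lineLin A) : Submodule (ParField k d) _) :=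
    Submodule.finiteDimensional_of_le inf_le_left
  obtain ⟨B, hB⟩ := LinearMap.exists_leftInverse_of_injective ψ (LinearMap.ker_eq_bot.2 hψ)
  have hinj : Function.Injective (lineLin ψ) := Function.LeftInverse.injective (g := lineLin B) fun x => by
    show inclLin B (inclLin ψ x) = x
    rw [inclLin_inclLin, hB, inclLin_id]
  rw [(Submodule.equivMapOfInjective _ hinj ((Φ.comap ψ hψ hspan).span e)).finrank_eq]
  refine Submodule.finrank_mono ?_
  rw [span, Submodule.map_span, Submodule.span_le]
  rintro _ ⟨_, ⟨v, hv, rfl⟩, rfl⟩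
  refine ⟨?_, ?_⟩
  · show inclLin ψ (inclV v) ∈ Φ.span e
    rw [inclLin_inclV]
    exact Φ.inclV_mem_span hv
  · rw [SetLike.mem_coe, LinearMap.mem_ker]
    show inclLin A (inclLin ψ (inclV v)) = 0
    rw [inclLin_inclLin, hAψ, inclLin_zero]

end Sys

section Free

variable (k d)

/-- The `(n)`-th step of the free system on `N` generators in degree `m₀`. -/
def freeΓ (N : ℕ) (m₀ e : ℤ) : Submodule k (Fin N → FunField k d) where
  carrier := {f | ∀ i, ∃ q : CoordRing k d, (q = 0 ∨ (q.totalDegree : ℤ) ≤ e - m₀) ∧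
    algebraMap (CoordRing k d) (FunField k d) q = f i}
  add_mem' := by
    intro f g hf hg i
    obtain ⟨q, hq, hqe⟩ := hf i
    obtain ⟨q', hq', hqe'⟩ := hg i
    refine ⟨q + q', ?_, by rw [map_add, hqe, hqe', Pi.add_apply]⟩
    rcases hq with rfl | hq
    · simpa using hq'
    rcases hq' with rfl | hq'
    · simpa using Or.inr hq
    exact Or.inr (le_trans (by exact_mod_cast MvPolynomial.totalDegree_add q q') (max_le hq hq'))
  zero_mem' := fun i => ⟨0, Or.inl rfl, map_zero _⟩
  smul_mem' := by
    intro c f hf i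
    obtain ⟨q, hq, hqe⟩ := hf i
    refine ⟨c • q, hq.imp (fun h => by rw [h, smul_zero]) (fun h => le_trans ?_ h), ?_⟩
    · exact_mod_cast MvPolynomial.totalDegree_smul_le c q
    · rw [Algebra.smul_def, map_mul, hqe, Pi.smul_apply, Algebra.smul_def, ← IsScalarTower.algebraMap_apply]

/-- The free system. -/
def freeSys (N : ℕ) (m₀ : ℤ) : Sys k d N where
  Γ := freeΓ k d N m₀
  mono e f hf i := by
    obtain ⟨q, hq, hqe⟩ := hf i
    exact ⟨q, hq.imp id (fun h => by omega), hqe⟩
  mulX j e f hf i := by
    obtain ⟨q, hq, hqe⟩ := hf i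
    refine ⟨MvPolynomial.X j * q, ?_, by rw [map_mul, hqe]; rfl⟩
    rcases hq with rfl | hq
    · exact Or.inl (mul_zero _)
    refine Or.inr ?_
    have h := MvPolynomial.totalDegree_mul (MvPolynomial.X j : CoordRing k d) q
    rw [MvPolynomial.totalDegree_X] at h
    omega
  fin e := by
    classical
    let n := (e - m₀).toNat
    let F : (Fin N → MvPolynomial.restrictTotalDegree (Fin d) k n) →ₗ[k] (Fin N → FunField k d) :=
      LinearMap.pi fun i => ((IsScalarTower.toAlgHom k (CoordRing k d) (FunField k d)).toLinearMap.comp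
        (Submodule.subtype _)).comp (LinearMap.proj i)
    refine Submodule.finiteDimensional_of_le (S₂ := LinearMap.range F) fun f hf => ?_
    choose q hq hqe using hf
    refine ⟨fun i => ⟨q i, (MvPolynomial.mem_restrictTotalDegree _ _ _).2 ?_⟩, funext hqe⟩
    rcases hq i with h | h
    · simp [h]
    · omega
  spans := by
    refine ⟨m₀, eq_top_iff.2 fun v _ => ?_⟩
    rw [pi_eq_sum_univ v]
    refine Submodule.sum_mem _ fun β _ => Submodule.smul_mem _ _ (Submodule.subset_span fun i => ?_)
    by_cases h : β = i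
    · exact ⟨1, Or.inr (by simp), by simp [h]⟩
    · exact ⟨0, Or.inl rfl, by simp [h]⟩
  bdd := ⟨1, -m₀, 0, one_ne_zero, fun e _ v hv α => by
    obtain ⟨q, hq, hqe⟩ := hv α
    exact ⟨q, hq.imp id (fun h => by omega), by rw [map_one, one_mul, hqe]⟩⟩

variable {k d}

theorem finrank_freeΓ_ge (N : ℕ) (m₀ : ℤ) (n : ℕ) :
    N * (n + d).choose d ≤ finrank k (freeΓ k d N m₀ (m₀ + n)) := by
  classical
  haveI : Module.Finite k (freeΓ k d N m₀ (m₀ + n)) := (freeSys k d N m₀).fin (m₀ + n)
  let ex : Sym (Option (Fin d)) n → (Fin d →₀ ℕ) := fun s =>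
    Finsupp.equivFunOnFinite.symm fun i => Multiset.count (some i) (s : Multiset (Option (Fin d)))
  have hexi : Function.Injective ex := by
    intro s t h
    have hsome : ∀ i, Multiset.count (some i) (s : Multiset (Option (Fin d))) =
        Multiset.count (some i) (t : Multiset (Option (Fin d))) := fun i => by
      simpa [ex] using DFunLike.congr_fun h i
    refine Sym.coe_injective (Multiset.ext.2 fun o => ?_)
    cases o with
    | some i => exact hsome i
    | none =>
      have h1 := Multiset.sum_count_eq_card (s := Finset.univ) (m := (s : Multiset (Option (Fin d))))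
        fun _ _ => Finset.mem_univ _
      have h2 := Multiset.sum_count_eq_card (s := Finset.univ) (m := (t : Multiset (Option (Fin d))))
        fun _ _ => Finset.mem_univ _
      rw [Fintype.sum_option] at h1 h2
      simp only [hsome, Sym.card_coe] at h1 h2
      omega
  have hexd : ∀ s, (ex s).sum (fun _ e => e) ≤ n := fun s => by
    rw [Finsupp.sum_fintype _ _ fun _ => rfl]
    have h1 := Multiset.sum_count_eq_card (s := Finset.univ) (m := (s : Multiset (Option (Fin d))))
      fun _ _ => Finset.mem_univ _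
    rw [Fintype.sum_option, Sym.card_coe] at h1
    simp only [ex, Finsupp.equivFunOnFinite_symm_apply_apply]
    omega
  let v : Fin N × Sym (Option (Fin d)) n → freeΓ k d N m₀ (m₀ + n) := fun p =>
    ⟨Pi.single p.1 (algebraMap (CoordRing k d) (FunField k d) (MvPolynomial.monomial (ex p.2) 1)), fun i => by
      by_cases h : i = p.1
      · subst h
        refine ⟨MvPolynomial.monomial (ex p.2) 1, Or.inr ?_, by simp⟩
        rw [MvPolynomial.totalDegree_monomial _ one_ne_zero, add_sub_cancel_left]
        exact_mod_cast hexd p.2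
      · exact ⟨0, Or.inl rfl, by simp [h]⟩⟩
  have hli : LinearIndependent k v := by
    refine Fintype.linearIndependent_iff.2 fun c hc p => ?_
    have h1 := congr_fun (congrArg Subtype.val hc) p.1
    simp only [Submodule.coe_sum, Submodule.coe_smul, Finset.sum_apply, Pi.smul_apply, v, ZeroMemClass.coe_zero,
      Pi.zero_apply] at h1
    have h2 : ∑ s, c (p.1, s) • MvPolynomial.monomial (ex s) (1 : k) = 0 := by
      refine IsFractionRing.injective (CoordRing k d) (FunField k d) ?_
      rw [map_sum, map_zero, ← h1, Fintype.sum_prod_type, Finset.sum_eq_single p.1]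
      · refine Finset.sum_congr rfl fun s _ => ?_
        rw [Algebra.smul_def, map_mul, Pi.single_eq_same, Algebra.smul_def, ← IsScalarTower.algebraMap_apply]
      · exact fun β _ hβ => Finset.sum_eq_zero fun s _ => by simp [hβ.symm]
      · exact fun h => absurd (Finset.mem_univ _) h
    have h3 := congrArg (MvPolynomial.coeff (ex p.2)) h2
    rw [MvPolynomial.coeff_sum, MvPolynomial.coeff_zero, Finset.sum_eq_single p.2] at h3
    · simpa using h3
    · exact fun s _ hs => by simp [MvPolynomial.coeff_monomial, hexi.ne hs]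
    · exact fun h => absurd (Finset.mem_univ _) h
  refine le_trans (le_of_eq ?_) hli.fintype_card_le_finrank
  rw [Fintype.card_prod, Fintype.card_fin, Sym.card_sym_eq_choose, Fintype.card_option, Fintype.card_fin,
    show d + 1 + n - 1 = n + d by omega, Nat.choose_symm_add]

theorem finrank_span_free_le (N : ℕ) (m₀ : ℤ) (n : ℕ) :
    finrank (ParField k d) ((freeSys k d N m₀).span (m₀ + n)) ≤ N * (n + 1) := by
  classical
  let F : (Fin N → Polynomial.degreeLT (ParField k d) (n + 1)) →ₗ[ParField k d] (Fin N → LineField k d) :=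
    LinearMap.pi fun i => (((IsScalarTower.toAlgHom (ParField k d) (Polynomial (ParField k d))
      (LineField k d)).toLinearMap).comp (Submodule.subtype _)).comp (LinearMap.proj i)
  refine le_trans (Submodule.finrank_mono (t := LinearMap.range F) ?_) ?_
  · rw [Sys.span, Submodule.span_le]
    rintro _ ⟨f, hf, rfl⟩
    choose q hq hqe using hf
    refine ⟨fun i => ⟨lineMap k d (q i), Polynomial.mem_degreeLT.2 ?_⟩, funext fun i => ?_⟩
    · rcases hq i with h | h
      · rw [h, map_zero, degree_zero]; exact WithBot.bot_lt_coe _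
      · refine lt_of_le_of_lt degree_le_natDegree (Nat.cast_lt.2 ?_)
        have h1 := Sys.natDegree_lineMap_le (q i)
        omega
    · show algebraMap (Polynomial (ParField k d)) (LineField k d) _ = incl k d (f i)
      rw [← hqe i, incl_algebraMap]
      rfl
  · refine (LinearMap.finrank_range_le F).trans (le_of_eq ?_)
    rw [finrank_pi_fintype, (Polynomial.degreeLTEquiv (ParField k d) (n + 1)).finrank_eq]
    simp

end Free

namespace Sys

variable [NeZero d] (Φ : Sys k d r)

/-- The combinations of the generators lie in the system. -/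
theorem sum_smul_mem {N : ℕ} {m₀ : ℤ} (v : Fin N → Fin r → FunField k d) (hv : ∀ i, v i ∈ Φ.Γ m₀) (n : ℕ)
    {f : Fin N → FunField k d} (hf : f ∈ freeΓ k d N m₀ (m₀ + n)) : ∑ i, f i • v i ∈ Φ.Γ (m₀ + n) := by
  classical
  refine Submodule.sum_mem _ fun i _ => ?_
  obtain ⟨q, hq, hqe⟩ := hf i
  rw [← hqe]
  have key : ∀ (s : Multiset (Fin d)) (e : ℤ), ∀ w ∈ Φ.Γ e,
      algebraMap (CoordRing k d) (FunField k d) (s.map MvPolynomial.X).prod • w ∈ Φ.Γ (e + Multiset.card s) := by
    intro s
    induction s using Multiset.induction_on with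
    | empty => intro e w hw; simpa using hw
    | cons a s ih =>
      intro e w hw
      rw [Multiset.map_cons, Multiset.prod_cons, map_mul, mul_smul, Multiset.card_cons]
      push_cast
      rw [← add_assoc]
      exact Φ.mulX a _ _ (ih e w hw)
  rw [MvPolynomial.as_sum q, map_sum, Finset.sum_smul]
  refine Submodule.sum_mem _ fun m hm => ?_
  have hdeg : m.sum (fun _ e => e) ≤ n := by
    refine (MvPolynomial.le_totalDegree hm).trans ?_
    rcases hq with h | h
    · simp [h]
    · omega
  rw [MvPolynomial.monomial_eq, map_mul, mul_smul, show (m.prod fun l e => (MvPolynomial.X l : CoordRing k d) ^ e) =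
      ((Finsupp.toMultiset m).map MvPolynomial.X).prod by
        rw [Finset.prod_multiset_map_count, Finsupp.toFinset_toMultiset]
        simp [Finsupp.prod],
    show algebraMap (CoordRing k d) (FunField k d) (MvPolynomial.C (MvPolynomial.coeff m q)) =
      algebraMap k (FunField k d) (MvPolynomial.coeff m q) from
        (IsScalarTower.algebraMap_apply k (CoordRing k d) (FunField k d) _).symm, algebraMap_smul]
  refine Submodule.smul_mem _ _ (Φ.le_of_le ?_ (key _ m₀ _ (hv i)))
  rw [Finsupp.card_toMultiset]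
  have h' : (m.sum fun _ => id) ≤ n := hdeg
  omega

/-- The top coefficients of the Hilbert polynomial of a generated system. -/
theorem alpha_eq {m₀ : ℤ} (hgen : IsGen k d r Φ.Γ m₀)
    (hspan : Submodule.span (FunField k d) (Φ.Γ m₀ : Set (Fin r → FunField k d)) = ⊤)
    {P : ℚ[X]} (hPd : P.natDegree ≤ d) {N₀ : ℕ}
    (hP : ∀ m : ℕ, N₀ ≤ m → (finrank k (Φ.Γ m) : ℚ) = P.eval (m : ℚ)) :
    alpha d P = r ∧ alpha (d - 1) P = ∑ α, Φ.slope α := by
  classical
  have hd1 : 1 ≤ d := Nat.one_le_iff_ne_zero.2 (NeZero.ne d)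
  obtain ⟨hle, hle'⟩ := Φ.alpha_le hPd (fun m hm => le_of_eq (hP m hm).symm)
  haveI := Φ.fin m₀
  let bas := Module.finBasis k (Φ.Γ m₀)
  let N := finrank k (Φ.Γ m₀)
  let v : Fin N → Fin r → FunField k d := fun i => (bas i : Fin r → FunField k d)
  let π : (Fin N → FunField k d) →ₗ[FunField k d] (Fin r → FunField k d) :=
    Fintype.linearCombination (FunField k d) v
  have hπs : Function.Surjective π := by
    rw [← LinearMap.range_eq_top, Fintype.range_linearCombination, eq_top_iff, ← hspan, Submodule.span_le]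
    intro w hw
    have h1 : (⟨w, hw⟩ : Φ.Γ m₀) ∈ Submodule.span k (Set.range bas) := by
      rw [bas.span_eq]; exact Submodule.mem_top
    have h2 := Submodule.apply_mem_span_image_of_mem_span (Φ.Γ m₀).subtype h1
    rw [← Set.range_comp] at h2
    exact Submodule.span_le_restrictScalars k (FunField k d) _ h2
  have hfree : ∀ n : ℕ, (freeΓ k d N m₀ (m₀ + n)).map (π.restrictScalars k) = Φ.Γ (m₀ + n) := by
    intro n
    refine le_antisymm ?_ ?_
    · rintro _ ⟨f, hf, rfl⟩
      show π f ∈ _
      rw [Fintype.linearCombination_apply]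
      exact Φ.sum_smul_mem v (fun i => (bas i).2) n hf
    induction n with
    | zero =>
      intro w hw
      rw [Nat.cast_zero, add_zero] at hw ⊢
      refine ⟨fun i => algebraMap k (FunField k d) (bas.repr ⟨w, hw⟩ i), fun i => ?_, ?_⟩
      · refine ⟨MvPolynomial.C (bas.repr ⟨w, hw⟩ i), Or.inr (by simp), ?_⟩
        exact (IsScalarTower.algebraMap_apply k (CoordRing k d) (FunField k d) _).symm
      · show π _ = w
        rw [Fintype.linearCombination_apply]
        have h := congrArg Subtype.val (bas.sum_repr ⟨w, hw⟩)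
        rw [Submodule.coe_sum] at h
        refine Eq.trans (Finset.sum_congr rfl fun i _ => ?_) h
        rw [algebraMap_smul]
        rfl
    | succ n ih =>
      intro w hw
      push_cast at hw ⊢
      rw [← add_assoc] at hw ⊢
      obtain ⟨a, ha, c, hc, rfl⟩ := hgen (m₀ + n) (by omega) w hw
      refine Submodule.add_mem _ (Submodule.map_mono ((freeSys k d N m₀).mono _) (ih ha))
        (Submodule.sum_mem _ fun i _ => ?_)
      obtain ⟨f, hf, hfc⟩ := ih (hc i)
      exact ⟨tt k d i • f, (freeSys k d N m₀).mulX i _ f hf, by rw [← hfc]; exact map_smul π _ _⟩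
  let W := LinearMap.ker π
  have hrN : finrank (FunField k d) W + r = N := by
    have h := LinearMap.finrank_range_add_finrank_ker π
    rw [LinearMap.range_eq_top.2 hπs, finrank_top, Module.finrank_pi, Module.finrank_pi, Fintype.card_fin,
      Fintype.card_fin] at h
    rw [add_comm]
    exact h
  let bW := Module.finBasis (FunField k d) W
  let ψ : (Fin (finrank (FunField k d) W) → FunField k d) →ₗ[FunField k d] (Fin N → FunField k d) :=
    W.subtype ∘ₗ bW.equivFun.symm.toLinearMap
  have hψ : Function.Injective ψ := W.injective_subtype.comp bW.equivFun.symm.injective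
  have hπψ : π ∘ₗ ψ = 0 := LinearMap.ext fun u => (bW.equivFun.symm u).2
  have hspan' : ∃ e, Submodule.span (FunField k d)
      ((((freeSys k d N m₀).Γ e).comap (ψ.restrictScalars k) : Submodule k (Fin (finrank (FunField k d) W) → FunField k d)) :
        Set (Fin (finrank (FunField k d) W) → FunField k d)) = ⊤ := by
    obtain ⟨g, hg⟩ := IsLocalization.exist_integer_multiples_of_finite (nonZeroDivisors (CoordRing k d))
      (fun p : Fin (finrank (FunField k d) W) × Fin N => ψ (Pi.single p.1 1) p.2)
    choose a ha using hg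
    let D : ℕ := Finset.univ.sup fun p => (a p).totalDegree
    refine ⟨m₀ + D, eq_top_iff.2 fun u _ => ?_⟩
    rw [pi_eq_sum_univ u]
    refine Submodule.sum_mem _ fun β _ => Submodule.smul_mem _ _ ?_
    have h1 : (fun j => if β = j then (1 : FunField k d) else 0) = Pi.single β 1 := by
      ext j; simp [Pi.single_apply, eq_comm]
    have h0 : algebraMap (CoordRing k d) (FunField k d) g ≠ 0 := fun h => nonZeroDivisors.ne_zero g.2
      (IsFractionRing.injective (CoordRing k d) (FunField k d) (h.trans (map_zero _).symm))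
    rw [h1, ← inv_smul_smul₀ h0 (Pi.single β (1 : FunField k d) : Fin (finrank (FunField k d) W) → FunField k d)]
    refine Submodule.smul_mem _ _ (Submodule.subset_span ?_)
    intro i
    refine ⟨a (β, i), Or.inr ?_, ?_⟩
    · rw [add_sub_cancel_left]
      exact_mod_cast Finset.le_sup (f := fun p => (a p).totalDegree) (Finset.mem_univ (β, i))
    · show _ = ψ (_ • _) i
      rw [map_smul, ha, Algebra.smul_def]
      rfl
  let Ψ := (freeSys k d N m₀).comap ψ hψ hspan'
  let r' := finrank (FunField k d) W
  have hker : ∀ n : ℕ, (N * (n + d).choose d : ℕ) ≤ finrank k (Φ.Γ (m₀ + n)) + finrank k (Ψ.Γ (m₀ + n)) := by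
    intro n
    haveI : Module.Finite k (freeΓ k d N m₀ (m₀ + n)) := (freeSys k d N m₀).fin (m₀ + n)
    haveI := Ψ.fin (m₀ + n)
    refine (finrank_freeΓ_ge (k := k) (d := d) N m₀ n).trans ?_
    have h := LinearMap.finrank_range_add_finrank_ker ((π.restrictScalars k).domRestrict (freeΓ k d N m₀ (m₀ + n)))
    rw [LinearMap.range_domRestrict, hfree n] at h
    rw [← h]
    refine add_le_add le_rfl ?_
    have hmem : ∀ x : LinearMap.ker ((π.restrictScalars k).domRestrict (freeΓ k d N m₀ (m₀ + n))),
        ∃ u : Ψ.Γ (m₀ + n), ψ u.1 = x.1.1 := fun x => by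
      let w : W := ⟨x.1.1, LinearMap.mem_ker.2 (LinearMap.mem_ker.1 x.2)⟩
      refine ⟨⟨bW.equivFun w, ?_⟩, ?_⟩
      · show ψ (bW.equivFun w) ∈ freeΓ k d N m₀ (m₀ + n)
        simp only [ψ, LinearMap.comp_apply, LinearEquiv.coe_toLinearMap, LinearEquiv.symm_apply_apply]
        exact x.1.2
      · simp [ψ, w]
    choose u hu using hmem
    let G : LinearMap.ker ((π.restrictScalars k).domRestrict (freeΓ k d N m₀ (m₀ + n))) →ₗ[k] Ψ.Γ (m₀ + n) :=
      { toFun := u
        map_add' := fun x y => Subtype.ext (hψ (by rw [hu]; simp [hu]))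
        map_smul' := fun c x => Subtype.ext (hψ (by
          rw [hu, RingHom.id_apply]
          refine Eq.trans ?_ (LinearMap.map_smul (ψ.restrictScalars k) c (u x).1).symm
          rw [LinearMap.restrictScalars_apply, hu]
          rfl)) }
    refine LinearMap.finrank_le_finrank_of_injective (f := G) fun x y hxy => Subtype.ext (Subtype.ext ?_)
    rw [← hu x, ← hu y, show u x = u y from hxy]
  let Q : ℚ[X] := C (N : ℚ) * binPoly d (-(m₀ : ℚ)) - P
  have hQd : Q.natDegree ≤ d :=
    (natDegree_sub_le _ _).trans (max_le ((natDegree_C_mul_le _ _).trans (natDegree_binPoly_le _ _)) hPd)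
  have hQ : ∀ m : ℕ, max N₀ m₀.toNat ≤ m → Q.eval (m : ℚ) ≤ finrank k (Ψ.Γ m) := by
    intro m hm
    obtain ⟨n, hn⟩ : ∃ n : ℕ, (m : ℤ) = m₀ + n := ⟨((m : ℤ) - m₀).toNat, by omega⟩
    have h1 := hker n
    rw [← hn] at h1
    have h2 := hP m (le_of_max_le_left hm)
    rw [eval_sub, eval_mul, eval_C, ← h2, ← Int.cast_natCast (R := ℚ) m,
      eval_binPoly d (m : ℤ) m₀ (by omega), bn, if_neg (by omega),
      show ((m : ℤ) - m₀).toNat = n by omega, sub_le_iff_le_add']
    exact_mod_cast h1
  obtain ⟨hQ1, hQ2⟩ := Ψ.alpha_le hQd hQ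
  have hQα : alpha d Q = N - alpha d P := by
    have h := alpha_binPoly d (-(m₀ : ℚ))
    rw [alpha] at h
    rw [alpha, coeff_sub, coeff_C_mul, mul_sub, ← mul_left_comm, h, mul_one]
    rfl
  have hQη : alpha (d - 1) Q = N * (-(m₀ : ℚ) + ((d : ℚ) + 1) / 2) - alpha (d - 1) P := by
    rw [← alpha_pred_binPoly hd1, alpha_sub]
    simp only [alpha, coeff_C_mul]
    ring
  have hrQ : (r' : ℚ) + r = N := by exact_mod_cast hrN
  have hPr : alpha d P = r := le_antisymm hle (by rw [hQα] at hQ1; linarith)
  refine ⟨hPr, le_antisymm (hle' hPr) ?_⟩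
  have h2 := hQ2 (by rw [hQα, hPr]; linarith)
  obtain ⟨M₁, hM₁⟩ := Φ.exists_finrank_span_eq
  obtain ⟨M₂, hM₂⟩ := Ψ.exists_finrank_span_eq
  obtain ⟨n, hn1, hn2⟩ : ∃ n : ℕ, M₁ ≤ m₀ + n ∧ M₂ ≤ m₀ + n :=
    ⟨(max M₁ M₂ - m₀).toNat, by omega, by omega⟩
  have hspanle : finrank (ParField k d) (Φ.span (m₀ + n)) + finrank (ParField k d) (Ψ.span (m₀ + n)) ≤
      N * (n + 1) := by
    refine le_trans ?_ (finrank_span_free_le (k := k) (d := d) N m₀ n)
    rw [← (freeSys k d N m₀).finrank_span_map π hπs (m₀ + n)]
    refine add_le_add (le_of_eq ?_) ((freeSys k d N m₀).finrank_span_comap_le ψ hψ hspan' π hπψ _)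
    have h : ((freeSys k d N m₀).map π hπs).span (m₀ + n) = Φ.span (m₀ + n) := by
      rw [span, span]
      exact congrArg (fun T : Submodule k (Fin r → FunField k d) => Submodule.span (ParField k d) (inclV '' (T : Set (Fin r → FunField k d))))
        (hfree n)
    rw [h]
  have hZ : (∑ α, (((m₀ + n : ℤ) : ℚ) - Φ.deg α + 1)) + (∑ β, (((m₀ + n : ℤ) : ℚ) - Ψ.deg β + 1)) ≤
      (N : ℚ) * ((n : ℚ) + 1) := by
    have h : (finrank (ParField k d) (Φ.span (m₀ + n)) : ℤ) + (finrank (ParField k d) (Ψ.span (m₀ + n)) : ℤ) ≤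
        ((N * (n + 1) : ℕ) : ℤ) := by exact_mod_cast hspanle
    rw [hM₁ _ hn1, hM₂ _ hn2] at h
    have h' := (Int.cast_le (R := ℚ)).2 h
    push_cast at h' ⊢
    exact h'
  simp only [slope, Finset.sum_add_distrib, Finset.sum_sub_distrib, Finset.sum_neg_distrib, Finset.sum_const,
    Finset.card_univ, Fintype.card_fin, nsmul_eq_mul] at hZ h2 ⊢
  rw [hQη] at h2
  push_cast at hZ
  rw [← hrQ] at hZ h2
  change _ ≤ _ at h2
  nlinarith [hrQ]

end Sys

end Groth.Agent.SimpsonEst

end
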