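import Groth.Agent.SimpsonEst.Count
import Groth.Agent.HilbPoly.Stab
import Groth.Prelude.Def_StabCat
import Mathlib.Data.Nat.Choose.Sum
import Mathlib.RingTheory.MvPolynomial.Basic

/-!
# The degrees of a system on the generic line
-/

set_option autoImplicit false
set_option maxHeartbeats 1000000
set_option synthInstance.maxHeartbeats 100000

universe u

noncomputable section

namespace Groth.Agent.SimpsonEst

open Polynomial Module StabCat

variable {k : Type u} [Field k] {d r : ℕ}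

/-- `x ↦ (x + d).choose d`, extended by zero to negative arguments. -/
def bn (d : ℕ) (x : ℤ) : ℕ := if x < 0 then 0 else (x.toNat + d).choose d

theorem sum_choose_eq (d n : ℕ) (hd : 1 ≤ d) :
    ∑ j ∈ Finset.range (n + 1), (d + j - 1).choose j = (n + d).choose d := by
  induction n with
  | zero => simp
  | succ n ih =>
    rw [Finset.sum_range_succ, ih]
    obtain ⟨d, rfl⟩ : ∃ e, d = e + 1 := ⟨d - 1, by omega⟩
    rw [show d + 1 + (n + 1) - 1 = d + (n + 1) by omega, ← Nat.choose_symm_add (a := d) (b := n + 1),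
      show n + 1 + (d + 1) = (n + (d + 1)) + 1 by omega, Nat.choose_succ_succ (n + (d + 1)) d,
      show d + (n + 1) = n + (d + 1) by omega, add_comm ((n + (d + 1)).choose (d + 1))]

theorem sum_choose_ite (d : ℕ) (hd : 1 ≤ d) (x : ℤ) {N : ℕ} (hN : x < N) :
    ∑ j ∈ Finset.range N, (if (j : ℤ) ≤ x then (d + j - 1).choose j else 0) = bn d x := by
  rw [← Finset.sum_filter]
  unfold bn
  split_ifs with hx
  · rw [show (Finset.range N).filter (fun j : ℕ => (j : ℤ) ≤ x) = ∅ from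
      Finset.filter_eq_empty_iff.2 fun j _ h => by omega, Finset.sum_empty]
  · rw [show (Finset.range N).filter (fun j : ℕ => (j : ℤ) ≤ x) = Finset.range (x.toNat + 1) by
      ext j; simp only [Finset.mem_filter, Finset.mem_range]; omega, sum_choose_eq d _ hd]

/-- The polynomial `x ↦ (x + c + d).choose d`. -/
def binPoly (d : ℕ) (c : ℚ) : ℚ[X] :=
  C ((d.factorial : ℚ)⁻¹) * ∏ i ∈ Finset.range d, (X + C (c + i + 1))

theorem natDegree_binPoly_le (d : ℕ) (c : ℚ) : (binPoly d c).natDegree ≤ d := by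
  refine (natDegree_C_mul_le _ _).trans ((natDegree_prod_le _ _).trans ?_)
  exact (Finset.sum_le_sum fun i _ => le_of_eq (natDegree_X_add_C _)).trans (by simp)

theorem monic_binProd (d : ℕ) (c : ℚ) : (∏ i ∈ Finset.range d, (X + C (c + i + 1))).Monic :=
  monic_prod_of_monic _ _ fun i _ => monic_X_add_C _

theorem natDegree_binProd (d : ℕ) (c : ℚ) : (∏ i ∈ Finset.range d, (X + C (c + i + 1))).natDegree = d := by
  rw [natDegree_prod_of_monic _ _ fun i _ => monic_X_add_C _]
  exact (Finset.sum_congr rfl fun i _ => natDegree_X_add_C _).trans (by simp)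

theorem alpha_binPoly (d : ℕ) (c : ℚ) : alpha d (binPoly d c) = 1 := by
  rw [alpha, binPoly, coeff_C_mul]
  conv_lhs => arg 2; arg 2; arg 2; rw [← natDegree_binProd d c]
  rw [(monic_binProd d c).coeff_natDegree, mul_one, mul_inv_cancel₀ (Nat.cast_ne_zero.2 (Nat.factorial_ne_zero d))]

theorem alpha_pred_binPoly {d : ℕ} (hd : 1 ≤ d) (c : ℚ) :
    alpha (d - 1) (binPoly d c) = c + ((d : ℚ) + 1) / 2 := by
  have h1 : (∏ i ∈ Finset.range d, (X + C (c + i + 1))).coeff (d - 1) = ∑ i ∈ Finset.range d, (c + i + 1) := by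
    have h := Monic.nextCoeff_prod (Finset.range d) (fun i : ℕ => (X + C (c + i + 1) : ℚ[X]))
      fun i _ => monic_X_add_C _
    rw [nextCoeff_of_natDegree_pos (by rw [natDegree_binProd]; omega), natDegree_binProd] at h
    rw [h]
    exact Finset.sum_congr rfl fun i _ => nextCoeff_X_add_C _
  have h2 : (∑ i ∈ Finset.range d, (c + i + 1)) = d * c + (d : ℚ) * ((d : ℚ) + 1) / 2 := by
    clear h1 hd
    induction d with
    | zero => simp
    | succ d ih => rw [Finset.sum_range_succ, ih]; push_cast; ring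
  rw [alpha, binPoly, coeff_C_mul, h1, h2]
  obtain ⟨e, rfl⟩ : ∃ e, d = e + 1 := ⟨d - 1, by omega⟩
  rw [Nat.add_sub_cancel, Nat.factorial_succ]
  push_cast
  field_simp [Nat.factorial_ne_zero e]

theorem eval_binPoly (d : ℕ) (x : ℤ) (e : ℤ) (h : e ≤ x) :
    (binPoly d (-(e : ℚ))).eval (x : ℚ) = (bn d (x - e) : ℚ) := by
  obtain ⟨n, rfl⟩ : ∃ n : ℕ, x = e + n := ⟨(x - e).toNat, by omega⟩
  rw [bn, if_neg (by omega), show (e + (n : ℤ) - e).toNat = n by omega, binPoly, eval_mul, eval_C, eval_prod]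
  rw [Nat.cast_choose ℚ (Nat.le_add_left d n), Nat.add_sub_cancel]
  have h1 : ∏ i ∈ Finset.range d, (X + C (-(e : ℚ) + i + 1)).eval ((e + n : ℤ) : ℚ) =
      ((n + d).factorial : ℚ) / n.factorial := by
    rw [eq_div_iff (Nat.cast_ne_zero.2 (Nat.factorial_ne_zero n))]
    clear h
    induction d with
    | zero => simp
    | succ d ih =>
      rw [Finset.prod_range_succ, mul_right_comm, ih, ← add_assoc n d 1, Nat.factorial_succ]
      simp only [eval_add, eval_X, eval_C]
      push_cast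
      ring
  rw [h1]
  field_simp [Nat.factorial_ne_zero d, Nat.factorial_ne_zero n]

theorem alpha_sum {ι : Type*} (j : ℕ) (s : Finset ι) (f : ι → ℚ[X]) :
    alpha j (∑ i ∈ s, f i) = ∑ i ∈ s, alpha j (f i) := by
  simp only [alpha, finset_sum_coeff, Finset.mul_sum]

theorem alpha_sub (j : ℕ) (P Q : ℚ[X]) : alpha j (P - Q) = alpha j P - alpha j Q := by
  simp only [alpha, coeff_sub, mul_sub]

/-- Comparison of the two top coefficients of eventually comparable polynomials. -/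
theorem alpha_compare {P Q : ℚ[X]} (hP : P.natDegree ≤ d) (hQ : Q.natDegree ≤ d) {N₀ : ℕ}
    (h : ∀ m : ℕ, N₀ ≤ m → P.eval (m : ℚ) ≤ Q.eval (m : ℚ)) :
    alpha d P ≤ alpha d Q ∧ (alpha d P = alpha d Q → alpha (d - 1) P ≤ alpha (d - 1) Q) := by
  have hdeg : (P - Q).natDegree ≤ d := (natDegree_sub_le _ _).trans (max_le hP hQ)
  have hf : ∀ j : ℕ, (0 : ℚ) < (j.factorial : ℚ) := fun j => Nat.cast_pos.2 (Nat.factorial_pos j)
  have key : ∀ j, (P - Q).natDegree ≤ j → ¬ 0 < (P - Q).coeff j := fun j hj hc => by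
    obtain ⟨N, hN⟩ := HilbPoly.eventually_pos hj hc
    have h1 := hN (max N N₀) (le_max_left _ _)
    rw [eval_sub] at h1
    linarith [h (max N N₀) (le_max_right _ _)]
  refine ⟨?_, fun he => ?_⟩
  · by_contra hc
    refine key d hdeg ?_
    rw [coeff_sub, sub_pos]
    exact lt_of_mul_lt_mul_left (not_le.1 hc) (hf d).le
  · by_contra hc
    have h0 : (P - Q).coeff d = 0 := by
      rw [coeff_sub, sub_eq_zero]
      exact mul_left_cancel₀ (hf d).ne' he
    refine key (d - 1) ?_ ?_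
    · refine natDegree_le_iff_coeff_eq_zero.2 fun j hj => ?_
      rcases (show d ≤ j by omega).lt_or_eq with h' | h'
      · exact coeff_eq_zero_of_natDegree_lt (by omega)
      · rw [← h', h0]
    · rw [coeff_sub, sub_pos]
      exact lt_of_mul_lt_mul_left (not_le.1 hc) (hf (d - 1)).le

namespace Sys

variable [NeZero d] (Φ : Sys k d r)

theorem exists_degree (α : Fin r) : ∃ e : ℤ, (α : ℕ) < Φ.rk e ∧ ∀ e', e' < e → Φ.rk e' ≤ α := by
  obtain ⟨e₀, h₀⟩ := Φ.exists_rk_eq_zero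
  obtain ⟨e₁, h₁⟩ := Φ.exists_rk_eq
  obtain ⟨e, he, hmin⟩ := Int.exists_least_of_bdd (P := fun e => (α : ℕ) < Φ.rk e)
    ⟨e₀, fun z hz => not_lt.1 fun h => by rw [h₀ z h] at hz; omega⟩ ⟨e₁, by rw [h₁ e₁ le_rfl]; exact α.2⟩
  exact ⟨e, he, fun e' he' => not_lt.1 fun h => absurd (hmin e' h) (not_le.2 he')⟩

/-- The splitting degrees of the system on the generic line. -/
def deg (α : Fin r) : ℤ := (Φ.exists_degree α).choose

theorem deg_le_iff (α : Fin r) (e : ℤ) : Φ.deg α ≤ e ↔ (α : ℕ) < Φ.rk e := by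
  obtain ⟨h1, h2⟩ := (Φ.exists_degree α).choose_spec
  refine ⟨fun h => lt_of_lt_of_le h1 (Φ.rk_mono h), fun h => not_lt.1 fun hlt => ?_⟩
  exact absurd h (not_lt.2 (h2 e hlt))

theorem rk_eq_card (e : ℤ) : Φ.rk e = (Finset.univ.filter fun α => Φ.deg α ≤ e).card := by
  rw [show (Finset.univ.filter fun α : Fin r => Φ.deg α ≤ e) =
      Finset.univ.filter fun α : Fin r => (α : ℕ) < Φ.rk e by
    ext α; simp [Φ.deg_le_iff]]
  rw [Fin.card_filter_val_lt, min_eq_right (Φ.rk_le e)]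

theorem deg_mono {α β : Fin r} (h : α ≤ β) : Φ.deg α ≤ Φ.deg β :=
  (Φ.deg_le_iff α _).2 (lt_of_le_of_lt (show (α : ℕ) ≤ β from h) ((Φ.deg_le_iff β _).1 le_rfl))

theorem lam_eq_bot_of_lt {e : ℤ} (h : ∀ α, e < Φ.deg α) : Φ.Lam e = ⊥ := by
  have hrk : ∀ e', e' ≤ e → Φ.vals e' = ⊥ := fun e' he' => by
    refine Submodule.finrank_eq_zero.1 ?_
    show Φ.rk e' = 0
    rw [rk_eq_card, Finset.card_eq_zero, Finset.filter_eq_empty_iff]
    intro α _
    have := h α
    omega
  obtain ⟨e₀, h₀⟩ := Φ.exists_low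
  have key : ∀ n : ℕ, ∀ e', e' ≤ e → e' < e₀ + n → Φ.Lam e' = ⊥ := by
    intro n
    induction n with
    | zero => intro e' _ he'; exact h₀ e' (by omega)
    | succ n ih =>
      intro e' hle he'
      refine eq_bot_iff.2 fun u hu => ?_
      have h0 : ev0V u = 0 := by
        have : ev0V u ∈ Φ.vals e' := ⟨u, hu, rfl⟩
        rwa [hrk e' hle, Submodule.mem_bot] at this
      obtain ⟨y, hy, rfl⟩ := exists_eq_X_smul hu.1 h0
      have h1 := Φ.mem_lam_of_X_smul hy hu
      rw [ih (e' - 1) (by omega) (by omega), Submodule.mem_bot] at h1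
      rw [h1, smul_zero]
      exact Submodule.zero_mem _
  exact key (e - e₀ + 1).toNat e le_rfl (by omega)

theorem sum_rk_mul (w : ℕ → ℕ) (M : ℤ) (N : ℕ) :
    ∑ j ∈ Finset.range N, Φ.rk (M - j) * w j =
      ∑ α : Fin r, ∑ j ∈ Finset.range N, if (j : ℤ) ≤ M - Φ.deg α then w j else 0 := by
  rw [Finset.sum_comm]
  refine Finset.sum_congr rfl fun j _ => ?_
  rw [← Finset.sum_filter, Finset.sum_const, smul_eq_mul, rk_eq_card]
  congr 2
  ext α
  simp only [Finset.mem_filter, Finset.mem_univ, true_and]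
  omega

/-- The jet bound through the splitting degrees. -/
theorem finrank_le_sum_bn (m : ℤ) : finrank k (Φ.Γ m) ≤ ∑ α, bn d (m - Φ.deg α) := by
  obtain ⟨e₀, h₀⟩ := Φ.exists_low
  let A : ℕ := Finset.univ.sup fun α => (m - Φ.deg α + 1).toNat
  let N : ℕ := max A (m - e₀ + 1).toNat
  refine (Φ.jet_bound h₀ m (N := N) (by omega)).trans (le_of_eq ?_)
  rw [sum_rk_mul]
  refine Finset.sum_congr rfl fun α _ => sum_choose_ite d (Nat.one_le_iff_ne_zero.2 (NeZero.ne d)) _ ?_
  have h1 : (m - Φ.deg α + 1).toNat ≤ A :=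
    Finset.le_sup (f := fun α => (m - Φ.deg α + 1).toNat) (Finset.mem_univ α)
  omega

/-- The dimension on the line in high degrees. -/
theorem exists_finrank_span_eq : ∃ M₀ : ℤ, ∀ M, M₀ ≤ M →
    (finrank (ParField k d) (Φ.span M) : ℤ) = ∑ α, (M - Φ.deg α + 1) := by
  obtain ⟨e₀, h₀⟩ := Φ.exists_low
  obtain ⟨M₀, hM₀⟩ := Φ.exists_finrank_span h₀
  let B : ℕ := Finset.univ.sup fun α => (Φ.deg α).natAbs
  refine ⟨max M₀ B, fun M hM => ?_⟩
  let A : ℕ := Finset.univ.sup fun α => (M - Φ.deg α + 1).toNat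
  let N : ℕ := max A (M - e₀ + 1).toNat
  rw [hM₀ M (le_of_max_le_left hM) N (by omega),
    show (∑ j ∈ Finset.range N, Φ.rk (M - j)) = ∑ j ∈ Finset.range N, Φ.rk (M - j) * 1 by simp, sum_rk_mul]
  push_cast
  refine Finset.sum_congr rfl fun α _ => ?_
  have h2 : (Φ.deg α).natAbs ≤ B := Finset.le_sup (f := fun α => (Φ.deg α).natAbs) (Finset.mem_univ α)
  have h1 : (M - Φ.deg α + 1).toNat ≤ A :=
    Finset.le_sup (f := fun α => (M - Φ.deg α + 1).toNat) (Finset.mem_univ α)
  rw [← Finset.sum_filter, Finset.sum_const, nsmul_one,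
    show (Finset.range N).filter (fun j : ℕ => (j : ℤ) ≤ M - Φ.deg α) = Finset.range (M - Φ.deg α + 1).toNat by
      ext j; simp only [Finset.mem_filter, Finset.mem_range]; omega, Finset.card_range]
  omega

/-- The normalised degrees. -/
def slope (α : Fin r) : ℚ := -(Φ.deg α : ℚ) + ((d : ℚ) + 1) / 2

/-- The top coefficients of a polynomial bounded by the dimensions of the sections. -/
theorem alpha_le {P : ℚ[X]} (hP : P.natDegree ≤ d) {N₀ : ℕ}
    (h : ∀ m : ℕ, N₀ ≤ m → P.eval (m : ℚ) ≤ finrank k (Φ.Γ m)) :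
    alpha d P ≤ r ∧ (alpha d P = r → alpha (d - 1) P ≤ ∑ α, Φ.slope α) := by
  let B : ℕ := Finset.univ.sup fun α => (Φ.deg α).natAbs
  have h' : ∀ m : ℕ, max N₀ B ≤ m → P.eval (m : ℚ) ≤ (∑ α, binPoly d (-(Φ.deg α : ℚ))).eval (m : ℚ) := by
    intro m hm
    refine (h m (le_of_max_le_left hm)).trans ?_
    refine le_trans (Nat.cast_le.2 (Φ.finrank_le_sum_bn m)) (le_of_eq ?_)
    rw [eval_finset_sum, Nat.cast_sum]
    refine Finset.sum_congr rfl fun α _ => ?_
    have h2 : (Φ.deg α).natAbs ≤ B := Finset.le_sup (f := fun α => (Φ.deg α).natAbs) (Finset.mem_univ α)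
    have h3 := le_of_max_le_right hm
    rw [← eval_binPoly d (m : ℤ) (Φ.deg α) (by omega), Int.cast_natCast]
  obtain ⟨h1, h2⟩ := alpha_compare hP (natDegree_sum_le_of_forall_le _ _ fun α _ => natDegree_binPoly_le _ _) h'
  rw [alpha_sum] at h1 h2
  simp only [alpha_binPoly, Finset.sum_const, Finset.card_univ, Fintype.card_fin, nsmul_one] at h1 h2
  refine ⟨h1, fun he => (h2 he).trans (le_of_eq ?_)⟩
  rw [alpha_sum]
  exact Finset.sum_congr rfl fun α _ => alpha_pred_binPoly (Nat.one_le_iff_ne_zero.2 (NeZero.ne d)) _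

end Sys

end Groth.Agent.SimpsonEst

end
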