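import Groth.Agent.SimpsonEst.Restrict
import Groth.Agent.Snapper.DimVanish
import Groth.Agent.Bdd.Quotients

/-!
# Uniform regularity
-/

set_option autoImplicit false
set_option linter.style.haveILetI false
set_option linter.unusedSectionVars false
set_option backward.isDefEq.respectTransparency false
set_option backward.isDefEq.respectTransparency.types false
set_option maxHeartbeats 1000000

universe u

open CategoryTheory CategoryTheory.Limits AlgebraicGeometry TopologicalSpace Opposite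

noncomputable section

namespace Groth.Agent.SimpsonEst

open Groth.Agent Groth.Agent.RegEpi Groth.Agent.HilbBound Groth.Agent.PnCoh.Finite

theorem bn_mono (d : ℕ) {x y : ℤ} (h : x ≤ y) : bn d x ≤ bn d y := by
  unfold bn
  split_ifs <;> first
    | exact le_rfl
    | exact Nat.zero_le _
    | omega
    | exact Nat.choose_le_choose d (by omega)

variable {k : Type u} [Field k] {n d : ℕ}

local notation "PP" => Proj (CohB1.polyGrading n k)
local notation "MOD" => Scheme.Modules (Proj (CohB1.polyGrading n k))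
local notation "Lin" => (CohB1.polyGrading n k) 1

attribute [local instance 10000] HilbBound.projOver

/-- A sheaf with finite support has no higher cohomology. -/
theorem reg_of_dimLT_one {M : MOD} (hM : Coh.IsCoh M) (hd : HilbPoly.DimLT M 1) (R : ℤ) : Bdd.Reg M R := by
  intro q hq
  haveI : IsNoetherian PP := Proj16.isNoetherian_proj _
  have hc := isCoh_tw hM (R - q)
  exact Snapper.subsingleton_HH_of_dim_lt 1 ⟨CohB1.support ((twF (k := k) (n := n) (R - q)).obj M),
    QCoh.isClosed_support_of_isFT hc.1 hc.2⟩ (dimLT_twF hd _) _ hc.1 subset_rfl q hq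

/-- A hyperplane section of a curve-like sheaf has finite support. -/
theorem exists_hyper [Infinite k] {M : MOD} (hM : Coh.IsCoh M) (hd : HilbPoly.DimLT M 2) :
    ∃ μ : (twF (k := k) (n := n) (-1)).obj M ⟶ M, Mono μ ∧ Coh.IsCoh (cokernel μ) ∧
      HilbPoly.DimLT (cokernel μ) 1 := by
  haveI : IsNoetherian PP := Proj16.isNoetherian_proj _
  let M₀ : MOD := (twF (k := k) (n := n) (-1)).obj M
  have hM₀ : Coh.IsCoh M₀ := isCoh_tw hM (-1)
  obtain ⟨cM⟩ := twF_cancel (k := k) (n := n) M (a := -1) (b := 1) (by ring)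
  obtain ⟨s, hs⟩ := exists_sec_avoiding (k := k) (n := n) {x : PP | Curv2.IsWeakAssPoint M₀ x} (finite_weakAss hM₀)
  haveI : Mono (mu s M₀) := mono_mu s hM₀ hs
  have hd1 := dimLT_twF (HilbBound.dimLT_quotient hM₀ s hs (dimLT_twF hd (-1))) 1
  obtain ⟨e⟩ := twF_cancel (k := k) (n := n) (cokernel (mu s M₀)) (a := -1) (b := 1) (by ring)
  let μ : M₀ ⟶ M := mu s M₀ ≫ cM.hom
  have hQ : Coh.IsCoh (cokernel μ) := QCoh.isCoh_cokernel hM₀.1 hM μ
  let eQ : cokernel μ ≅ cokernel (mu s M₀) := cokernelCompIsIso (mu s M₀) cM.hom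
  exact ⟨μ, mono_comp _ _, hQ, HilbPoly.dimLT_of_subset (support_of_mono (eQ.hom ≫ e.inv)) hd1⟩

/-- The regularity of a hyperplane section and a bound on the sections bound the regularity. -/
theorem reg_step {M : MOD} (hM : Coh.IsCoh M) {P : Polynomial ℚ}
    (hP : ∀ t : ℤ, (chi (k := k) (n := n) M t : ℚ) = P.eval (t : ℚ))
    (μ : (twF (k := k) (n := n) (-1)).obj M ⟶ M) [Mono μ] {R : ℤ} (hQ : Bdd.Reg (cokernel μ) R) {b : ℕ}
    (hb : h0 M (R - 1) ≤ b) : Bdd.Reg M (R + ⌊(b : ℚ) - P.eval ((R - 1 : ℤ) : ℚ)⌋.toNat) := by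
  haveI : IsNoetherian PP := Proj16.isNoetherian_proj _
  have hF1 := isCoh_tw hM (-1)
  have hG : Coh.IsCoh (cokernel μ) := QCoh.isCoh_cokernel hF1.1 hM μ
  let T : RegDescent.Setup (k := k) (n := n) M (cokernel μ) R :=
    { ι := μ
      π := cokernel.π μ
      w := cokernel.condition μ
      exact := ShortComplex.ShortExact.mk' (ShortComplex.exact_of_g_is_cokernel _ (cokernelIsCokernel μ))
        inferInstance inferInstance
      cohF := hM
      cohG := hG
      reg := fun q hq _ => hQ q hq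
      finH1 := fun i => Bdd.finite_HH hM i 1 }
  have h1b : (RegDescent.h1 (k := k) M (R - 1) : ℤ) ≤ ⌊(b : ℚ) - P.eval ((R - 1 : ℤ) : ℚ)⌋.toNat := by
    haveI := CurveCohLib.isNoetherian_of_proper (k := k) (X := PP)
    have hFj : Curv2.euler k PP ((twF (R - 1)).obj M) = (h0 M (R - 1) : ℤ) -
        RegDescent.h1 (k := k) M (R - 1) := by
      refine (Euler.euler_eq_sum k ((twF (R - 1)).obj M) 2 fun q hq =>
        RegDescent.subsingleton_high T q hq (R - 1) (by omega)).trans ?_
      show _ = (Module.finrank k (Coh.HH PP ((twF (R - 1)).obj M) 0) : ℤ) - _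
      simp [Finset.sum_range_succ, RegDescent.h1]
      ring
    have h2 := hP (R - 1)
    rw [chi_eq, hFj] at h2
    rw [← h2, ← Int.cast_natCast (R := ℚ) b, ← Int.cast_sub, Int.floor_intCast]
    omega
  intro q hq
  rcases Nat.lt_or_ge q 2 with h | h
  · obtain rfl : q = 1 := by omega
    exact RegDescent.subsingleton_one T _ (by rw [Nat.cast_one]; omega)
  · exact RegDescent.subsingleton_high T q h _ (by omega)

/-- Sections are bounded by the rank and the lower bound of the degrees. -/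
theorem Adapted.h0_le [NeZero d] {M : MOD} {l : Lin} {y : Fin d → Lin} {A : ℤ} (had : Adapted M l y A)
    {P : Polynomial ℚ} (hP : ∀ t : ℤ, (chi (k := k) (n := n) M t : ℚ) = P.eval (t : ℚ)) (m : ℕ) :
    h0 M (m : ℤ) ≤ ⌊StabCat.alpha d P⌋.toNat * bn d ((m : ℤ) + A) := by
  obtain ⟨S, -, r, θ, z, hθ, hz, hdeg⟩ := had
  obtain ⟨N₀, hN₀⟩ := S.exists_finrank_eq hP
  rw [(S.filt.alpha_eq hz hθ (GrothLem.natDegree_le_of_dim S.coh S.dim hP).1 hN₀).1, Int.floor_natCast,
    Int.toNat_natCast, ← S.finrank_G m]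
  refine (S.filt.finrank_le hz hθ m).trans ?_
  refine (Finset.sum_le_sum (g := fun _ : Fin r => bn d ((m : ℤ) + A)) fun α _ => bn_mono d ?_).trans ?_
  · have := hdeg α; omega
  · simp

variable (k) in
/-- Pure sheaves with given polynomial and degrees bounded below are uniformly regular. -/
theorem exists_reg [Infinite k] (n : ℕ) : ∀ (e : ℕ) (P : Polynomial ℚ) (A : ℤ), ∃ R : ℤ,
    ∀ (M : Scheme.Modules (Proj (CohB1.polyGrading n k))) (l : (CohB1.polyGrading n k) 1)
      (y : Fin (e + 1) → (CohB1.polyGrading n k) 1), Adapted M l y A →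
      (∀ t : ℤ, (chi (k := k) (n := n) M t : ℚ) = P.eval (t : ℚ)) → Bdd.Reg M R
  | 0, P, A => by
    let b := ⌊StabCat.alpha 1 P⌋.toNat * bn 1 (0 + A)
    refine ⟨1 + ⌊(b : ℚ) - P.eval ((1 - 1 : ℤ) : ℚ)⌋.toNat, fun M l y had hP => ?_⟩
    obtain ⟨μ, hμ, hQ, hQd⟩ := exists_hyper had.setup.coh had.setup.dim
    haveI := hμ
    refine reg_step had.setup.coh hP μ (reg_of_dimLT_one hQ hQd 1) (b := b) ?_
    have := had.h0_le hP 0
    simpa [b] using this
  | e + 1, P, A => by
    obtain ⟨R', hR'⟩ := exists_reg n e (Bdd.diff P) A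
    let R'' := max R' 1
    let b := ⌊StabCat.alpha (e + 1 + 1) P⌋.toNat * bn (e + 1 + 1) ((R'' - 1) + A)
    refine ⟨R'' + ⌊(b : ℚ) - P.eval ((R'' - 1 : ℤ) : ℚ)⌋.toNat, fun M l y had hP => ?_⟩
    obtain ⟨μ, hμ, hQ, hPQ, y', had'⟩ := exists_restrict had hP
    haveI := hμ
    refine reg_step had.setup.coh hP μ ((hR' _ l y' had' hPQ).mono hQ (le_max_left _ _)) (b := b) ?_
    have h := had.h0_le hP (R'' - 1).toNat
    rwa [Int.toNat_of_nonneg (by omega)] at h

end Groth.Agent.SimpsonEst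

end
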