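import Groth.Agent.SimpsonEst.Gap

/-!
# Restriction to a general hyperplane does not lower the degrees on the generic line
-/

set_option autoImplicit false
set_option maxHeartbeats 1000000
set_option synthInstance.maxHeartbeats 100000
set_option linter.style.haveILetI false

universe u

noncomputable section

namespace Groth.Agent.SimpsonEst

open Polynomial Module

variable {k : Type u} [Field k] {d r : ℕ}

/-- Restriction to the hyperplane `t_d = h_d + ∑ h_i t_i`. -/
def rho (h : Fin (d + 1) → k) : CoordRing k (d + 1) →ₐ[k] CoordRing k d :=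
  MvPolynomial.aeval (Fin.snoc (fun i => MvPolynomial.X i)
    (MvPolynomial.C (h (Fin.last d)) + ∑ i, MvPolynomial.C (h i.castSucc) * MvPolynomial.X i))

theorem rho_X_castSucc (h : Fin (d + 1) → k) (i : Fin d) :
    rho h (MvPolynomial.X i.castSucc) = MvPolynomial.X i := by
  simp [rho]

theorem rho_X_last (h : Fin (d + 1) → k) :
    rho h (MvPolynomial.X (Fin.last d)) =
      MvPolynomial.C (h (Fin.last d)) + ∑ i, MvPolynomial.C (h i.castSucc) * MvPolynomial.X i := by
  simp [rho]

/-- Restriction of the parameters to the pointed lines of the hyperplane. -/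
def sigma (h : Fin (d + 1) → k) : ParRing k (d + 1) →ₐ[k] ParRing k d :=
  MvPolynomial.aeval (Sum.elim
    (Fin.snoc (fun i => pp i) (MvPolynomial.C (h (Fin.last d)) + ∑ i, MvPolynomial.C (h i.castSucc) * pp i))
    (Fin.snoc (fun i => ww i) (∑ i, MvPolynomial.C (h i.castSucc) * ww i)))

theorem lineMap₀_rho (h : Fin (d + 1) → k) (f : CoordRing k (d + 1)) :
    lineMap₀ k d (rho h f) = (lineMap₀ k (d + 1) f).map (sigma h).toRingHom := by
  have e : (lineMap₀ k d).comp (rho h) = (Polynomial.mapAlgHom (sigma h)).comp (lineMap₀ k (d + 1)) := by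
    refine MvPolynomial.algHom_ext fun i => ?_
    refine Fin.lastCases ?_ (fun j => ?_) i
    · simp [rho, sigma, lineMap₀, pp, ww, MvPolynomial.algebraMap_eq, Polynomial.algebraMap_apply, mul_add,
        Finset.sum_add_distrib, Finset.sum_mul, mul_assoc, add_assoc]
    · simp [rho, sigma, lineMap₀, pp, ww]
  exact AlgHom.congr_fun e f

theorem sigma_rename (h : Fin (d + 1) → k) (f : CoordRing k (d + 1)) :
    sigma h (MvPolynomial.rename Sum.inl f) = MvPolynomial.rename Sum.inl (rho h f) := by
  have e : (sigma h).comp (MvPolynomial.rename Sum.inl) = (MvPolynomial.rename Sum.inl).comp (rho h) := by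
    refine MvPolynomial.algHom_ext fun i => ?_
    refine Fin.lastCases ?_ (fun j => ?_) i
    · simp [rho, sigma, pp]
    · simp [rho, sigma, pp]
  exact AlgHom.congr_fun e f

/-- A nonzero function of the parameters survives on a general hyperplane. -/
theorem exists_good_par [Infinite k] [NeZero d] {f : ParRing k (d + 1)} (hf : f ≠ 0) :
    ∃ bad : MvPolynomial (Fin (d + 1)) k, bad ≠ 0 ∧
      ∀ h : Fin (d + 1) → k, MvPolynomial.eval h bad ≠ 0 → sigma h f ≠ 0 := by
  classical
  let i₀ : Fin d := ⟨0, Nat.pos_of_ne_zero (NeZero.ne d)⟩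
  obtain ⟨x, hx⟩ : ∃ x : Fin (d + 1) ⊕ Fin (d + 1) → k,
      MvPolynomial.eval x (f * MvPolynomial.X (Sum.inr i₀.castSucc)) ≠ 0 := by
    by_contra! hc
    exact mul_ne_zero hf (MvPolynomial.X_ne_zero _) (MvPolynomial.funext fun x => by rw [hc x, map_zero])
  rw [map_mul, MvPolynomial.eval_X, mul_ne_zero_iff] at hx
  let bad : MvPolynomial (Fin (d + 1)) k := MvPolynomial.aeval (Sum.elim
    (Fin.snoc (fun i : Fin d => MvPolynomial.C (x (Sum.inl i.castSucc)))
      (MvPolynomial.X (Fin.last d) + ∑ i : Fin d, MvPolynomial.X i.castSucc * MvPolynomial.C (x (Sum.inl i.castSucc))))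
    (Fin.snoc (fun i : Fin d => MvPolynomial.C (x (Sum.inr i.castSucc)))
      (∑ i : Fin d, MvPolynomial.X i.castSucc * MvPolynomial.C (x (Sum.inr i.castSucc))))) f
  have key : ∀ h : Fin (d + 1) → k, MvPolynomial.eval h bad =
      MvPolynomial.eval (Sum.elim (fun i => x (Sum.inl i.castSucc)) fun i => x (Sum.inr i.castSucc))
        (sigma h f) := by
    intro h
    have e : ((MvPolynomial.aeval h : _ →ₐ[k] k)).comp (MvPolynomial.aeval (Sum.elim
        (Fin.snoc (fun i : Fin d => MvPolynomial.C (x (Sum.inl i.castSucc)))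
          (MvPolynomial.X (Fin.last d) +
            ∑ i : Fin d, MvPolynomial.X i.castSucc * MvPolynomial.C (x (Sum.inl i.castSucc))))
        (Fin.snoc (fun i : Fin d => MvPolynomial.C (x (Sum.inr i.castSucc)))
          (∑ i : Fin d, MvPolynomial.X i.castSucc * MvPolynomial.C (x (Sum.inr i.castSucc)))))) =
        (MvPolynomial.aeval (Sum.elim (fun i => x (Sum.inl i.castSucc)) fun i => x (Sum.inr i.castSucc)) :
          _ →ₐ[k] k).comp (sigma h) := by
      refine MvPolynomial.algHom_ext fun i => ?_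
      rcases i with i | i <;> refine Fin.lastCases ?_ (fun j => ?_) i <;>
        simp [sigma, pp, ww, mul_comm]
    exact AlgHom.congr_fun e f
  refine ⟨bad, fun h0 => ?_, fun h hh h0 => hh (by rw [key h, h0, map_zero])⟩
  -- a hyperplane through the point containing the direction
  let c : k := x (Sum.inr (Fin.last d)) / x (Sum.inr i₀.castSucc)
  let h : Fin (d + 1) → k := Fin.snoc (fun i => if i = i₀ then c else 0)
    (x (Sum.inl (Fin.last d)) - c * x (Sum.inl i₀.castSucc))
  refine hx.1 ?_
  have h1 := key h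
  rw [h0, map_zero] at h1
  rw [h1]
  have e : (MvPolynomial.aeval x : _ →ₐ[k] k) =
      (MvPolynomial.aeval (Sum.elim (fun i => x (Sum.inl i.castSucc)) fun i => x (Sum.inr i.castSucc)) :
        _ →ₐ[k] k).comp (sigma h) := by
    refine MvPolynomial.algHom_ext fun i => ?_
    rcases i with i | i <;> refine Fin.lastCases ?_ (fun j => ?_) i <;>
      simp [sigma, pp, ww, h, c, ite_mul, hx.2]
  exact AlgHom.congr_fun e f

/-- A nonzero function survives on a general hyperplane. -/
theorem exists_good [Infinite k] [NeZero d] {f : CoordRing k (d + 1)} (hf : f ≠ 0) :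
    ∃ bad : MvPolynomial (Fin (d + 1)) k, bad ≠ 0 ∧
      ∀ h : Fin (d + 1) → k, MvPolynomial.eval h bad ≠ 0 → rho h f ≠ 0 := by
  obtain ⟨bad, hb, hgood⟩ := exists_good_par (f := MvPolynomial.rename Sum.inl f) fun h =>
    hf (MvPolynomial.rename_injective _ Sum.inl_injective (h.trans (map_zero _).symm))
  exact ⟨bad, hb, fun h hh h0 => hgood h hh (by rw [sigma_rename, h0, map_zero])⟩

theorem exists_common_denom (v : Fin r → FunField k d) :
    ∃ (g : CoordRing k d) (q : Fin r → CoordRing k d), g ≠ 0 ∧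
      ∀ α, algebraMap (CoordRing k d) (FunField k d) (q α) = algebraMap _ _ g * v α := by
  obtain ⟨g, hg⟩ := IsLocalization.exist_integer_multiples_of_finite (nonZeroDivisors (CoordRing k d)) v
  choose q hq using hg
  exact ⟨g, q, nonZeroDivisors.ne_zero g.2, fun α => by rw [hq α, Algebra.smul_def]⟩

namespace Sys

/-- The filtration bound for a finite subspace of the sections of the saturation. -/
theorem finrank_le_sum_rk [NeZero d] (Φ : Sys k d r) {M : ℤ} (T : Submodule (ParField k d) (Fin r → LineField k d))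
    [Module.Finite (ParField k d) T] (hT : T ≤ Φ.Lam M) {e₀ : ℤ} (h₀ : ∀ e, e < e₀ → Φ.Lam e = ⊥) {N : ℕ}
    (hN : M - e₀ < N) : finrank (ParField k d) T ≤ ∑ j ∈ Finset.range N, Φ.rk (M - j) := by
  have hlam : ∀ (j : ℕ) (y : Fin r → LineField k d), y ∈ regV k d r →
      ((RatFunc.X : LineField k d) ^ j) • y ∈ Φ.Lam M → y ∈ Φ.Lam (M - j) := by
    rintro j y hy ⟨-, i, hi⟩
    refine ⟨hy, i + j, ?_⟩
    rw [pow_add, mul_smul]
    convert hi using 2
    push_cast
    ring
  have hbot : divBy (ParField k d) T N = ⊥ := eq_bot_iff.2 fun x ⟨hx, y, hy, hxy⟩ => by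
    subst hxy
    have h := hlam N y hy (hT hx)
    rw [h₀ _ (by omega), Submodule.mem_bot] at h
    rw [Submodule.mem_bot, h, smul_zero]
  rw [finrank_eq_sum_grad (ParField k d) T (fun x hx => (hT hx).1) hbot]
  refine Finset.sum_le_sum fun j _ => Submodule.finrank_mono fun a ha => ?_
  obtain ⟨y, hy, hyT, rfl⟩ := (mem_grad _).1 ha
  exact ⟨y, hlam j y hy (hT hyT), rfl⟩

/-- On a general hyperplane the degrees on the generic line stay above a given bound. -/
theorem exists_special [Infinite k] [NeZero d] (Φ : Sys k (d + 1) r) {A : ℤ} (hA : ∀ α, -A ≤ Φ.deg α) (M₁ : ℤ) :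
    ∃ M : ℤ, M₁ ≤ M ∧ ∃ bad : MvPolynomial (Fin (d + 1)) k, bad ≠ 0 ∧ ∀ h, MvPolynomial.eval h bad ≠ 0 →
      ∀ Φ' : Sys k d r, ∑ α, Φ'.deg α = ∑ α, Φ.deg α →
        (∀ v ∈ Φ.Γ M, ∀ (g : CoordRing k (d + 1)) (q : Fin r → CoordRing k (d + 1)), rho h g ≠ 0 →
          (∀ α, algebraMap _ (FunField k (d + 1)) (q α) = algebraMap _ _ g * v α) →
          ∃ w ∈ Φ'.Γ M, ∀ α, algebraMap _ (FunField k d) (rho h (q α)) = algebraMap _ _ (rho h g) * w α) →
        ∀ α, -A ≤ Φ'.deg α := by
  classical
  obtain ⟨M₀, hM₀⟩ := Φ.exists_finrank_span_eq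
  obtain ⟨e₁, he₁⟩ := Φ.spans
  let M : ℤ := max (max M₀ e₁) (max M₁ (max 0 (-A - 1)))
  have hMspan : Submodule.span (FunField k (d + 1)) (Φ.Γ M : Set (Fin r → FunField k (d + 1))) = ⊤ :=
    eq_top_iff.2 (he₁ ▸ Submodule.span_mono (Φ.le_of_le (show e₁ ≤ M by omega)))
  let N : ℕ := (M + A + 1).toNat
  have hN : (N : ℤ) = M + A + 1 := Int.toNat_of_nonneg (by omega)
  -- a basis of the restrictions
  haveI := Φ.finite_span M
  obtain ⟨B, hBsub, hBspan, hBli⟩ :=
    exists_linearIndependent (ParField k (d + 1)) (inclV '' (Φ.Γ M : Set (Fin r → FunField k (d + 1))))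
  haveI hBfin : Fintype B := by
    haveI : Finite B := LinearIndependent.finite (R := ParField k (d + 1))
      (f := fun b : B => (⟨(b : Fin r → LineField k (d + 1)), Submodule.subset_span (hBsub b.2)⟩ : Φ.span M))
      (LinearIndependent.of_comp (Φ.span M).subtype hBli)
    exact Fintype.ofFinite B
  have hD : (Fintype.card B : ℤ) = ∑ α, (M - Φ.deg α + 1) := by
    rw [← hM₀ M (by omega), Sys.span, ← hBspan, finrank_span_set_eq_card hBli, Set.toFinset_card]
  choose v hv hvB using fun b : B => hBsub b.2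
  choose g q hg hq using fun b : B => exists_common_denom (v b)
  let G : CoordRing k (d + 1) := ∏ b, g b
  have hG : G ≠ 0 := Finset.prod_ne_zero_iff.2 fun b _ => hg b
  let Q : B → Fin r → CoordRing k (d + 1) := fun b α => (∏ b' ∈ Finset.univ.erase b, g b') * q b α
  have hQ : ∀ b α, algebraMap _ (FunField k (d + 1)) (Q b α) = algebraMap _ _ G * v b α := fun b α => by
    rw [map_mul, hq, ← mul_assoc, ← map_mul, Finset.prod_erase_mul _ _ (Finset.mem_univ b)]
  let J : B → (Fin r × Fin N → ParField k (d + 1)) := fun b p => (lineMap k (d + 1) (Q b p.1)).coeff p.2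
  have hJ : LinearIndependent (ParField k (d + 1)) J := by
    refine Fintype.linearIndependent_iff.2 fun c hc => ?_
    refine Fintype.linearIndependent_iff.1 hBli c ?_
    have hx : ∑ b, c b • (b : Fin r → LineField k (d + 1)) ∈ Φ.span M :=
      Submodule.sum_mem _ fun b _ => Submodule.smul_mem _ _ (Submodule.subset_span (hBsub b.2))
    have hdvd : ∀ α, X ^ N ∣ ∑ b, C (c b) * lineMap k (d + 1) (Q b α) := fun α => X_pow_dvd_iff.2 fun l hl => by
      have := congrFun hc (α, ⟨l, hl⟩)
      simp only [Finset.sum_apply, Pi.smul_apply, smul_eq_mul, Pi.zero_apply, J] at this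
      simpa [finsetSum_coeff] using this
    choose p hp using hdvd
    let G' := incl k (d + 1) (algebraMap _ _ G)
    have hG' : G' ≠ 0 := fun h => hG (IsFractionRing.injective (CoordRing k (d + 1)) (FunField k (d + 1))
      (((incl k (d + 1)).injective (h.trans (map_zero _).symm)).trans (map_zero _).symm))
    have hfact : ∀ α, (∑ b, c b • (b : Fin r → LineField k (d + 1))) α =
        (RatFunc.X : LineField k (d + 1)) ^ N * (incl k (d + 1) (algebraMap _ _ G)⁻¹ *
          algebraMap (Polynomial (ParField k (d + 1))) (LineField k (d + 1)) (p α)) := fun α => by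
      have h1 := congrArg (algebraMap (Polynomial (ParField k (d + 1))) (LineField k (d + 1))) (hp α)
      simp only [map_sum, map_mul, map_pow, RatFunc.algebraMap_C, RatFunc.algebraMap_X, ← RatFunc.algebraMap_eq_C,
        ← incl_algebraMap, hQ] at h1
      rw [map_inv₀, mul_left_comm, ← h1, Finset.mul_sum, Finset.sum_apply]
      refine Finset.sum_congr rfl fun b _ => ?_
      rw [Pi.smul_apply, Algebra.smul_def, ← hvB b]
      show _ * incl k (d + 1) (v b α) = _
      have h9 : incl k (d + 1) (algebraMap _ (FunField k (d + 1)) G) ≠ 0 := hG'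
      field_simp
    let y : Fin r → LineField k (d + 1) := fun α => incl k (d + 1) (algebraMap _ _ G)⁻¹ *
      algebraMap (Polynomial (ParField k (d + 1))) (LineField k (d + 1)) (p α)
    have hy : y ∈ Φ.Lam (M - N) := ⟨fun α => (reg_incl _).mul (reg_algebraMap _), N, by
      rw [sub_add_cancel]
      exact (funext hfact : _ = ((RatFunc.X : LineField k (d + 1)) ^ N) • y) ▸ hx⟩
    rw [Φ.lam_eq_bot_of_lt (fun α => by have := hA α; omega), Submodule.mem_bot] at hy
    funext α
    rw [hfact α]
    show _ * y α = 0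
    rw [hy, Pi.zero_apply, mul_zero]
  -- a left inverse with polynomial entries
  obtain ⟨ψ, hψ⟩ := (Fintype.linearCombination (ParField k (d + 1)) J).exists_leftInverse_of_injective
    (LinearMap.ker_eq_bot.2 (linearIndependent_iff_injective_fintypeLinearCombination.1 hJ))
  obtain ⟨b₀, hb₀⟩ := IsLocalization.exist_integer_multiples_of_finite (nonZeroDivisors (ParRing k (d + 1)))
    (fun p : B × (Fin r × Fin N) => ψ (Pi.single p.2 1) p.1)
  choose Y hY using hb₀
  have hYJ : ∀ b b' : B, ∑ p : Fin r × Fin N, Y (b', p) * (lineMap₀ k (d + 1) (Q b p.1)).coeff p.2 =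
      if b = b' then (b₀ : ParRing k (d + 1)) else 0 := by
    intro b b'
    refine IsFractionRing.injective (ParRing k (d + 1)) (ParField k (d + 1)) ?_
    simp only [map_sum, map_mul, hY, Algebra.smul_def]
    have h1 : ψ (J b) b' = if b = b' then 1 else 0 := by
      have h2 : Fintype.linearCombination (ParField k (d + 1)) J (Pi.single b 1) = J b := by
        simp [Fintype.linearCombination_apply, Pi.single_apply, ite_smul]
      rw [← h2, ← LinearMap.comp_apply, hψ, LinearMap.id_apply, Pi.single_apply]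
      simp [eq_comm]
    rw [apply_ite (algebraMap (ParRing k (d + 1)) (ParField k (d + 1))), map_zero,
      ← mul_one (algebraMap _ (ParField k (d + 1)) (b₀ : ParRing k (d + 1))), ← mul_ite_zero, ← h1,
      show ψ (J b) = ∑ p, J b p • ψ (Pi.single p 1) by
        conv_lhs => rw [pi_eq_sum_univ' (J b)]
        rw [map_sum]
        simp only [map_smul],
      Finset.sum_apply, Finset.mul_sum]
    refine Finset.sum_congr rfl fun p _ => ?_
    rw [Pi.smul_apply, smul_eq_mul, mul_assoc, mul_one, mul_comm (ψ _ _)]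
    congr 2
    show _ = ((lineMap₀ k (d + 1) (Q b p.1)).map _).coeff p.2
    rw [coeff_map]
  -- generators of the generic fibre
  choose nn cc vv hvv using fun α : Fin r => Submodule.mem_span_set'.1
    (hMspan ▸ Submodule.mem_top (x := (Pi.single α 1 : Fin r → FunField k (d + 1))))
  choose g₂ q₂ hg₂ hq₂ using fun p : Σ α, Fin (nn α) => exists_common_denom ((vv p.1 p.2) : Fin r → FunField k (d + 1))
  choose g₃ q₃ hg₃ hq₃ using fun α => exists_common_denom (d := d + 1) (r := nn α) (cc α)
  obtain ⟨bad₁, hb1, hgood₁⟩ := exists_good_par (nonZeroDivisors.ne_zero b₀.2)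
  obtain ⟨bad₂, hb2, hgood₂⟩ := exists_good (f := G * (∏ p, g₂ p) * ∏ α, g₃ α)
    (mul_ne_zero (mul_ne_zero hG (Finset.prod_ne_zero_iff.2 fun p _ => hg₂ p))
      (Finset.prod_ne_zero_iff.2 fun p _ => hg₃ p))
  refine ⟨M, by omega, bad₁ * bad₂, mul_ne_zero hb1 hb2, fun h hh Φ' hdeg hΦ' => ?_⟩
  rw [map_mul, mul_ne_zero_iff] at hh
  have hσ := hgood₁ h hh.1
  have hρ := hgood₂ h hh.2
  simp only [map_mul, map_prod, mul_ne_zero_iff, Finset.prod_ne_zero_iff] at hρ
  obtain ⟨⟨hρG, hρ₂⟩, hρ₃⟩ := hρ
  let ι' := algebraMap (CoordRing k d) (FunField k d)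
  have hι' : ∀ {x}, x ≠ 0 → ι' x ≠ 0 := fun hx h0 =>
    hx (IsFractionRing.injective (CoordRing k d) (FunField k d) (h0.trans (map_zero _).symm))
  choose w hw hwq using fun b : B => hΦ' (v b) (hv b) G (Q b) hρG (hQ b)
  -- the restricted system spans
  have hspan' : Submodule.span (FunField k d) (Φ'.Γ M : Set (Fin r → FunField k d)) = ⊤ := by
    refine eq_top_iff.2 ?_
    rw [← (Pi.basisFun (FunField k d) (Fin r)).span_eq, Submodule.span_le]
    rintro _ ⟨α, rfl⟩
    rw [Pi.basisFun_apply]
    choose w₂ hw₂ hwq₂ using fun l : Fin (nn α) =>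
      hΦ' _ (vv α l).2 (g₂ ⟨α, l⟩) (q₂ ⟨α, l⟩) (hρ₂ _ (Finset.mem_univ _)) (hq₂ ⟨α, l⟩)
    have he : (Pi.single α 1 : Fin r → FunField k d) =
        ∑ l, (ι' (rho h (q₃ α l)) / ι' (rho h (g₃ α))) • w₂ l := by
      ext β
      let P := ∏ l, g₂ ⟨α, l⟩
      have hP : rho h P ≠ 0 := by rw [map_prod, Finset.prod_ne_zero_iff]; exact fun l _ => hρ₂ _ (Finset.mem_univ _)
      have h1 : ∑ l, q₃ α l * ((∏ l' ∈ Finset.univ.erase l, g₂ ⟨α, l'⟩) * q₂ ⟨α, l⟩ β) =
          g₃ α * P * (Pi.single α 1 : Fin r → CoordRing k (d + 1)) β := by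
        refine IsFractionRing.injective (CoordRing k (d + 1)) (FunField k (d + 1)) ?_
        have e2 : algebraMap _ (FunField k (d + 1)) ((Pi.single α 1 : Fin r → CoordRing k (d + 1)) β) =
            ∑ l, cc α l * (vv α l : Fin r → FunField k (d + 1)) β := by
          have := congrFun (hvv α) β
          simp only [Finset.sum_apply, Pi.smul_apply, smul_eq_mul] at this
          rw [this]
          by_cases hb : β = α
          · subst hb; simp
          · simp [hb]
        simp only [map_sum, map_mul, hq₂, hq₃, e2, Finset.mul_sum]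
        refine Finset.sum_congr rfl fun l _ => ?_
        rw [show P = (∏ l' ∈ Finset.univ.erase l, g₂ ⟨α, l'⟩) * g₂ ⟨α, l⟩ from
          (Finset.prod_erase_mul _ _ (Finset.mem_univ l)).symm, map_mul]
        ring
      have h2 := congrArg (fun z => ι' (rho h z)) h1
      simp only [map_sum, map_mul, hwq₂, ι'] at h2
      have e1 : algebraMap _ (FunField k d) (rho h ((Pi.single α 1 : Fin r → CoordRing k (d + 1)) β)) =
          (Pi.single α 1 : Fin r → FunField k d) β := by
        by_cases hb : β = α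
        · subst hb; simp
        · simp [hb]
      rw [e1] at h2
      simp only [Finset.sum_apply, Pi.smul_apply, smul_eq_mul]
      refine mul_left_cancel₀ (mul_ne_zero (hι' (hρ₃ α (Finset.mem_univ _))) (hι' hP)) (h2.symm.trans ?_)
      rw [Finset.mul_sum]
      refine Finset.sum_congr rfl fun l _ => ?_
      rw [show P = (∏ l' ∈ Finset.univ.erase l, g₂ ⟨α, l'⟩) * g₂ ⟨α, l⟩ from
        (Finset.prod_erase_mul _ _ (Finset.mem_univ l)).symm, map_mul, map_mul]
      field_simp [hι' (hρ₃ α (Finset.mem_univ _))]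
      ring
    rw [he]
    exact Submodule.sum_mem _ fun l _ => Submodule.smul_mem _ _ (Submodule.subset_span (hw₂ l))
  have hrk : Φ'.rk M = r := by rw [rk, (Φ'.vals_eq_top hspan').2, finrank_top, Module.finrank_pi, Fintype.card_fin]
  -- independence of the restricted jets
  let G' := incl k d (ι' (rho h G))
  have hG' : G' ≠ 0 := fun h0 => hι' hρG ((incl k d).injective (h0.trans (map_zero _).symm))
  have hjets : ∀ (c : B → ParField k d) (y : Fin r → LineField k d), y ∈ regV k d r → ∀ J : ℕ, N ≤ J →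
      ∑ b, c b • inclV (w b) = ((RatFunc.X : LineField k d) ^ J) • y → c = 0 := by
    intro c y hy J' hJ' heq
    have hdvd : ∀ α, X ^ N ∣ ∑ b, C (c b) * lineMap k d (rho h (Q b α)) := fun α => by
      obtain ⟨P, hP, hP'⟩ : ∃ P, algebraMap (Polynomial (ParField k d)) (LineField k d) P =
          (RatFunc.X : LineField k d) ^ J' * (G' * y α) ∧ P = ∑ b, C (c b) * lineMap k d (rho h (Q b α)) := by
        refine ⟨_, ?_, rfl⟩
        have h1 := congrArg (fun z => G' * z α) heq
        simp only [Finset.sum_apply, Pi.smul_apply, Finset.mul_sum, smul_eq_mul] at h1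
        rw [map_sum, mul_left_comm ((RatFunc.X : LineField k d) ^ J'), ← h1]
        refine Finset.sum_congr rfl fun b _ => ?_
        rw [map_mul, RatFunc.algebraMap_C, ← RatFunc.algebraMap_eq_C, ← incl_algebraMap, hwq, map_mul,
          Algebra.smul_def, inclV]
        show _ * (G' * _) = G' * (_ * _)
        ring
      rw [← hP']
      have hz : Reg (G' * y α) := (reg_incl _).mul (hy α)
      obtain ⟨z, hz', hzreg⟩ : ∃ z, z = G' * y α ∧ Reg z := ⟨_, rfl, hz⟩
      rw [← hz'] at hP
      have hq' : algebraMap (Polynomial (ParField k d)) (LineField k d) (P * z.denom) =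
          algebraMap (Polynomial (ParField k d)) (LineField k d) (X ^ J' * z.num) := by
        rw [map_mul, map_mul, hP, map_pow, RatFunc.algebraMap_X, mul_assoc]
        congr 1
        nth_rw 1 [← RatFunc.num_div_denom z]
        rw [div_mul_cancel₀ _ (RatFunc.algebraMap_ne_zero z.denom_ne_zero)]
      exact (pow_dvd_pow X hJ').trans (((Polynomial.irreducible_X (R := ParField k d)).coprime_iff_not_dvd.2 fun h' =>
        hzreg (by rwa [X_dvd_iff, coeff_zero_eq_eval_zero] at h')).pow_left.dvd_of_dvd_mul_right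
          ⟨_, RatFunc.algebraMap_injective (K := ParField k d) hq'⟩)
    funext b'
    let σ := (algebraMap (ParRing k d) (ParField k d)).comp (sigma h).toRingHom
    have h0 : ∑ b, c b * σ (∑ p : Fin r × Fin N, Y (b', p) * (lineMap₀ k (d + 1) (Q b p.1)).coeff p.2) = 0 := by
      simp only [map_sum, map_mul, Finset.mul_sum]
      rw [Finset.sum_comm]
      refine Finset.sum_eq_zero fun p _ => ?_
      have h1 := X_pow_dvd_iff.1 (hdvd p.1) p.2 p.2.isLt
      simp only [finsetSum_coeff, coeff_C_mul] at h1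
      rw [← mul_zero (σ (Y (b', p))), ← h1, Finset.mul_sum]
      refine Finset.sum_congr rfl fun b _ => ?_
      have e : (lineMap k d (rho h (Q b p.1))).coeff p.2 = σ ((lineMap₀ k (d + 1) (Q b p.1)).coeff p.2) := by
        show ((lineMap₀ k d (rho h (Q b p.1))).map _).coeff p.2 = _
        rw [lineMap₀_rho, Polynomial.map_map, coeff_map]
      rw [e]
      ring
    simp only [hYJ, apply_ite σ, map_zero, mul_ite, mul_zero, Finset.sum_ite_eq', Finset.mem_univ, if_true] at h0
    refine (mul_eq_zero.1 h0).resolve_right fun h1 => hσ ?_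
    exact IsFractionRing.injective (ParRing k d) (ParField k d) (h1.trans (map_zero _).symm)
  -- the saturation on the restricted line
  intro α
  by_contra hlt
  push Not at hlt
  obtain ⟨u, hu, hu0⟩ : ∃ u ∈ Φ'.Lam (Φ'.deg α), ev0V u ≠ 0 := by
    have h1 : 0 < Φ'.rk (Φ'.deg α) := lt_of_le_of_lt (Nat.zero_le _) ((Φ'.deg_le_iff α _).1 le_rfl)
    by_contra! hc
    have h2 : Φ'.vals (Φ'.deg α) = ⊥ := eq_bot_iff.2 fun _ ⟨u, hu, he⟩ => by
      rw [Submodule.mem_bot, ← he, hc u hu]
    rw [rk, h2, finrank_bot] at h1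
    exact lt_irrefl _ h1
  let J' : ℕ := (M - Φ'.deg α).toNat
  have hJ' : (J' : ℤ) = M - Φ'.deg α := Int.toNat_of_nonneg (by omega)
  let x := ((RatFunc.X : LineField k d) ^ J') • u
  have hxLam : x ∈ Φ'.Lam M := by
    obtain ⟨hreg, i, hi⟩ := hu
    refine ⟨smul_mem_regV (reg_X_pow J') hreg, i, ?_⟩
    have h1 := Φ'.X_pow_smul_mem_span hi J'
    rw [smul_smul, ← pow_add] at h1
    rw [smul_smul, ← pow_add]
    convert h1 using 2
    · omega
    · rw [add_comm]
  let T₀ : Submodule (ParField k d) (Fin r → LineField k d) :=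
    Submodule.span (ParField k d) (Set.range fun b => inclV (w b))
  haveI : Module.Finite (ParField k d) T₀ := Module.Finite.span_of_finite _ (Set.finite_range _)
  let T := T₀ ⊔ Submodule.span (ParField k d) {x}
  have hT : T ≤ Φ'.Lam M := sup_le (Submodule.span_le.2 (Set.range_subset_iff.2 fun b =>
    Φ'.span_le_lam M (Φ'.inclV_mem_span (hw b)))) ((Submodule.span_singleton_le_iff_mem _ _).2 hxLam)
  haveI : Module.Finite (ParField k d) T := Submodule.finiteDimensional_sup _ _
  obtain ⟨e₀, he₀⟩ := Φ'.exists_low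
  let K : ℕ := max (Finset.univ.sup fun β => (M - Φ'.deg β + 1).toNat) (M - e₀ + 1).toNat
  have hle := Φ'.finrank_le_sum_rk T hT he₀ (N := K) (by omega)
  rw [show (∑ j ∈ Finset.range K, Φ'.rk (M - j)) = ∑ j ∈ Finset.range K, Φ'.rk (M - j) * 1 by simp, sum_rk_mul] at hle
  have hcount : ((finrank (ParField k d) T : ℕ) : ℤ) ≤ Fintype.card B := by
    refine (Int.ofNat_le.2 hle).trans (le_of_eq ?_)
    rw [hD]
    push_cast
    have h2 : ∀ β, ((∑ j ∈ Finset.range K, if (j : ℤ) ≤ M - Φ'.deg β then (1 : ℕ) else 0 : ℕ) : ℤ) =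
        M - Φ'.deg β + 1 := fun β => by
      have hb : Φ'.deg β ≤ M := (Φ'.deg_le_iff β M).2 (by rw [hrk]; exact β.2)
      have hk : (M - Φ'.deg β + 1).toNat ≤ K :=
        le_trans (Finset.le_sup (f := fun β => (M - Φ'.deg β + 1).toNat) (Finset.mem_univ β)) (le_max_left _ _)
      rw [← Finset.sum_filter, Finset.sum_const, smul_eq_mul, mul_one,
        show (Finset.range K).filter (fun j : ℕ => (j : ℤ) ≤ M - Φ'.deg β) =
            Finset.range (M - Φ'.deg β + 1).toNat by
          ext j; simp only [Finset.mem_filter, Finset.mem_range]; omega,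
        Finset.card_range, Int.toNat_of_nonneg (by omega)]
    push_cast at h2
    rw [Finset.sum_congr rfl fun β _ => h2 β, Finset.sum_add_distrib, Finset.sum_add_distrib,
      Finset.sum_sub_distrib, Finset.sum_sub_distrib, hdeg]
  have hli : LinearIndependent (ParField k d) fun b => inclV (w b) :=
    Fintype.linearIndependent_iff.2 fun c hc b => congrFun (hjets c 0 (regV k d r).zero_mem N le_rfl
      (by rw [hc, smul_zero])) b
  have hT₀ : T₀ = T := Submodule.eq_of_le_of_finrank_le le_sup_left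
    ((Int.ofNat_le.1 hcount).trans (le_of_eq (finrank_span_eq_card hli).symm))
  have hxT : x ∈ T₀ := hT₀ ▸ Submodule.mem_sup_right (Submodule.mem_span_singleton_self x)
  obtain ⟨c, hc⟩ := (Submodule.mem_span_range_iff_exists_fun _).1 hxT
  have hc0 := hjets c u hu.1 J' (by omega) hc
  rw [hc0] at hc
  simp only [Pi.zero_apply, zero_smul, Finset.sum_const_zero] at hc
  have hu1 : u = 0 := (smul_eq_zero.1 hc.symm).resolve_left (X_pow_ne_zero J')
  exact hu0 (by rw [hu1, ev0V_zero])

end Sys

end Groth.Agent.SimpsonEst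

end
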