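import Groth.Agent.SimpsonEst.Estimate
import Groth.Agent.SimpsonEst.Special
import Groth.Agent.MulSect.Main
import Groth.Agent.Bdd.Mumford
import Groth.Agent.Big.Cartier

/-!
# General hyperplane sections
-/

set_option autoImplicit false
set_option linter.style.haveILetI false
set_option linter.unusedSectionVars false
set_option backward.isDefEq.respectTransparency false
set_option backward.isDefEq.respectTransparency.types false
set_option maxHeartbeats 1000000
set_option synthInstance.maxHeartbeats 100000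

universe u

open CategoryTheory CategoryTheory.Limits AlgebraicGeometry TopologicalSpace Opposite

noncomputable section

namespace Groth.Agent.SimpsonEst

open Groth.Agent Groth.Agent.RegEpi Groth.Agent.HilbBound Groth.Agent.PnCoh.Finite

section General

variable {X : Scheme.{u}}

theorem mulHom_app {N : X.Modules} (σ : Γ(N, ⊤)) (M : X.Modules) (U : X.Opens) (t : Γ(M, U)) :
    (HilbPoly.mulHom (InvX.ofSect σ) M).app U t = InvX.tmul t (AModX.res N (le_top : U ≤ ⊤) σ) := by
  show ((DCoh.tensorBi.obj M).map (InvX.ofSect σ)).app U ((AmpleVan.twUnit.inv.app M).app U t) = _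
  rw [AmpleVan.unit_inv_app, MulSect.map_tmul_right]
  exact congrArg (InvX.tmul t) ((CurveEmbed.ofSect_app σ U (1 : Γ(X, U))).trans (one_smul _ _))

end General

variable {k : Type u} [Field k] {n d : ℕ}

local notation "PP" => Proj (CohB1.polyGrading n k)
local notation "MOD" => Scheme.Modules (Proj (CohB1.polyGrading n k))
local notation "Lin" => (CohB1.polyGrading n k) 1
local notation "OO" => Twist.twist (CohB1.polyGrading n k) 1

attribute [local instance 10000] HilbBound.projOver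

/-- A projection with degrees at least `-A`, covering the support. -/
structure Adapted [NeZero d] (M : MOD) (l : Lin) (y : Fin d → Lin) (A : ℤ) : Prop where
  setup : Setup M l y
  cover : ∀ x ∈ CohB1.support M, ∃ i, x ∈ UL ((Fin.cons l y : Fin (d + 1) → Lin) i)
  deg : ∃ (r : ℕ) (θ : Coords k d (Sect M l y) r) (z : Fin r → Sect M l y) (_ : Function.Injective θ)
    (hz : ∀ α, θ (z α) = Pi.single α 1), ∀ α, -A ≤ (setup.filt.sys θ z hz).deg α

/-- The hyperplane `t_d = h_d + ∑ h_i t_i`. -/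
def hyp (l : Lin) (y : Fin (d + 1) → Lin) (h : Fin (d + 1) → k) : Lin :=
  y (Fin.last d) - (h (Fin.last d) • l + ∑ i : Fin d, h i.castSucc • y i.castSucc)

theorem coord_hyp (l : Lin) (y : Fin (d + 1) → Lin) (h : Fin (d + 1) → k) :
    coord l (y (Fin.last d)) =
      coord l (hyp l y h) + projMap l (fun i : Fin d => y i.castSucc) (rho h (MvPolynomial.X (Fin.last d))) := by
  rw [rho_X_last]
  simp only [hyp, map_sub, map_add, map_sum, map_mul, projMap, MvPolynomial.eval₂Hom_C, MvPolynomial.eval₂Hom_X',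
    coord_smul, coord_self, mul_one]
  ring

/-- A point outside the base locus lies off a general hyperplane. -/
theorem exists_bad_hyp (l : Lin) (y : Fin (d + 1) → Lin) {x : PP}
    (hx : ∃ i, x ∈ UL ((Fin.cons l y : Fin (d + 2) → Lin) i)) :
    ∃ b : MvPolynomial (Fin (d + 1)) k, b ≠ 0 ∧ ∀ h, MvPolynomial.eval h b ≠ 0 → x ∈ UL (hyp l y h) := by
  classical
  let W : Submodule k Lin :=
    ((x : ProjectiveSpectrum (CohB1.polyGrading n k)).asHomogeneousIdeal.toIdeal.restrictScalars k).comap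
      (CohB1.polyGrading n k 1).subtype
  let v : Fin (d + 1) → Lin := Fin.snoc (fun i => y i.castSucc) l
  obtain ⟨w, hwv, hw⟩ : ∃ w : Lin, (w = y (Fin.last d) ∨ ∃ j, w = v j) ∧ w ∉ W := by
    obtain ⟨i, hi⟩ := hx
    refine ⟨_, ?_, (ProjectiveSpectrum.mem_basicOpen _ _ _).1 hi⟩
    refine Fin.cases ?_ (fun i' => ?_) i
    · exact Or.inr ⟨Fin.last d, by simp [v]⟩
    · refine Fin.lastCases ?_ (fun i'' => ?_) i'
      · exact Or.inl (by simp)
      · exact Or.inr ⟨i''.castSucc, by simp [v]⟩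
  obtain ⟨φ, hφw, hφW⟩ := Submodule.exists_dual_map_eq_bot_of_notMem hw inferInstance
  refine ⟨MvPolynomial.C (φ (y (Fin.last d))) - ∑ j, MvPolynomial.C (φ (v j)) * MvPolynomial.X j, fun h0 => ?_,
    fun h hh => (ProjectiveSpectrum.mem_basicOpen _ _ _).2 fun hmem => hh ?_⟩
  · rcases hwv with rfl | ⟨j, rfl⟩
    · exact hφw (by simpa using congrArg (MvPolynomial.eval (0 : Fin (d + 1) → k)) h0)
    · have h1 := congrArg (MvPolynomial.eval (Pi.single j 1 : Fin (d + 1) → k)) h0
      have h2 := congrArg (MvPolynomial.eval (0 : Fin (d + 1) → k)) h0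
      simp [Pi.single_apply] at h1 h2
      rw [h2, zero_sub, neg_eq_zero] at h1
      exact hφw h1
  · have h1 : φ (hyp l y h) = 0 := by
      have := Submodule.mem_map_of_mem (f := φ) (show hyp l y h ∈ W from hmem)
      rwa [hφW, Submodule.mem_bot] at this
    simp only [map_sub, map_sum, map_mul, MvPolynomial.eval_C, MvPolynomial.eval_X]
    rw [← h1, Fin.sum_univ_castSucc]
    simp only [hyp, v, map_sub, map_add, map_sum, map_smul, smul_eq_mul, Fin.snoc_castSucc, Fin.snoc_last]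
    rw [add_comm (h (Fin.last d) * φ l)]
    congr 1
    refine congrArg₂ (· + ·) (Finset.sum_congr rfl fun i _ => mul_comm _ _) (mul_comm _ _)

/-- A general hyperplane section keeps the degrees bounded below. -/
theorem exists_restrict [Infinite k] [NeZero d] {M : MOD} {l : Lin} {y : Fin (d + 1) → Lin} {A : ℤ}
    (had : Adapted M l y A) {P : Polynomial ℚ} (hP : ∀ t : ℤ, (chi (k := k) (n := n) M t : ℚ) = P.eval (t : ℚ)) :
    ∃ μ : (twF (k := k) (n := n) (-1)).obj M ⟶ M, Mono μ ∧ Coh.IsCoh (cokernel μ) ∧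
      (∀ t : ℤ, (chi (k := k) (n := n) (cokernel μ) t : ℚ) = (Bdd.diff P).eval (t : ℚ)) ∧
      ∃ y' : Fin d → Lin, Adapted (cokernel μ) l y' A := by
  classical
  haveI : IsNoetherian PP := Proj16.isNoetherian_proj _
  obtain ⟨S, hcov, r, θ, z, hθ, hz, hdeg⟩ := had
  let M₀ : MOD := (twF (k := k) (n := n) (-1)).obj M
  have hM₀ : Coh.IsCoh M₀ := isCoh_tw S.coh (-1)
  obtain ⟨cM⟩ := twF_cancel (k := k) (n := n) M (a := -1) (b := 1) (by ring)
  let c : (AmpleVan.tw (OO)).obj M₀ ≅ M := cM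
  obtain ⟨S₀, hS₀, hbadpts⟩ := GrothLem.exists_bad (PP ↘ Spec (CommRingCat.of k)) hM₀ (isPureDeg_twF S.pure (-1))
  have hsM₀ : CohB1.support M₀ ⊆ CohB1.support M := HilbPoly.support_tensor_subset M _
  -- the points to avoid
  have hA : IsClosed (CohB1.support M ∩ (UL l : Set PP)ᶜ) :=
    (QCoh.isClosed_support_of_isFT S.coh.1 S.coh.2).inter (UL l).2.isClosed_compl
  have hAd : topologicalKrullDim ↥(CohB1.support M ∩ (UL l : Set PP)ᶜ) < ((d + 1 : ℕ) : WithBot ℕ∞) :=
    dim_lt_of_avoid (QCoh.isClosed_support_of_isFT S.coh.1 S.coh.2) hA Set.inter_subset_left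
      (fun y' hy' hmax hB => hB.2 (S.ass y' (AssPtX.isWeakAssPoint_of_maximal S.coh.1 hy' hmax))) S.dim
  let Z : Set PP := {x | Curv2.IsWeakAssPoint M₀ x} ∪ (S₀ ∩ CohB1.support M) ∪
    {ξ | ξ ∈ CohB1.support M ∩ (UL l : Set PP)ᶜ ∧
      (∀ w ∈ CohB1.support M ∩ (UL l : Set PP)ᶜ, w ⤳ ξ → w = ξ) ∧ ξ ∈ (Set.univ : Set PP)}
  have hZfin : Z.Finite := ((finite_weakAss hM₀).union (hS₀.subset Set.inter_subset_left)).union
    (H23.C1Comm.finite_maximal_inter hA CompactSpace.isCompact_univ)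
  have hZs : Z ⊆ CohB1.support M := fun x hx => by
    rcases hx with (hx | hx) | hx
    · exact hsM₀ (AssPtX.mem_support_of_isWeakAssPoint hx)
    · exact hx.2
    · exact hx.1.1
  choose bx hbx hbx' using fun x : Z => exists_bad_hyp l y (hcov x (hZs x.2))
  haveI := hZfin.fintype
  -- a common denominator
  haveI := S.finite_sect
  obtain ⟨gens, hgens⟩ := Module.Finite.fg_top (R := CoordRing k (d + 1)) (M := Sect M l y)
  choose gg qq hgg hqq using fun v : gens => Setup.exists_frac hθ hz (v : Sect M l y)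
  let G : CoordRing k (d + 1) := ∏ v, gg v
  have hG : G ≠ 0 := Finset.prod_ne_zero_iff.2 fun v _ => hgg v
  have hGspan : ∀ v : Sect M l y, G • v ∈ Submodule.span (CoordRing k (d + 1)) (Set.range z) := by
    intro v
    have hv : v ∈ Submodule.span (CoordRing k (d + 1)) (gens : Set (Sect M l y)) := hgens ▸ Submodule.mem_top
    induction hv using Submodule.span_induction with
    | mem w hw =>
      rw [show G = (∏ v' ∈ Finset.univ.erase ⟨w, hw⟩, gg v') * gg ⟨w, hw⟩ from
        (Finset.prod_erase_mul _ _ (Finset.mem_univ _)).symm, mul_smul, hqq ⟨w, hw⟩]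
      exact Submodule.smul_mem _ _ (Submodule.sum_mem _ fun α _ =>
        Submodule.smul_mem _ _ (Submodule.subset_span ⟨α, rfl⟩))
    | zero => rw [smul_zero]; exact Submodule.zero_mem _
    | add a b _ _ ha hb => rw [smul_add]; exact Submodule.add_mem _ ha hb
    | smul s a _ ha => rw [smul_comm]; exact Submodule.smul_mem _ _ ha
  obtain ⟨bG, hbG, hgood⟩ := exists_good hG
  obtain ⟨N₁, hN₁, bS, hbS, hspec⟩ := (S.filt.sys θ z hz).exists_special hdeg 0
  -- a general hyperplane
  obtain ⟨h, hh⟩ : ∃ h : Fin (d + 1) → k, MvPolynomial.eval h (bS * bG * ∏ x : Z, bx x) ≠ 0 := by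
    by_contra! hc
    exact mul_ne_zero (mul_ne_zero hbS hbG) (Finset.prod_ne_zero_iff.2 fun x _ => hbx x)
      (MvPolynomial.funext fun x => by rw [hc x, map_zero])
  simp only [map_mul, map_prod, mul_ne_zero_iff, Finset.prod_ne_zero_iff] at hh
  obtain ⟨⟨hhS, hhG⟩, hhZ⟩ := hh
  let a : Lin := hyp l y h
  have haZ : ∀ x ∈ Z, x ∈ UL a := fun x hx => hbx' ⟨x, hx⟩ h (hhZ _ (Finset.mem_univ _))
  let s : Coh.structureModule PP ⟶ OO := InvX.ofSect (GrothLem.lsec a)
  have hloc : CohB1.genLocus (OO) s = UL a :=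
    AmpleX.genLocus_sec (CohB1.polyGrading n k) (ProjRegular.coords k n) ProjRegular.coords_mem
      ProjRegular.coords_cover a.2
  haveI hm0 : Mono (HilbPoly.mulHom s M₀) :=
    mono_mulHom s hM₀.1 fun x hx => hloc.symm ▸ haZ x (Or.inl (Or.inl hx))
  let μ : M₀ ⟶ M := HilbPoly.mulHom s M₀ ≫ c.hom
  have hμ : Mono μ := mono_comp _ _
  have hQ : Coh.IsCoh (cokernel μ) := QCoh.isCoh_cokernel hM₀.1 S.coh μ
  let eQ : cokernel μ ≅ cokernel (HilbPoly.mulHom s M₀) := cokernelCompIsIso (HilbPoly.mulHom s M₀) c.hom ≪≫ Iso.refl _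
  have hC : Coh.IsCoh (cokernel (HilbPoly.mulHom s M₀)) :=
    QCoh.isCoh_cokernel hM₀.1 (isCoh_tw hM₀ 1) _
  have hsupp : CohB1.support (cokernel μ) ⊆ CohB1.support M ∩ (UL a : Set PP)ᶜ := fun x hx => by
    have h1 := support_cokernel_mulHom s (isCoh_tw hM₀ 1).1 hC.1 (support_of_mono eQ.hom hx)
    exact ⟨hsM₀ h1.1, fun h2 => h1.2 (hloc.symm ▸ h2)⟩
  have hsuppclosed := QCoh.isClosed_support_of_isFT hQ.1 hQ.2
  have hdQ : HilbPoly.DimLT (cokernel μ) (d + 1) :=
    dim_lt_of_avoid (QCoh.isClosed_support_of_isFT hM₀.1 hM₀.2) hsuppclosed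
      (fun x hx => by
        have h1 := support_cokernel_mulHom s (isCoh_tw hM₀ 1).1 hC.1 (support_of_mono eQ.hom hx)
        exact h1.1)
      (fun x hx hmax hB => (hsupp hB).2 (haZ x (Or.inl (Or.inl (AssPtX.isWeakAssPoint_of_maximal hM₀.1 hx hmax)))))
      (dimLT_twF S.dim (-1))
  have hpQ : GrothLem.IsPureDeg (cokernel μ) d := fun x hx => by
    have hxs := hsupp (AssPtX.mem_support_of_isWeakAssPoint hx)
    have hle := GrothLem.deg_le_of_dimLT hQ hdQ (AssPtX.mem_support_of_isWeakAssPoint hx)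
    by_contra hne
    exact hxs.2 (haZ x (Or.inl (Or.inr ⟨hbadpts isInvertible_O1 s hm0 x (fun h1 => hxs.2 (hloc ▸ h1))
      (Big.isWeakAssPoint_of_mono eQ.hom hx) (by omega), hxs.1⟩)))
  have hassQ : ∀ x, Curv2.IsWeakAssPoint (cokernel μ) x → x ∈ UL l := fun x hx => by
    by_contra hxl
    have hxs := hsupp (AssPtX.mem_support_of_isWeakAssPoint hx)
    have hBc : IsClosed ((CohB1.support M ∩ (UL l : Set PP)ᶜ) ∩ (UL a : Set PP)ᶜ) :=
      hA.inter (UL a).2.isClosed_compl
    have hBd := dim_lt_of_avoid hA hBc Set.inter_subset_left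
      (fun w hw hmax hB => hB.2 (haZ w (Or.inr ⟨hw, hmax, trivial⟩))) hAd
    have h2 := lt_of_le_of_lt (H23.TopDim.dim_le_dim_of_subset (hBc.closure_subset_iff.2
      (Set.singleton_subset_iff.2 (show x ∈ _ from ⟨⟨hxs.1, hxl⟩, hxs.2⟩)))) hBd
    rw [VarDim.topologicalKrullDim_closure_singleton (PP ↘ Spec (CommRingCat.of k)), hpQ x hx] at h2
    exact lt_irrefl _ h2
  let y' : Fin d → Lin := fun i => y i.castSucc
  have hcovQ : ∀ x ∈ CohB1.support (cokernel μ), ∃ i, x ∈ UL ((Fin.cons l y' : Fin (d + 1) → Lin) i) := by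
    intro x hx
    by_contra! hall
    have h0 : (hsupp hx).1 = (hsupp hx).1 := rfl
    obtain ⟨i, hi⟩ := hcov x (hsupp hx).1
    have hmem : ∀ w : Lin, x ∉ UL w → w.1 ∈ (x : ProjectiveSpectrum (CohB1.polyGrading n k)).asHomogeneousIdeal.toIdeal :=
      fun w hw => not_not.1 fun hn => hw ((ProjectiveSpectrum.mem_basicOpen _ _ _).2 hn)
    have hnot : ∀ w : Lin, w.1 ∈ (x : ProjectiveSpectrum (CohB1.polyGrading n k)).asHomogeneousIdeal.toIdeal → x ∉ UL w :=
      fun w hw hn => (ProjectiveSpectrum.mem_basicOpen _ _ _).1 hn hw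
    let W : Submodule k Lin :=
      ((x : ProjectiveSpectrum (CohB1.polyGrading n k)).asHomogeneousIdeal.toIdeal.restrictScalars k).comap
        (CohB1.polyGrading n k 1).subtype
    have hl0 : l ∈ W := hmem l (by simpa using hall 0)
    have hy0 : ∀ j : Fin d, y j.castSucc ∈ W := fun j => hmem _ (by simpa [y'] using hall j.succ)
    have ha0 : a ∈ W := hmem a (hsupp hx).2
    have hlast : y (Fin.last d) ∈ W := by
      have e : y (Fin.last d) = a + (h (Fin.last d) • l + ∑ i : Fin d, h i.castSucc • y i.castSucc) := by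
        simp [a, hyp]
      rw [e]
      exact W.add_mem ha0 (W.add_mem (W.smul_mem _ hl0) (W.sum_mem fun j _ => W.smul_mem _ (hy0 j)))
    revert hi
    refine Fin.cases ?_ (fun i' => ?_) i
    · exact hnot _ hl0
    · refine Fin.lastCases ?_ (fun j => ?_) i'
      · exact hnot _ hlast
      · exact hnot _ (hy0 j)
  obtain ⟨m₀, hm₀⟩ := exists_gen hQ _ hcovQ
  have S' : Setup (cokernel μ) l y' := ⟨hQ, hassQ, hpQ, hdQ, m₀, fun m hm x => by
    obtain ⟨b, rfl⟩ := hm₀ m hm x
    exact ⟨b 0, fun i => b i.succ, by rw [Fin.sum_univ_succ]; simp only [Fin.cons_zero, Fin.cons_succ]⟩⟩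
  -- sections over the complement
  let π : Sect M l y → Sect (cokernel μ) l y' := fun v => ⟨(cokernel.π μ).app (UL l) v.val⟩
  have hπB : ∀ (b : Γ(PP, UL l)) (v : Sect M l y), π (b • v) = b • π v := fun b v =>
    Sect.ext (Scheme.Modules.Hom.app_smul (cokernel.π μ) (U := UL l) b v.val)
  have hπadd : ∀ v w, π (v + w) = π v + π w := fun v w => Sect.ext (map_add _ _ _)
  have hπ0 : ∀ v : Sect M l y, coord l a • π v = 0 := fun v => by
    obtain ⟨w, hw⟩ := (bijective_frameMul l hM₀ 1).2 (c.inv.app (UL l) v.val)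
    have h1 : μ.app (UL l) w = coord l a • v.val := by
      show c.hom.app (UL l) ((HilbPoly.mulHom (InvX.ofSect (GrothLem.lsec a)) M₀).app (UL l) w) = _
      rw [mulHom_app, coord_spec l a, InvX.tmul_smul_right]
      refine (Scheme.Modules.Hom.app_smul c.hom (U := UL l) _ _).trans ?_
      refine congrArg (coord l a • ·) ?_
      exact (congrArg (c.hom.app (UL l)) hw).trans congr(($(c.inv_hom_id)).app (UL l) v.val)
    rw [← hπB]
    refine Sect.ext ?_
    show (cokernel.π μ).app (UL l) (coord l a • v.val) = _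
    rw [← h1]
    exact congr(($(cokernel.condition μ)).app (UL l) w)
  have hπsemi : ∀ (f : CoordRing k (d + 1)) (v : Sect M l y), π (f • v) = rho h f • π v := by
    intro f
    induction f using MvPolynomial.induction_on with
    | C c' =>
      intro v
      rw [show rho h (MvPolynomial.C c') = MvPolynomial.C c' from MvPolynomial.aeval_C _ c', coordRing_smul_def,
        coordRing_smul_def, hπB, projMap, projMap, MvPolynomial.eval₂Hom_C, MvPolynomial.eval₂Hom_C]
    | add p q hp hq => intro v; rw [add_smul, hπadd, hp, hq, map_add, add_smul]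
    | mul_X p i hp =>
      intro v
      rw [mul_smul, hp, map_mul, mul_smul, X_smul, hπB]
      congr 1
      refine Fin.lastCases ?_ (fun j => ?_) i
      · rw [coord_hyp l y h, add_smul, hπ0, zero_add, coordRing_smul_def]
      · rw [rho_X_castSucc, X_smul]
  have hπsurj : ∀ u : Sect (cokernel μ) l y', ∃ v, π v = u := fun u => by
    obtain ⟨v, hv⟩ := QCoh.app_surjective_of_epi S.coh.1 hQ.1 (cokernel.π μ) (isAffineOpen_UL l) u.val
    exact ⟨⟨v⟩, Sect.ext hv⟩
  have hπsum : ∀ (f : Fin r → Sect M l y), π (∑ α, f α) = ∑ α, π (f α) := fun f =>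
    map_sum (AddMonoidHom.mk' π hπadd) _ _
  have hρG : rho h G ≠ 0 := hgood h hhG
  -- the rank
  have hμ' : Mono μ := hμ
  have hPQ : ∀ t : ℤ, (chi (k := k) (n := n) (cokernel μ) t : ℚ) = (Bdd.diff P).eval (t : ℚ) :=
    fun t => Bdd.hasPoly_cokernel S.coh (fun t => hP t) μ t
  obtain ⟨r', θ₀, z₀, hθ₀, hz₀⟩ := S'.exists_coords
  obtain ⟨N₀, hN₀⟩ := S.exists_finrank_eq hP
  obtain ⟨N₀', hN₀'⟩ := S'.exists_finrank_eq hPQ
  obtain ⟨hα, hη⟩ := S.filt.alpha_eq hz hθ (GrothLem.natDegree_le_of_dim S.coh S.dim hP).1 hN₀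
  have hP'd := (GrothLem.natDegree_le_of_dim hQ hdQ hPQ).1
  obtain ⟨e, rfl⟩ : ∃ e, d = e + 1 := ⟨d - 1, (Nat.succ_pred (NeZero.ne d)).symm⟩
  obtain ⟨hd1, hd2⟩ := alpha_diff (e := e) (GrothLem.natDegree_le_of_dim S.coh S.dim hP).1
  have hr : r' = r := by
    have h1 := (S'.filt.alpha_eq hz₀ hθ₀ hP'd hN₀').1
    rw [show Bdd.diff P = P - P.comp (Polynomial.X - Polynomial.C 1) from rfl, hd1, hα] at h1
    exact_mod_cast h1.symm
  subst hr
  obtain ⟨θ', hθ', hz'⟩ := exists_embed_of hθ₀ z₀ hz₀ (fun α => π (z α)) fun x => by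
    obtain ⟨v, rfl⟩ := hπsurj x
    obtain ⟨q, hq⟩ := (Submodule.mem_span_range_iff_exists_fun _).1 (hGspan v)
    exact ⟨rho h G, fun α => rho h (q α), hρG, by rw [← hπsemi, ← hq, hπsum]; simp only [hπsemi]⟩
  have hη' := (S'.filt.alpha_eq hz' hθ' hP'd hN₀').2
  have hsum : ∑ α, (S'.filt.sys θ' (fun α => π (z α)) hz').deg α = ∑ α, (S.filt.sys θ z hz).deg α := by
    rw [show Bdd.diff P = P - P.comp (Polynomial.X - Polynomial.C 1) from rfl,
      show e + 1 - 1 = e by omega, hd2] at hη'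
    rw [show e + 1 + 1 - 1 = e + 1 by omega] at hη
    rw [hη, hα] at hη'
    simp only [Sys.slope, Finset.sum_add_distrib, Finset.sum_neg_distrib, Finset.sum_const, Finset.card_univ,
      Fintype.card_fin, nsmul_eq_mul] at hη'
    push_cast at hη'
    have : ((∑ α, (S'.filt.sys θ' (fun α => π (z α)) hz').deg α : ℤ) : ℚ) =
        ((∑ α, (S.filt.sys θ z hz).deg α : ℤ) : ℚ) := by
      push_cast
      linarith
    exact_mod_cast this
  refine ⟨μ, hμ, hQ, hPQ, y', S', hcovQ, r', θ', fun α => π (z α), hθ', hz', ?_⟩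
  refine hspec h hhS _ hsum fun v hv g q hg hq => ?_
  obtain ⟨N, rfl⟩ : ∃ N : ℕ, N₁ = N := ⟨N₁.toNat, (Int.toNat_of_nonneg hN₁).symm⟩
  rw [Filt.sys_Γ_coe] at hv
  obtain ⟨_, ⟨x, rfl⟩, rfl⟩ := hv
  refine ⟨θ' (π (S.secL N x)), ?_, fun α => ?_⟩
  · rw [Filt.sys_Γ_coe]
    refine ⟨_, ⟨((AmpleVan.itw (OO) N).map (cokernel.π μ)).app ⊤ x, rfl⟩, ?_⟩
    refine congrArg θ' (Sect.ext ?_)
    exact (secU_natural l S.coh hQ (cokernel.π μ) N x).symm
  · have h1 : g • S.secL N x = ∑ β, q β • z β := hθ (funext fun β => by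
      rw [map_smul, map_sum, Pi.smul_apply, Algebra.smul_def, Finset.sum_apply,
        Finset.sum_eq_single β (fun α _ hα => by
          rw [map_smul, hz, Pi.smul_apply, Pi.single_eq_of_ne (Ne.symm hα), smul_zero])
          (fun h' => absurd (Finset.mem_univ β) h'),
        map_smul, hz, Pi.smul_apply, Pi.single_eq_same, ← Algebra.algebraMap_eq_smul_one, hq]
      rfl)
    have h2 := congrArg π h1
    rw [hπsemi, hπsum] at h2
    simp only [hπsemi] at h2
    have h3 := congrFun (congrArg θ' h2) α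
    rw [map_smul, map_sum, Pi.smul_apply, Algebra.smul_def, Finset.sum_apply,
      Finset.sum_eq_single α (fun β _ hβ => by
        rw [map_smul, hz', Pi.smul_apply, Pi.single_eq_of_ne (Ne.symm hβ), smul_zero])
        (fun h' => absurd (Finset.mem_univ α) h'),
      map_smul, hz', Pi.smul_apply, Pi.single_eq_same, ← Algebra.algebraMap_eq_smul_one] at h3
    exact h3.symm

end Groth.Agent.SimpsonEst

end
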