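import Groth.Agent.SimpsonEst.Generation
import Groth.Agent.GrothLem.Finite
import Groth.Agent.CurveEmbed.Pow
import Groth.Agent.CartManLib.Basic
import Groth.Agent.ZClosLib.Basic

/-!
# Stable subspaces come from subsheaves
-/

set_option autoImplicit false
set_option linter.style.haveILetI false
set_option linter.unusedSectionVars false
set_option backward.isDefEq.respectTransparency false
set_option backward.isDefEq.respectTransparency.types false
set_option maxHeartbeats 1000000
set_option synthInstance.maxHeartbeats 100000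

universe u

open CategoryTheory CategoryTheory.Limits AlgebraicGeometry TopologicalSpace Opposite

attribute [local instance] Groth.Agent.QCoh.hasFiniteBiproducts

noncomputable section

namespace Groth.Agent.SimpsonEst

open Groth.Agent Groth.Agent.RegEpi Groth.Agent.HilbBound Groth.Agent.PnCoh.Finite

/-- The top coefficients of a translate. -/
theorem alpha_comp_add {e : ℕ} {Q : Polynomial ℚ} (h : Q.natDegree ≤ e + 1) (c : ℚ) :
    StabCat.alpha (e + 1) (Q.comp (Polynomial.X + Polynomial.C c)) = StabCat.alpha (e + 1) Q ∧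
      StabCat.alpha e (Q.comp (Polynomial.X + Polynomial.C c)) =
        StabCat.alpha e Q + c * StabCat.alpha (e + 1) Q := by
  simp only [StabCat.alpha]
  rw [CartManLib.coeff_comp_X_add_C Q (e + 2) (by omega) c (e + 1),
    CartManLib.coeff_comp_X_add_C Q (e + 2) (by omega) c e, Finset.sum_range_succ, Finset.sum_range_succ,
    Finset.sum_range_succ, Finset.sum_range_succ,
    Finset.sum_eq_zero fun m hm => by
      rw [Nat.choose_eq_zero_of_lt (by rw [Finset.mem_range] at hm; omega)]; simp,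
    Finset.sum_eq_zero fun m hm => by
      rw [Nat.choose_eq_zero_of_lt (by rw [Finset.mem_range] at hm; omega)]; simp,
    Nat.choose_self, Nat.choose_eq_zero_of_lt (Nat.lt_succ_self e), Nat.choose_self, Nat.choose_succ_self_right,
    Nat.factorial_succ]
  simp
  ring

section Sheaf

variable {X : Scheme.{u}}

theorem sum_app {M N : X.Modules} {ι : Type*} (s : Finset ι) (φ : ι → (M ⟶ N)) (U : X.Opens) (x : Γ(M, U)) :
    (∑ i ∈ s, φ i).app U x = ∑ i ∈ s, (φ i).app U x := by
  classical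
  induction s using Finset.induction with
  | empty => rfl
  | insert i s hi ih => rw [Finset.sum_insert hi, Finset.sum_insert hi, ← ih]; rfl

/-- The sections of the image of a map from a free module. -/
theorem exists_coeff {N : ℕ} {M : X.Modules} (σ : Fin N → Γ(M, ⊤)) (U : X.Opens)
    (c : Γ((⨁ fun _ : ULift.{u} (Fin N) => Coh.structureModule X), U)) :
    ∃ b : ULift.{u} (Fin N) → Γ(X, U),
      (biproduct.desc fun i : ULift.{u} (Fin N) => InvX.ofSect (σ i.down)).app U c =
        ∑ i, b i • AModX.res M (le_top : U ≤ ⊤) (σ i.down) := by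
  refine ⟨fun i => (biproduct.π (fun _ : ULift.{u} (Fin N) => Coh.structureModule X) i).app U c, ?_⟩
  have hd : (biproduct.desc fun i : ULift.{u} (Fin N) => InvX.ofSect (σ i.down)) =
      ∑ i : ULift.{u} (Fin N), biproduct.π (fun _ : ULift.{u} (Fin N) => Coh.structureModule X) i ≫
        InvX.ofSect (σ i.down) := by
    classical
    refine biproduct.hom_ext' _ _ fun j => ?_
    simp [Preadditive.comp_sum, biproduct.ι_π_assoc, ite_comp, dite_eq_ite]
  refine (congr(($hd).app U c) : _).trans ?_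
  rw [sum_app]
  exact Finset.sum_congr rfl fun i _ => CurveEmbed.ofSect_app _ U _

variable (L : X.Modules) (M : X.Modules)

theorem itw_succ_obj (N : X.Modules) (j : ℕ) : (AmpleVan.itw L (j + 1)).obj N = (AmpleVan.tw L).obj ((AmpleVan.itw L j).obj N) := rfl
theorem itw_zero_obj (N : X.Modules) : (AmpleVan.itw L 0).obj N = N := rfl
theorem itw_add (m : ℕ) : ∀ j : ℕ, (AmpleVan.itw L j).obj ((AmpleVan.itw L m).obj M) = (AmpleVan.itw L (m + j)).obj M
  | 0 => itw_zero_obj L _
  | j + 1 => (itw_succ_obj L _ j).trans ((congrArg (AmpleVan.tw L).obj (itw_add m j)).trans (itw_succ_obj L M (m + j)).symm)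

theorem eqToHom_tmul {A B : X.Modules} (a : A = B) {U : X.Opens} (x : Γ(A, U)) (b : Γ(L, U)) :
    (eqToHom (congrArg (AmpleVan.tw L).obj a)).app U (InvX.tmul x b) = InvX.tmul ((eqToHom a).app U x) b := by
  subst a
  rfl
theorem itw_add_pw (σ : Γ(L, ⊤)) (m : ℕ) (U : X.Opens) (u : Γ(M, U)) : ∀ j : ℕ,
    (eqToHom (itw_add L M m j)).app U (((AmpleVan.pw σ j).app _).app U (((AmpleVan.pw σ m).app M).app U u)) =
      ((AmpleVan.pw σ (m + j)).app M).app U u
  | 0 => rfl
  | j + 1 => by
    refine (eqToHom_tmul L (itw_add L M m j) _ _).trans ?_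
    exact (congrArg (fun t => InvX.tmul t (AModX.res L (le_top : U ≤ ⊤) σ)) (itw_add_pw σ m U u j)).trans rfl

/-- The support of a subsheaf. -/
theorem support_of_mono {A B : X.Modules} (φ : A ⟶ B) [Mono φ] : CohB1.support A ⊆ CohB1.support B :=
  fun x hx h => hx (haveI := h; (ZClosLib.stalkMap_injective_of_mono φ x).subsingleton)

end Sheaf

variable {k : Type u} [Field k] {n d : ℕ}

local notation "PP" => Proj (CohB1.polyGrading n k)
local notation "MOD" => Scheme.Modules (Proj (CohB1.polyGrading n k))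
local notation "Lin" => (CohB1.polyGrading n k) 1
local notation "OO" => Twist.twist (CohB1.polyGrading n k) 1

attribute [local instance 10000] HilbBound.projOver

/-- Twisting twice. -/
theorem itM_add (M : MOD) (m j : ℕ) : itM (itM M m) j = itM M (m + j) := itw_add (OO) M m j

theorem itAdd_frameMul (l : Lin) (M : MOD) (m : ℕ) (u : Γ(M, UL l)) (j : ℕ) :
    (eqToHom (itM_add M m j)).app (UL l) (frameMul l (itM M m) j (frameMul l M m u)) = frameMul l M (m + j) u :=
  itw_add_pw (OO) M (GrothLem.lsec l) m (UL l) u j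

theorem itAdd_mulA (M : MOD) (m j : ℕ) (a : Lin) (x : Γ(itM (itM M m) j, ⊤)) :
    (eqToHom (itM_add M m (j + 1))).app ⊤ (mulA (itM M m) j a x) =
      mulA M (m + j) a ((eqToHom (itM_add M m j)).app ⊤ x) :=
  eqToHom_tmul (OO) (itM_add M m j) x _

theorem secU_itAdd (l : Lin) {M : MOD} (hM : Coh.IsCoh M) (m j : ℕ) (y : Γ(itM (itM M m) j, ⊤)) :
    frameMul l M m (secU l hM (m + j) ((eqToHom (itM_add M m j)).app ⊤ y)) = secU l (isCoh_itM hM m) j y := by
  obtain ⟨u, hu⟩ := (bijective_frameMul l hM m).2 (secU l (isCoh_itM hM m) j y)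
  rw [← hu]
  congr 1
  refine (bijective_frameMul l hM (m + j)).1 ?_
  rw [frameMul_secU, ← itAdd_frameMul, hu, frameMul_secU]
  exact (AModX.app_res _ _ _).symm

variable {M : Scheme.Modules (Proj (CohB1.polyGrading n k))} {l : (CohB1.polyGrading n k) 1}
  {y : Fin d → (CohB1.polyGrading n k) 1}

namespace Setup

variable (S : Setup M l y) {r : ℕ} {θ : Coords k d (Sect M l y) r} {z : Fin r → Sect M l y}
  (hθ : Function.Injective θ) (hz : ∀ α, θ (z α) = Pi.single α 1)

include hθ hz in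
theorem exists_frac (x : Sect M l y) :
    ∃ (g : CoordRing k d) (q : Fin r → CoordRing k d), g ≠ 0 ∧ g • x = ∑ α, q α • z α := by
  classical
  obtain ⟨g, hg⟩ := IsLocalization.exist_integer_multiples_of_finite (nonZeroDivisors (CoordRing k d)) (θ x)
  choose q hq using hg
  refine ⟨g, q, nonZeroDivisors.ne_zero g.2, hθ ?_⟩
  funext β
  rw [map_smul, map_sum, Pi.smul_apply, ← hq β, Finset.sum_apply,
    Finset.sum_eq_single β (fun α _ hα => by rw [map_smul, hz, Pi.smul_apply, Pi.single_eq_of_ne (Ne.symm hα), smul_zero])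
      (fun h => absurd (Finset.mem_univ β) h),
    map_smul, hz, Pi.smul_apply, Pi.single_eq_same, ← Algebra.algebraMap_eq_smul_one]

/-- Multiplication by a linear form in coordinates. -/
def endo (θ : Coords k d (Sect M l y) r) (z : Fin r → Sect M l y) (a : Lin) :
    (Fin r → FunField k d) →ₗ[FunField k d] (Fin r → FunField k d) :=
  Fintype.linearCombination (FunField k d) fun α => θ (coord l a • z α)

include hθ hz in
theorem endo_apply (a : Lin) (x : Sect M l y) : endo θ z a (θ x) = θ (coord l a • x) := by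
  classical
  obtain ⟨g, q, hg, hgx⟩ := exists_frac hθ hz x
  refine smul_right_injective (Fin r → FunField k d) (algebraMap_fun_ne_zero hg) ?_
  show algebraMap _ _ g • _ = algebraMap _ _ g • _
  rw [← map_smul (endo θ z a), algebraMap_smul, algebraMap_smul, ← map_smul θ, ← map_smul θ,
    coordRing_smul_def g (coord l a • x), smul_comm, ← coordRing_smul_def, hgx, Finset.smul_sum, map_sum, map_sum,
    map_sum]
  refine Finset.sum_congr rfl fun α _ => ?_
  rw [map_smul, hz, ← algebraMap_smul (FunField k d) (q α), map_smul, endo,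
    Fintype.linearCombination_apply_single, one_smul, algebraMap_smul, ← map_smul θ, coordRing_smul_def,
    coordRing_smul_def, smul_comm]

include hθ hz in
theorem endo_mem (a : Lin) (e : ℤ) (v : Fin r → FunField k d) (hv : v ∈ (S.filt.sys θ z hz).Γ e) :
    endo θ z a v ∈ (S.filt.sys θ z hz).Γ (e + 1) := by
  by_cases h : 0 ≤ e
  · obtain ⟨m, rfl⟩ : ∃ m : ℕ, e = m := ⟨e.toNat, by omega⟩
    rw [Filt.sys_Γ_coe] at hv
    obtain ⟨_, ⟨x, rfl⟩, rfl⟩ := hv
    rw [← Nat.cast_succ, Filt.sys_Γ_coe]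
    exact ⟨S.secL (m + 1) (mulA M m a x), ⟨_, rfl⟩, by
      rw [secL_mulA]; exact (endo_apply hθ hz a _).symm⟩
  · have hv' : v = 0 := by
      change v ∈ S.filt.sysΓ θ e at hv
      rwa [Filt.sysΓ, if_neg h, Submodule.mem_bot] at hv
    rw [hv', map_zero]
    exact Submodule.zero_mem _

include S in
/-- Submodules stable under the linear forms come from coherent subsheaves. -/
theorem exists_sub (S₀ : Submodule (CoordRing k d) (Sect M l y))
    (hst : ∀ (b : Γ(PP, UL l)), ∀ x ∈ S₀, b • x ∈ S₀) :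
    ∃ (m₁ : ℕ) (G : MOD) (ι : G ⟶ itM M m₁), Mono ι ∧ Coh.IsCoh G ∧
      (∀ j : ℕ, Module.finrank k (S.filt.G (m₁ + j) ⊓ S₀.restrictScalars k : Submodule k _) = h0 G (j : ℤ)) ∧
      (IsZero G → ∀ j : ℕ, Module.finrank k (S.filt.G (m₁ + j) ⊓ S₀.restrictScalars k : Submodule k _) = 0) := by
  classical
  haveI : IsNoetherian PP := Proj16.isNoetherian_proj _
  obtain ⟨m₁, hgen⟩ := S.filt.exists_gen_inf S₀
  haveI := S.filt.fin m₁
  haveI : Module.Finite k (S.filt.G m₁ ⊓ S₀.restrictScalars k : Submodule k _) :=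
    Submodule.finiteDimensional_of_le inf_le_left
  let b := Module.finBasis k (S.filt.G m₁ ⊓ S₀.restrictScalars k : Submodule k _)
  have hex : ∀ i, ∃ σ : Γ(itM M m₁, ⊤), S.secL m₁ σ = (b i : Sect M l y) := fun i => (b i).2.1
  choose σ hσ using hex
  have hM₁ := isCoh_itM S.coh m₁
  let Fr : MOD := ⨁ fun _ : ULift.{u} (Fin (Module.finrank k
    (S.filt.G m₁ ⊓ S₀.restrictScalars k : Submodule k (Sect M l y)))) => Coh.structureModule PP
  have hFr : Coh.IsCoh Fr :=
    QCoh.isCoh_biproduct _ fun _ => AmpleVan.isCoh_invertible InvX.isInvertible_structureModule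
  let p : Fr ⟶ itM M m₁ := biproduct.desc fun i => InvX.ofSect (σ i.down)
  let G : MOD := Abelian.image p
  have hG : Coh.IsCoh G := QCoh.isCoh_kernel hM₁ (QCoh.isCoh_cokernel hFr.1 hM₁ p) _
  let ι : G ⟶ itM M m₁ := Abelian.image.ι p
  have hass : ∀ x, Curv2.IsWeakAssPoint G x → x ∈ UL l := fun x hx => S.ass x (isWeakAssPoint_itM
    ((AssPtX.of_shortExact (ShortComplex.mk ι (cokernel.π ι) (cokernel.condition ι))
      (.mk' (ShortComplex.exact_of_g_is_cokernel _ (cokernelIsCokernel ι)) inferInstance inferInstance)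
      hG.1 hM₁.1 (QCoh.isCoh_cokernel hG.1 hM₁ ι).1 x).2 hx))
  let f : ∀ j, Γ(itM G j, ⊤) →+ Sect M l y := fun j =>
    (S.secL (m₁ + j)).comp ((((eqToHom (itM_add M m₁ j)).app ⊤).hom).comp (((AmpleVan.itw (OO) j).map ι).app ⊤).hom)
  have hfsec : ∀ j (x : Γ(itM G j, ⊤)), frameMul l M m₁ (f j x).val = ι.app (UL l) (secU l hG j x) := fun j x =>
    (secU_itAdd l S.coh m₁ j _).trans (secU_natural l hG hM₁ ι j x).symm
  have hinj : ∀ j, Function.Injective (f j) := fun j x x' h =>
    secU_injective l hG hass j (ZClosLib.app_injective_of_mono ι (UL l)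
      ((hfsec j x).symm.trans ((congrArg (fun v => frameMul l M m₁ v.val) h).trans (hfsec j x'))))
  have hsmul : ∀ j (c : k) (x : Γ(itM G j, ⊤)), f j ((gl c : Γ(PP, ⊤)) • x) = c • f j x := fun j c x => by
    show S.secL _ ((eqToHom (itM_add M m₁ j)).app ⊤ (((AmpleVan.itw (OO) j).map ι).app ⊤ _)) = _
    rw [Scheme.Modules.Hom.app_smul, Scheme.Modules.Hom.app_smul, secL_smul]
    rfl
  have hmul : ∀ j (a : Lin) (x : Γ(itM G j, ⊤)), f (j + 1) (mulA G j a x) = coord l a • f j x := fun j a x => by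
    refine Eq.trans ?_ (S.secL_mulA (m₁ + j) a _)
    refine congrArg (S.secL (m₁ + j + 1)) ?_
    refine Eq.trans (congrArg ((eqToHom (itM_add M m₁ (j + 1))).app ⊤)
      (AmpleVan.map_tmul_left ((AmpleVan.itw (OO) j).map ι) x (GrothLem.lsec a))) ?_
    exact itAdd_mulA M m₁ j a _
  let T : ℕ → Submodule k (Sect M l y) := fun j =>
    { toAddSubmonoid := AddMonoidHom.mrange (f j)
      smul_mem' := by
        rintro c _ ⟨x, rfl⟩
        exact ⟨(gl c : Γ(PP, ⊤)) • x, hsmul j c x⟩ }
  haveI hepi : Epi (Abelian.factorThruImage p) := inferInstance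
  have hle : ∀ j, T j ≤ S.filt.G (m₁ + j) ⊓ S₀.restrictScalars k := by
    rintro j _ ⟨x, rfl⟩
    refine ⟨⟨_, rfl⟩, ?_⟩
    obtain ⟨c, hc⟩ := QCoh.app_surjective_of_epi hFr.1 hG.1 (Abelian.factorThruImage p) (isAffineOpen_UL l)
      (secU l hG j x)
    obtain ⟨β, hβ⟩ := exists_coeff σ (UL l) c
    have h1 : ι.app (UL l) (secU l hG j x) = p.app (UL l) c := by
      rw [← hc]
      exact congr(($(Abelian.image.fac p)).app (UL l) c)
    have h2 : f j x = ∑ i, β i • S.secL m₁ (σ i.down) := by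
      refine Sect.ext ((bijective_frameMul l S.coh m₁).1 ?_)
      rw [hfsec, h1]
      refine hβ.trans ?_
      have hval : (∑ i, β i • S.secL m₁ (σ i.down)).val = ∑ i, β i • secU l S.coh m₁ (σ i.down) :=
        map_sum (AddMonoidHom.mk' (fun v : Sect M l y => v.val) fun _ _ => rfl) _ _
      rw [hval, map_sum]
      refine Finset.sum_congr rfl fun i _ => ?_
      rw [frameMul_smul, frameMul_secU]
    rw [h2]
    refine Submodule.sum_mem _ fun i _ => hst _ _ ?_
    rw [hσ]
    exact (b i.down).2.2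
  have hge : ∀ j, S.filt.G (m₁ + j) ⊓ S₀.restrictScalars k ≤ T j := by
    intro j
    induction j with
    | zero =>
      intro v hv
      have hb : ∀ i, (b i : Sect M l y) ∈ T 0 := fun i => by
        refine ⟨(Abelian.factorThruImage p).app ⊤
          ((biproduct.ι (fun _ : ULift.{u} (Fin (Module.finrank k
            (S.filt.G m₁ ⊓ S₀.restrictScalars k : Submodule k (Sect M l y)))) => Coh.structureModule PP) ⟨i⟩).app ⊤
            (show Γ(Coh.structureModule PP, ⊤) from (1 : Γ(PP, ⊤)))), ?_⟩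
        refine Eq.trans (congrArg (S.secL m₁) ?_) (hσ i)
        refine Eq.trans ?_ (InvX.one_ofSect (σ i))
        exact congr(($(show biproduct.ι (fun _ : ULift.{u} (Fin (Module.finrank k
            (S.filt.G m₁ ⊓ S₀.restrictScalars k : Submodule k (Sect M l y)))) => Coh.structureModule PP) ⟨i⟩ ≫
          Abelian.factorThruImage p ≫ ι = InvX.ofSect (σ i) by
            rw [Abelian.image.fac, biproduct.ι_desc])).app ⊤ (show Γ(Coh.structureModule PP, ⊤) from (1 : Γ(PP, ⊤))))
      have h := congrArg Subtype.val (b.sum_repr ⟨v, hv⟩)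
      rw [Submodule.coe_sum] at h
      show v ∈ T 0
      rw [show v = _ from h.symm]
      exact Submodule.sum_mem _ fun i _ => (T 0).smul_mem _ (hb i)
    | succ j ih =>
      rintro v ⟨hv, hvS⟩
      obtain ⟨a, ha, haS, c, hc, rfl⟩ := hgen (m₁ + j) (Nat.le_add_right _ _) v hv hvS
      refine Submodule.add_mem _ ?_ (Submodule.sum_mem _ fun i _ => ?_)
      · obtain ⟨x, hx⟩ := ih ⟨ha, haS⟩
        exact ⟨mulA G j l x, by rw [hmul, coord_self, one_smul]; exact hx⟩
      · obtain ⟨x, hx⟩ := ih ⟨(hc i).1, (hc i).2⟩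
        exact ⟨mulA G j (y i) x, by rw [hmul, X_smul]; exact congrArg (coord l (y i) • ·) hx⟩
  have heq : ∀ j, T j = S.filt.G (m₁ + j) ⊓ S₀.restrictScalars k := fun j => le_antisymm (hle j) (hge j)
  refine ⟨m₁, G, ι, inferInstance, hG, fun j => ?_, fun hz j => ?_⟩
  · haveI : Module.Finite k (Coh.HH PP (itM G j) 0) := projSpace_finite_HH n k _ (isCoh_itM hG j) 0
    rw [← heq]
    exact (finrank_of_injective (itM G j) (f j) (hsmul j) (hinj j) (T j) fun _ => Iff.rfl).2.trans (dimH_itM G j)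
  · rw [← heq]
    have h0 : T j = ⊥ := eq_bot_iff.2 <| by
      rintro _ ⟨x, rfl⟩
      have hι : ι = 0 := hz.eq_of_src _ _
      rw [Submodule.mem_bot]
      refine (hinj j).eq_iff' (map_zero _) |>.2 ?_
      refine secU_injective l hG hass j ?_
      rw [map_zero]
      exact (congr(($(hz.eq_of_src (𝟙 G) 0)).app (UL l) (secU l hG j x)) : _).trans rfl
    rw [h0, finrank_bot]

include S hθ hz in
/-- The slopes of a pure sheaf are bounded by the slopes of its subsheaves. -/
theorem slope_le [CharZero k] [NeZero d] {P : Polynomial ℚ}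
    (hP : ∀ t : ℤ, (chi (k := k) (n := n) M t : ℚ) = P.eval (t : ℚ)) {μ : ℚ}
    (hμ : ∀ (s : ℤ) (G : MOD) (ι : G ⟶ (twF (k := k) (n := n) s).obj M), Mono ι → Coh.IsCoh G → ¬ IsZero G →
      ∀ ψ : Polynomial ℚ, (∀ t : ℤ, (chi (k := k) (n := n) G t : ℚ) = ψ.eval (t : ℚ)) →
        StabCat.alpha (d - 1) ψ ≤ (μ + s) * StabCat.alpha d ψ)
    (α : Fin r) : (S.filt.sys θ z hz).slope α ≤ μ + r := by
  classical
  haveI : IsNoetherian PP := Proj16.isNoetherian_proj _
  obtain ⟨e, rfl⟩ : ∃ e, d = e + 1 := ⟨d - 1, (Nat.succ_pred (NeZero.ne d)).symm⟩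
  obtain ⟨m₀, hgen, hspan⟩ := S.filt.exists_isGen_span hz
  obtain ⟨N₀, hN₀⟩ := S.exists_finrank_eq hP
  refine (S.filt.sys θ z hz).slope_le hgen hspan (GrothLem.natDegree_le_of_dim S.coh S.dim hP).1
    (N₀ := N₀) (fun m hm => by rw [Filt.finrank_sys _ hz hθ]; exact hN₀ m hm) (endo θ z)
    (fun a e v hv => S.endo_mem hθ hz a e v hv) (fun F₀ hF₀ hst => ?_) α
  let S₀ : Submodule (CoordRing k (e + 1)) (Sect M l y) := (F₀.restrictScalars (CoordRing k (e + 1))).comap θ
  have hB : ∀ (b : Γ(PP, UL l)), ∀ x ∈ S₀, b • x ∈ S₀ := by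
    intro b
    refine coord_induction l (P := fun b => ∀ x ∈ S₀, b • x ∈ S₀) (fun c x hx => ?_) (fun a x hx => ?_)
      (fun b b' hb hb' x hx => ?_) (fun b b' hb hb' x hx => ?_) b
    · rw [← k_smul_def]; exact S₀.smul_of_tower_mem c hx
    · show θ (coord l a • x) ∈ F₀
      rw [← endo_apply hθ hz]
      exact hst a _ hx
    · rw [add_smul]; exact S₀.add_mem (hb x hx) (hb' x hx)
    · rw [mul_smul]; exact hb _ (hb' x hx)
  obtain ⟨m₁, G, ι, hι, hG, hdimG, hzero⟩ := S.exists_sub S₀ hB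
  obtain ⟨ψ, hψ⟩ := exists_chi_poly hG
  have hdimLT : HilbPoly.DimLT G (e + 1 + 1) := HilbPoly.dimLT_of_subset
    ((support_of_mono ι).trans (support_itw_subset M m₁)) S.dim
  have hψd := (GrothLem.natDegree_le_of_dim hG hdimLT hψ).1
  let P' := ψ.comp (Polynomial.X + Polynomial.C (-(m₁ : ℚ)))
  have hP'd : P'.natDegree ≤ e + 1 := by
    refine le_trans (Polynomial.natDegree_comp_le) ?_
    rw [Polynomial.natDegree_X_add_C, mul_one]
    exact hψd
  obtain ⟨ρ, hρ⟩ := exists_isMRegular hG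
  have hfin : ∀ m : ℕ, m₁ + ρ.toNat ≤ m → (Module.finrank k ((S.filt.sys θ z hz).Γ m ⊓
      F₀.restrictScalars k : Submodule k _) : ℚ) = P'.eval (m : ℚ) := by
    intro m hm
    obtain ⟨j, rfl⟩ : ∃ j, m = m₁ + j := ⟨m - m₁, by omega⟩
    have e1 : (S.filt.sys θ z hz).Γ ((m₁ + j : ℕ) : ℤ) ⊓ F₀.restrictScalars k =
        (S.filt.G (m₁ + j) ⊓ S₀.restrictScalars k).map (θ.restrictScalars k) := by
      rw [Filt.sys_Γ_coe, Submodule.map_inf _ (show Function.Injective (θ.restrictScalars k) from hθ)]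
      refine le_antisymm ?_ ?_
      · rintro w ⟨⟨x, hx, rfl⟩, hw⟩
        exact ⟨⟨x, hx, rfl⟩, x, hw, rfl⟩
      · rintro w ⟨hw, ⟨x, hx, rfl⟩⟩
        exact ⟨hw, hx⟩
    rw [e1, ← (Submodule.equivMapOfInjective (θ.restrictScalars k) hθ _).finrank_eq, hdimG,
      Polynomial.eval_comp, Polynomial.eval_add, Polynomial.eval_X, Polynomial.eval_C, Nat.cast_add,
      show (m₁ : ℚ) + (j : ℚ) + -(m₁ : ℚ) = ((j : ℤ) : ℚ) by push_cast; ring, ← hψ, chi_eq,
      euler_eq_single fun i hi => subsingleton_of_regular hG hρ hi (by omega)]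
    rfl
  obtain ⟨hα, hη⟩ := alpha_comp_add hψd (-(m₁ : ℚ))
  have hαF := (S.filt.sys θ z hz).alpha_inf F₀ hP'd hfin
  refine ⟨P', m₁ + ρ.toNat, hP'd, hfin, ?_⟩
  have hnz : ¬ IsZero G := fun hZ => by
    have hev : ∀ m : ℕ, m₁ + ρ.toNat ≤ m → P'.eval (m : ℚ) = 0 := fun m hm => by
      obtain ⟨j, rfl⟩ : ∃ j, m = m₁ + j := ⟨m - m₁, by omega⟩
      rw [← hfin _ hm]
      have h := hzero hZ j
      haveI := S.filt.fin (m₁ + j)
      haveI := (S.filt.sys θ z hz).fin ((m₁ + j : ℕ) : ℤ)
      haveI : Module.Finite k ((S.filt.sys θ z hz).Γ ((m₁ + j : ℕ) : ℤ) ⊓ F₀.restrictScalars k : Submodule k _) :=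
        Submodule.finiteDimensional_of_le inf_le_left
      rw [Nat.cast_eq_zero, Submodule.finrank_eq_zero, eq_bot_iff]
      rintro w ⟨hw, hwF⟩
      rw [Filt.sys_Γ_coe] at hw
      obtain ⟨x, hx, rfl⟩ := hw
      haveI : Module.Finite k (S.filt.G (m₁ + j) ⊓ S₀.restrictScalars k : Submodule k _) :=
        Submodule.finiteDimensional_of_le inf_le_left
      rw [Submodule.finrank_eq_zero] at h
      have hx0 : x ∈ (⊥ : Submodule k (Sect M l y)) := h ▸ ⟨hx, hwF⟩
      rw [(Submodule.mem_bot k).1 hx0, map_zero]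
      exact Submodule.zero_mem _
    have : P' = 0 := Polynomial.eq_zero_of_infinite_isRoot _ (Set.infinite_of_injective_forall_mem
      (f := fun i : ℕ => ((m₁ + ρ.toNat + i : ℕ) : ℚ))
      (fun a b h => by simpa using h) fun i => hev _ (Nat.le_add_right _ _))
    rw [this] at hαF
    simp only [StabCat.alpha, Polynomial.coeff_zero, mul_zero] at hαF
    exact hF₀ (Submodule.finrank_eq_zero.1 (by exact_mod_cast hαF.symm))
  haveI := hι
  have h := hμ (m₁ : ℤ) G (ι ≫ (itM_iso M m₁).some.hom) inferInstance hG hnz ψ hψ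
  rw [← hαF, hα]
  simp only [Nat.add_sub_cancel] at h ⊢
  rw [hη]
  push_cast at h
  linarith

end Setup

end Groth.Agent.SimpsonEst

end
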