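import Groth.Agent.SimpsonEst.Jets
import Mathlib.LinearAlgebra.Dimension.Finite
import Mathlib.LinearAlgebra.FiniteDimensional.Basic

/-!
# Systems of sections and their restrictions to the generic line
-/

set_option autoImplicit false
set_option maxHeartbeats 1000000
set_option synthInstance.maxHeartbeats 100000

universe u

noncomputable section

namespace Groth.Agent.SimpsonEst

open Polynomial Module

variable (k : Type u) [Field k] (d r : ℕ)

/-- Coordinate `i` as a rational function. -/
def tt (i : Fin d) : FunField k d := algebraMap (CoordRing k d) (FunField k d) (MvPolynomial.X i)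

/-- A system of sections: the degree `e` sections of a torsion-free sheaf of rank `r`, dehomogenised. -/
structure Sys where
  Γ : ℤ → Submodule k (Fin r → FunField k d)
  mono : ∀ e, Γ e ≤ Γ (e + 1)
  mulX : ∀ i e v, v ∈ Γ e → tt k d i • v ∈ Γ (e + 1)
  fin : ∀ e, Module.Finite k (Γ e)
  spans : ∃ e, Submodule.span (FunField k d) (Γ e : Set (Fin r → FunField k d)) = ⊤
  bdd : ∃ (g : CoordRing k d) (C m₁ : ℤ), g ≠ 0 ∧ ∀ e, m₁ ≤ e → ∀ v ∈ Γ e, ∀ α,
    ∃ q : CoordRing k d, (q = 0 ∨ (q.totalDegree : ℤ) ≤ e + C) ∧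
      algebraMap (CoordRing k d) (FunField k d) q = algebraMap (CoordRing k d) (FunField k d) g * v α

/-- `Γ` is generated in degree `m₀` from that degree on. -/
def IsGen (Γ : ℤ → Submodule k (Fin r → FunField k d)) (m₀ : ℤ) : Prop :=
  ∀ m, m₀ ≤ m → ∀ v ∈ Γ (m + 1), ∃ a ∈ Γ m, ∃ c : Fin d → (Fin r → FunField k d),
    (∀ i, c i ∈ Γ m) ∧ v = a + ∑ i, tt k d i • c i

variable {k d r} in
/-- Finitely generated systems are bounded. -/
theorem bdd_of_isGen {Γ : ℤ → Submodule k (Fin r → FunField k d)} {m₀ : ℤ} (hgen : IsGen k d r Γ m₀)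
    (hfin : Module.Finite k (Γ m₀)) :
    ∃ (g : CoordRing k d) (C m₁ : ℤ), g ≠ 0 ∧ ∀ e, m₁ ≤ e → ∀ v ∈ Γ e, ∀ α,
      ∃ q : CoordRing k d, (q = 0 ∨ (q.totalDegree : ℤ) ≤ e + C) ∧
        algebraMap (CoordRing k d) (FunField k d) q = algebraMap (CoordRing k d) (FunField k d) g * v α := by
  classical
  obtain ⟨s, hs⟩ := Module.Finite.iff_fg.1 hfin
  obtain ⟨g, hg⟩ := IsLocalization.exist_integer_multiples_of_finite (nonZeroDivisors (CoordRing k d))
    (fun p : s × Fin r => (p.1 : Fin r → FunField k d) p.2)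
  choose a ha using hg
  let N : ℕ := Finset.univ.sup fun p => (a p).totalDegree
  let P : ℕ → FunField k d → Prop := fun n z => ∃ q : CoordRing k d, q.totalDegree ≤ n ∧
    algebraMap (CoordRing k d) (FunField k d) q = z
  have Padd : ∀ n z z', P n z → P n z' → P n (z + z') := by
    rintro n z z' ⟨q, hq, rfl⟩ ⟨q', hq', rfl⟩
    exact ⟨q + q', (MvPolynomial.totalDegree_add q q').trans (max_le hq hq'), map_add _ _ _⟩
  have Pzero : ∀ n, P n 0 := fun n => ⟨0, by simp, map_zero _⟩
  let G : FunField k d := algebraMap _ _ (g : CoordRing k d)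
  have hall : ∀ n : ℕ, ∀ v ∈ Γ (m₀ + n), ∀ α, P (N + n) (G * v α) := by
    intro n
    induction n with
    | zero =>
      intro v hv α
      rw [Nat.cast_zero, add_zero, ← hs] at hv
      induction hv using Submodule.span_induction with
      | mem w hw =>
        refine ⟨a (⟨w, hw⟩, α), Finset.le_sup (f := fun p => (a p).totalDegree) (Finset.mem_univ _), ?_⟩
        rw [ha, Algebra.smul_def]
      | zero => rw [Pi.zero_apply, mul_zero]; exact Pzero _
      | add x y _ _ hx hy => rw [Pi.add_apply, mul_add]; exact Padd _ _ _ hx hy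
      | smul c x _ hx =>
        obtain ⟨q, hq, hqe⟩ := hx
        refine ⟨MvPolynomial.C c * q, ?_, ?_⟩
        · refine (MvPolynomial.totalDegree_mul _ _).trans ?_
          rw [MvPolynomial.totalDegree_C, zero_add]
          exact hq
        · rw [map_mul, hqe, Pi.smul_apply, Algebra.smul_def, IsScalarTower.algebraMap_apply k (CoordRing k d)
            (FunField k d), MvPolynomial.algebraMap_eq, mul_left_comm]
    | succ n ih =>
      intro v hv α
      obtain ⟨a', ha', c, hc, rfl⟩ := hgen (m₀ + n) (by omega) v (by push_cast at hv; rwa [add_assoc])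
      rw [Pi.add_apply, Finset.sum_apply, mul_add, Finset.mul_sum]
      refine Padd _ _ _ ?_ (Finset.sum_induction _ _ (Padd _) (Pzero _) fun i _ => ?_)
      · obtain ⟨q, hq, hqe⟩ := ih a' ha' α
        exact ⟨q, hq.trans (by omega), hqe⟩
      · obtain ⟨q, hq, hqe⟩ := ih _ (hc i) α
        refine ⟨MvPolynomial.X i * q, ?_, ?_⟩
        · refine (MvPolynomial.totalDegree_mul _ _).trans ?_
          rw [MvPolynomial.totalDegree_X]
          omega
        · rw [map_mul, hqe, Pi.smul_apply, smul_eq_mul, tt, mul_left_comm]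
  refine ⟨g, (N : ℤ) - m₀, m₀, nonZeroDivisors.ne_zero g.2, fun e he v hv α => ?_⟩
  obtain ⟨n, rfl⟩ : ∃ n : ℕ, e = m₀ + n := ⟨(e - m₀).toNat, by omega⟩
  obtain ⟨q, hq, hqe⟩ := hall n v hv α
  exact ⟨q, Or.inr (by omega), hqe⟩

variable {k d r}

/-- Restriction to the line, coordinatewise. -/
def inclV (v : Fin r → FunField k d) : Fin r → LineField k d := fun α => incl k d (v α)

theorem inclV_smul (z : FunField k d) (v : Fin r → FunField k d) : inclV (z • v) = incl k d z • inclV v := by
  ext α; simp [inclV]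

theorem inclV_add (v w : Fin r → FunField k d) : inclV (v + w) = inclV v + inclV w := by
  ext α; simp [inclV]

theorem inclV_sum {ι : Type*} (s : Finset ι) (f : ι → Fin r → FunField k d) :
    inclV (∑ i ∈ s, f i) = ∑ i ∈ s, inclV (f i) := by
  ext α; simp [inclV, Finset.sum_apply]

theorem inclV_zero : inclV (0 : Fin r → FunField k d) = 0 := by
  ext α; simp [inclV]

theorem incl_const (c : k) :
    incl k d (algebraMap k (FunField k d) c) =
      algebraMap (ParField k d) (LineField k d) (algebraMap k (ParField k d) c) := by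
  rw [IsScalarTower.algebraMap_apply k (CoordRing k d) (FunField k d), incl_algebraMap,
    IsScalarTower.algebraMap_apply k (ParRing k d) (ParField k d),
    IsScalarTower.algebraMap_apply (ParField k d) (Polynomial (ParField k d)) (LineField k d)]
  simp [lineMap, lineMap₀, Polynomial.algebraMap_apply, MvPolynomial.algebraMap_eq]

theorem inclV_smul_const (c : k) (v : Fin r → FunField k d) :
    inclV (c • v) = algebraMap k (ParField k d) c • inclV v := by
  rw [← algebraMap_smul (FunField k d) c v, inclV_smul, incl_const, algebraMap_smul]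

theorem incl_tt (i : Fin d) :
    incl k d (tt k d i) = algebraMap (ParField k d) (LineField k d) (algebraMap (ParRing k d) (ParField k d) (pp i)) +
      algebraMap (ParField k d) (LineField k d) (algebraMap (ParRing k d) (ParField k d) (ww i)) * RatFunc.X := by
  rw [tt, incl_algebraMap]
  simp [lineMap, lineMap₀, RatFunc.algebraMap_eq_C]

/-- Regular vectors. -/
def regV (k : Type u) [Field k] (d r : ℕ) : Submodule (ParField k d) (Fin r → LineField k d) where
  carrier := {u | ∀ α, Reg (u α)}
  add_mem' ha hb α := (ha α).add (hb α)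
  zero_mem' _ := reg_zero
  smul_mem' c _ hu α := (hu α).smul c

/-- The value at the marked point, coordinatewise. -/
def ev0V (u : Fin r → LineField k d) : Fin r → ParField k d := fun α => ev0 (u α)

theorem ev0_one : ev0 (1 : LineField k d) = 1 := by
  rw [← map_one (algebraMap (Polynomial (ParField k d)) (LineField k d)), ev0_algebraMap, eval_one]

theorem ev0V_zero : ev0V (0 : Fin r → LineField k d) = 0 := funext fun _ => ev0_zero

theorem ev0V_add {u v : Fin r → LineField k d} (hu : u ∈ regV k d r) (hv : v ∈ regV k d r) :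
    ev0V (u + v) = ev0V u + ev0V v :=
  funext fun α => ev0_add (hu α) (hv α)

theorem ev0V_smul (c : ParField k d) {u : Fin r → LineField k d} (hu : u ∈ regV k d r) :
    ev0V (c • u) = c • ev0V u :=
  funext fun α => ev0_smul c (hu α)

theorem ev0V_sum {ι : Type*} (s : Finset ι) {f : ι → Fin r → LineField k d} (h : ∀ i ∈ s, f i ∈ regV k d r) :
    ev0V (∑ i ∈ s, f i) = ∑ i ∈ s, ev0V (f i) := by
  ext α
  simp only [ev0V, Finset.sum_apply]
  exact ev0_sum s fun i hi => h i hi α

theorem inclV_mem_regV (v : Fin r → FunField k d) : inclV v ∈ regV k d r := fun _ => reg_incl _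

theorem smul_mem_regV {c : LineField k d} (hc : Reg c) {u : Fin r → LineField k d} (hu : u ∈ regV k d r) :
    c • u ∈ regV k d r := fun α => hc.mul (hu α)

theorem ev0V_smul' {c : LineField k d} (hc : Reg c) {u : Fin r → LineField k d} (hu : u ∈ regV k d r) :
    ev0V (c • u) = ev0 c • ev0V u :=
  funext fun α => ev0_mul hc (hu α)

theorem exists_eq_X_smul {u : Fin r → LineField k d} (hu : u ∈ regV k d r) (h0 : ev0V u = 0) :
    ∃ y ∈ regV k d r, u = (RatFunc.X : LineField k d) • y := by
  choose y hy hxy using fun α => exists_eq_X_mul (hu α) (congr_fun h0 α)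
  exact ⟨y, hy, funext hxy⟩

theorem X_pow_ne_zero (j : ℕ) : (RatFunc.X : LineField k d) ^ j ≠ 0 := pow_ne_zero _ RatFunc.X_ne_zero

theorem X_pow_comm (j : ℕ) (c : ParField k d) (u : Fin r → LineField k d) :
    ((RatFunc.X : LineField k d) ^ j) • (c • u) = c • ((RatFunc.X : LineField k d) ^ j) • u :=
  smul_comm _ _ _

/-- Regular vectors with independent values are independent. -/
theorem linearIndependent_of_ev0V {ι : Type*} [Finite ι] {u : ι → Fin r → LineField k d}
    (hu : ∀ i, u i ∈ regV k d r) (h : LinearIndependent (ParField k d) fun i => ev0V (u i)) :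
    LinearIndependent (LineField k d) u := by
  classical
  haveI := Fintype.ofFinite ι
  have key : ∀ (N : ℕ) (q : ι → Polynomial (ParField k d)), (∀ i, (q i).degree < N) →
      ∑ i, algebraMap (Polynomial (ParField k d)) (LineField k d) (q i) • u i = 0 → ∀ i, q i = 0 := by
    intro N
    induction N with
    | zero => intro q hq _ i; exact degree_eq_bot.1 (Nat.WithBot.lt_zero_iff.1 (hq i))
    | succ N ih =>
      intro q hq hsum
      have h0 : ∀ i, (q i).eval 0 = 0 := by
        refine Fintype.linearIndependent_iff.1 h _ ?_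
        have := congrArg ev0V hsum
        rw [ev0V_zero, ev0V_sum _ fun i _ => smul_mem_regV (reg_algebraMap _) (hu i)] at this
        refine Eq.trans (Finset.sum_congr rfl fun i _ => ?_) this
        rw [ev0V_smul' (reg_algebraMap _) (hu i), ev0_algebraMap]
      have hq' : ∀ i, q i = X * (q i).divX := fun i => by
        conv_lhs => rw [← X_mul_divX_add (q i), coeff_zero_eq_eval_zero, h0 i, C_0, add_zero]
      have hz := ih (fun i => (q i).divX) (fun i => ?_) ?_
      · intro i; rw [hq' i, hz i, mul_zero]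
      · rcases eq_or_ne (q i) 0 with h' | h'
        · simp [h']
        · have h1 := degree_divX_lt h'
          have h2 := hq i
          rw [degree_eq_natDegree h'] at h1 h2
          rcases eq_or_ne (q i).divX 0 with h'' | h''
          · simp [h'']
          · rw [degree_eq_natDegree h''] at h1 ⊢
            norm_cast at h1 h2 ⊢
            omega
      · refine smul_right_injective _ (RatFunc.X_ne_zero (K := ParField k d)) ?_
        simp only [smul_zero, Finset.smul_sum]
        refine Eq.trans (Finset.sum_congr rfl fun i _ => ?_) hsum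
        conv_rhs => rw [hq' i, map_mul, RatFunc.algebraMap_X, mul_smul]
  refine Fintype.linearIndependent_iff.2 fun g hg i => ?_
  obtain ⟨b, hb⟩ := IsLocalization.exist_integer_multiples_of_finite
    (nonZeroDivisors (Polynomial (ParField k d))) g
  choose q hq using hb
  have hz := key ((Finset.univ.sup fun i => (q i).natDegree) + 1) q (fun i =>
    lt_of_le_of_lt degree_le_natDegree (by exact_mod_cast Nat.lt_succ_of_le (Finset.le_sup (f := fun i =>
      (q i).natDegree) (Finset.mem_univ i)))) ?_ i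
  · have h1 := hq i
    rw [hz, map_zero, Algebra.smul_def, zero_eq_mul] at h1
    exact h1.resolve_left (RatFunc.algebraMap_ne_zero (nonZeroDivisors.ne_zero b.2))
  · rw [← smul_zero (algebraMap (Polynomial (ParField k d)) (LineField k d) (b : Polynomial (ParField k d))),
      ← hg, Finset.smul_sum]
    refine Finset.sum_congr rfl fun l _ => ?_
    rw [hq, ← IsScalarTower.algebraMap_smul (LineField k d) (b : Polynomial (ParField k d)) (g l), smul_eq_mul, mul_smul]

namespace Sys

variable (Φ : Sys k d r)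

theorem le_of_le {e e' : ℤ} (h : e ≤ e') : Φ.Γ e ≤ Φ.Γ e' := by
  obtain ⟨n, rfl⟩ : ∃ n : ℕ, e' = e + n := ⟨(e' - e).toNat, by omega⟩
  clear h
  induction n with
  | zero => simp
  | succ n ih => exact ih.trans (by push_cast; rw [← add_assoc]; exact Φ.mono _)

/-- The restrictions to the line of the sections of degree `e`. -/
def span (e : ℤ) : Submodule (ParField k d) (Fin r → LineField k d) :=
  Submodule.span (ParField k d) (inclV '' (Φ.Γ e : Set (Fin r → FunField k d)))

theorem inclV_mem_span {e : ℤ} {v : Fin r → FunField k d} (hv : v ∈ Φ.Γ e) : inclV v ∈ Φ.span e :=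
  Submodule.subset_span ⟨v, hv, rfl⟩

theorem span_le_regV (e : ℤ) : Φ.span e ≤ regV k d r :=
  Submodule.span_le.2 (by rintro _ ⟨v, -, rfl⟩; exact inclV_mem_regV v)

theorem span_mono {e e' : ℤ} (h : e ≤ e') : Φ.span e ≤ Φ.span e' :=
  Submodule.span_mono (Set.image_mono (Φ.le_of_le h))

theorem finite_span (e : ℤ) : Module.Finite (ParField k d) (Φ.span e) := by
  classical
  obtain ⟨s, hs⟩ := Module.Finite.iff_fg.1 (Φ.fin e)
  refine Module.Finite.iff_fg.2 ⟨s.image inclV, le_antisymm ?_ (Submodule.span_le.2 ?_)⟩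
  · rw [Finset.coe_image]
    exact Submodule.span_mono (Set.image_mono (hs ▸ Submodule.subset_span))
  · rintro _ ⟨v, hv, rfl⟩
    rw [← hs] at hv
    rw [Finset.coe_image]
    induction hv using Submodule.span_induction with
    | mem x hx => exact Submodule.subset_span ⟨x, hx, rfl⟩
    | zero => rw [inclV_zero]; exact Submodule.zero_mem _
    | add x y _ _ hx hy => rw [inclV_add]; exact Submodule.add_mem _ hx hy
    | smul c x _ hx => rw [inclV_smul_const]; exact Submodule.smul_mem _ _ hx

theorem X_smul_mem_span [NeZero d] {e : ℤ} {x : Fin r → LineField k d} (hx : x ∈ Φ.span e) :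
    (RatFunc.X : LineField k d) • x ∈ Φ.span (e + 1) := by
  induction hx using Submodule.span_induction with
  | mem y hy =>
    obtain ⟨v, hv, rfl⟩ := hy
    let i : Fin d := ⟨0, Nat.pos_of_ne_zero (NeZero.ne d)⟩
    have hw : algebraMap (ParRing k d) (ParField k d) (ww i) ≠ 0 := fun h => MvPolynomial.X_ne_zero _
      (IsFractionRing.injective (ParRing k d) (ParField k d) (h.trans (map_zero _).symm))
    have h : (RatFunc.X : LineField k d) • inclV v = (algebraMap (ParRing k d) (ParField k d) (ww i))⁻¹ •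
        (inclV (tt k d i • v) - algebraMap (ParRing k d) (ParField k d) (pp i) • inclV v) := by
      rw [inclV_smul, incl_tt, add_smul, algebraMap_smul, add_sub_cancel_left, mul_smul, algebraMap_smul,
        inv_smul_smul₀ hw]
    rw [h]
    exact Submodule.smul_mem _ _ (Submodule.sub_mem _ (Φ.inclV_mem_span (Φ.mulX i e v hv))
      (Submodule.smul_mem _ _ (Φ.span_mono (by omega) (Φ.inclV_mem_span hv))))
  | zero => rw [smul_zero]; exact Submodule.zero_mem _
  | add a b _ _ ha hb => rw [smul_add]; exact Submodule.add_mem _ ha hb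
  | smul c a _ ha => rw [smul_comm]; exact Submodule.smul_mem _ _ ha

theorem X_pow_smul_mem_span [NeZero d] {e : ℤ} {x : Fin r → LineField k d} (hx : x ∈ Φ.span e) :
    ∀ j : ℕ, ((RatFunc.X : LineField k d) ^ j) • x ∈ Φ.span (e + j)
  | 0 => by simpa using hx
  | j + 1 => by
    have h := Φ.X_smul_mem_span (X_pow_smul_mem_span hx j)
    rw [smul_smul, ← pow_succ'] at h
    push_cast
    rwa [← add_assoc]

variable [NeZero d]

theorem shift_mem {e : ℤ} {j j' : ℕ} {u : Fin r → LineField k d}
    (hu : ((RatFunc.X : LineField k d) ^ j) • u ∈ Φ.span (e + j)) (h : j ≤ j') :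
    ((RatFunc.X : LineField k d) ^ j') • u ∈ Φ.span (e + j') := by
  obtain ⟨i, rfl⟩ := Nat.exists_eq_add_of_le h
  have := Φ.X_pow_smul_mem_span hu i
  rw [smul_smul, ← pow_add, add_comm i j] at this
  push_cast
  rwa [← add_assoc]

/-- The sections of degree `e` of the saturation at the marked point. -/
def Lam (e : ℤ) : Submodule (ParField k d) (Fin r → LineField k d) where
  carrier := {u | u ∈ regV k d r ∧ ∃ j : ℕ, ((RatFunc.X : LineField k d) ^ j) • u ∈ Φ.span (e + j)}
  add_mem' := by
    rintro u v ⟨hu, i, hi⟩ ⟨hv, j, hj⟩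
    refine ⟨(regV k d r).add_mem hu hv, max i j, ?_⟩
    rw [smul_add]
    exact Submodule.add_mem _ (Φ.shift_mem hi (le_max_left _ _)) (Φ.shift_mem hj (le_max_right _ _))
  zero_mem' := ⟨(regV k d r).zero_mem, 0, by rw [smul_zero]; exact Submodule.zero_mem _⟩
  smul_mem' := by
    rintro c u ⟨hu, i, hi⟩
    refine ⟨(regV k d r).smul_mem c hu, i, ?_⟩
    rw [smul_comm]
    exact Submodule.smul_mem _ _ hi

theorem lam_le_regV (e : ℤ) : Φ.Lam e ≤ regV k d r := fun _ h => h.1

theorem span_le_lam (e : ℤ) : Φ.span e ≤ Φ.Lam e :=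
  fun x hx => ⟨Φ.span_le_regV e hx, 0, by simpa using hx⟩

theorem lam_mono {e e' : ℤ} (h : e ≤ e') : Φ.Lam e ≤ Φ.Lam e' :=
  fun _ ⟨hu, j, hj⟩ => ⟨hu, j, Φ.span_mono (by omega) hj⟩

theorem mem_lam_of_X_smul {e : ℤ} {u : Fin r → LineField k d} (hu : u ∈ regV k d r)
    (h : (RatFunc.X : LineField k d) • u ∈ Φ.Lam e) : u ∈ Φ.Lam (e - 1) := by
  obtain ⟨-, j, hj⟩ := h
  refine ⟨hu, j + 1, ?_⟩
  rw [pow_succ, mul_smul]
  convert hj using 2
  push_cast
  ring

/-- The values at the marked point of the sections of degree `e`. -/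
def vals (e : ℤ) : Submodule (ParField k d) (Fin r → ParField k d) where
  carrier := ev0V '' (Φ.Lam e : Set (Fin r → LineField k d))
  add_mem' := by
    rintro _ _ ⟨u, hu, rfl⟩ ⟨v, hv, rfl⟩
    exact ⟨u + v, Submodule.add_mem _ hu hv, ev0V_add hu.1 hv.1⟩
  zero_mem' := ⟨0, Submodule.zero_mem _, ev0V_zero⟩
  smul_mem' := by
    rintro c _ ⟨u, hu, rfl⟩
    exact ⟨c • u, Submodule.smul_mem _ _ hu, ev0V_smul c hu.1⟩

theorem vals_mono {e e' : ℤ} (h : e ≤ e') : Φ.vals e ≤ Φ.vals e' :=
  fun _ ⟨u, hu, h'⟩ => ⟨u, Φ.lam_mono h hu, h'⟩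

/-- The rank of the sections of degree `e` on the generic line. -/
def rk (e : ℤ) : ℕ := finrank (ParField k d) (Φ.vals e)

theorem rk_le (e : ℤ) : Φ.rk e ≤ r :=
  (Submodule.finrank_le _).trans (by rw [Module.finrank_pi, Fintype.card_fin])

theorem rk_mono {e e' : ℤ} (h : e ≤ e') : Φ.rk e ≤ Φ.rk e' :=
  Submodule.finrank_mono (Φ.vals_mono h)

/-- Sections spanning the generic fibre have independent values. -/
theorem vals_eq_top {e : ℤ} (h : Submodule.span (FunField k d) (Φ.Γ e : Set (Fin r → FunField k d)) = ⊤) :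
    ev0V '' (Φ.span e : Set (Fin r → LineField k d)) = Set.univ ∧ Φ.vals e = ⊤ := by
  classical
  have hunit : ∀ α : Fin r, ∃ x ∈ Φ.span e, ev0V x = Pi.single α 1 := by
    intro α
    obtain ⟨n, c, v, hv⟩ := Submodule.mem_span_set'.1
      (h ▸ Submodule.mem_top (x := (Pi.single α 1 : Fin r → FunField k d)))
    refine ⟨∑ l, ev0 (incl k d (c l)) • inclV (v l : Fin r → FunField k d),
      Submodule.sum_mem _ fun l _ => Submodule.smul_mem _ _ (Φ.inclV_mem_span (v l).2), ?_⟩
    have h1 := congrArg (fun w => ev0V (inclV w)) hv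
    simp only [inclV_sum, inclV_smul] at h1
    rw [ev0V_sum _ fun l _ => smul_mem_regV (reg_incl _) (inclV_mem_regV _)] at h1
    rw [ev0V_sum _ fun l _ => Submodule.smul_mem _ _ (inclV_mem_regV _)]
    refine Eq.trans (Finset.sum_congr rfl fun l _ => ?_) (h1.trans ?_)
    · rw [ev0V_smul _ (inclV_mem_regV _), ev0V_smul' (reg_incl _) (inclV_mem_regV _)]
    · ext β
      rcases eq_or_ne α β with rfl | hne
      · simp [ev0V, inclV, ev0_one]
      · simp [ev0V, inclV, hne.symm, ev0_zero]
  choose x hx hxe using hunit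
  have hall : ∀ y : Fin r → ParField k d, ∃ z ∈ Φ.span e, ev0V z = y := fun y => by
    refine ⟨∑ α, y α • x α, Submodule.sum_mem _ fun α _ => Submodule.smul_mem _ _ (hx α), ?_⟩
    rw [ev0V_sum _ fun α _ => Submodule.smul_mem _ _ (Φ.span_le_regV e (hx α))]
    simp only [ev0V_smul _ (Φ.span_le_regV e (hx _)), hxe]
    ext β
    simp [Finset.sum_apply, Pi.single_apply]
  refine ⟨Set.eq_univ_of_forall hall, eq_top_iff.2 fun y _ => ?_⟩
  obtain ⟨z, hz, rfl⟩ := hall y
  exact ⟨z, Φ.span_le_lam e hz, rfl⟩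

omit [NeZero d] in
theorem natDegree_lineMap_le (q : CoordRing k d) : (lineMap k d q).natDegree ≤ q.totalDegree := by
  refine (Polynomial.natDegree_map_le).trans ?_
  conv_lhs => rw [MvPolynomial.as_sum q, map_sum]
  refine natDegree_sum_le_of_forall_le _ _ fun m hm => ?_
  refine le_trans ?_ (MvPolynomial.le_totalDegree hm)
  rw [lineMap₀, AlgHom.toRingHom_eq_coe, RingHom.coe_coe, MvPolynomial.aeval_monomial, Polynomial.algebraMap_apply]
  refine natDegree_C_mul_le _ _ |>.trans ?_
  refine (natDegree_prod_le _ _).trans (Finset.sum_le_sum fun i _ => ?_)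
  refine (natDegree_pow_le).trans ?_
  have h1 : (C (pp (k := k) i) + C (ww i) * X : Polynomial (ParRing k d)).natDegree ≤ 1 := by compute_degree
  exact le_trans (Nat.mul_le_mul_left _ h1) (le_of_eq (mul_one _))

/-- Restrictions of high degree sections are polynomials of bounded degree up to a common factor. -/
theorem exists_bound : ∃ (g : CoordRing k d) (C m₁ : ℤ), g ≠ 0 ∧ ∀ e, m₁ ≤ e → ∀ x ∈ Φ.span e, ∀ α,
    ∃ q : Polynomial (ParField k d), (q = 0 ∨ (q.natDegree : ℤ) ≤ e + C) ∧
      algebraMap (Polynomial (ParField k d)) (LineField k d) q = incl k d (algebraMap _ _ g) * x α := by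
  obtain ⟨g, C', m₁, hg, hb⟩ := Φ.bdd
  refine ⟨g, C', m₁, hg, fun e he x hx α => ?_⟩
  induction hx using Submodule.span_induction with
  | mem y hy =>
    obtain ⟨v, hv, rfl⟩ := hy
    obtain ⟨q, hq, hqe⟩ := hb e he v hv α
    refine ⟨lineMap k d q, hq.imp (fun h => by rw [h, map_zero]) (fun h => le_trans ?_ h), ?_⟩
    · exact_mod_cast natDegree_lineMap_le q
    · rw [← incl_algebraMap, hqe, map_mul]
      rfl
  | zero => exact ⟨0, Or.inl rfl, by simp⟩
  | add y z _ _ hy hz =>
    obtain ⟨q, hq, hqe⟩ := hy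
    obtain ⟨q', hq', hqe'⟩ := hz
    refine ⟨q + q', ?_, by rw [map_add, hqe, hqe', Pi.add_apply, mul_add]⟩
    rcases hq with rfl | hq
    · simpa using hq'
    rcases hq' with rfl | hq'
    · simpa using Or.inr hq
    exact Or.inr (le_trans (by exact_mod_cast natDegree_add_le q q') (max_le hq hq'))
  | smul c y _ hy =>
    obtain ⟨q, hq, hqe⟩ := hy
    refine ⟨Polynomial.C c * q, ?_, ?_⟩
    · rcases hq with rfl | hq
      · exact Or.inl (mul_zero _)
      · exact Or.inr (le_trans (by exact_mod_cast natDegree_C_mul_le c q) hq)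
    · rw [map_mul, hqe, RatFunc.algebraMap_C, ← RatFunc.algebraMap_eq_C, Pi.smul_apply, Algebra.smul_def,
        mul_left_comm]

/-- Very negative degrees have no sections on the line. -/
theorem exists_low : ∃ e₀ : ℤ, ∀ e, e < e₀ → Φ.Lam e = ⊥ := by
  obtain ⟨g, C, m₁, hg, hb⟩ := Φ.exists_bound
  refine ⟨-C, fun e he => eq_bot_iff.2 ?_⟩
  rintro u ⟨hu, j, hj⟩
  rw [Submodule.mem_bot]
  ext α
  let j' := max j (m₁ - e).toNat
  have hj' := Φ.shift_mem hj (show j ≤ j' from le_max_left _ _)
  obtain ⟨q, hq, hqe⟩ := hb (e + j') (by omega) _ hj' α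
  have hgu : Reg (incl k d (algebraMap _ _ g) * u α) := (reg_incl _).mul (hu α)
  obtain ⟨y, hy, hyreg⟩ : ∃ y, y = incl k d (algebraMap _ _ g) * u α ∧ Reg y := ⟨_, rfl, hgu⟩
  have hq' : algebraMap (Polynomial (ParField k d)) (LineField k d) (q * y.denom) =
      algebraMap (Polynomial (ParField k d)) (LineField k d) (X ^ j' * y.num) := by
    rw [map_mul, map_mul, hqe, Pi.smul_apply, smul_eq_mul, mul_left_comm, ← hy, map_pow, RatFunc.algebraMap_X,
      mul_assoc]
    congr 1
    nth_rw 1 [← RatFunc.num_div_denom y]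
    rw [div_mul_cancel₀ _ (RatFunc.algebraMap_ne_zero y.denom_ne_zero)]
  have hdvd : X ^ j' ∣ q :=
    (((Polynomial.irreducible_X (R := ParField k d)).coprime_iff_not_dvd.2 fun h =>
      hyreg (by rwa [X_dvd_iff, coeff_zero_eq_eval_zero] at h)).pow_left).dvd_of_dvd_mul_right
      ⟨_, RatFunc.algebraMap_injective (K := ParField k d) hq'⟩
  have hq0 : q = 0 := hq.elim id fun h => eq_zero_of_dvd_of_natDegree_lt hdvd (by rw [natDegree_X_pow]; omega)
  rw [hq0, map_zero, Pi.smul_apply, smul_eq_mul, zero_eq_mul, mul_eq_zero] at hqe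
  refine (hqe.resolve_left fun h => hg ?_).resolve_left (X_pow_ne_zero _)
  exact IsFractionRing.injective (CoordRing k d) (FunField k d)
    (((incl k d).injective (h.trans (map_zero _).symm)).trans (map_zero _).symm)

theorem exists_rk_eq_zero : ∃ e₀ : ℤ, ∀ e, e < e₀ → Φ.rk e = 0 := by
  obtain ⟨e₀, h⟩ := Φ.exists_low
  refine ⟨e₀, fun e he => ?_⟩
  rw [rk, Submodule.finrank_eq_zero, eq_bot_iff]
  rintro _ ⟨u, hu, rfl⟩
  rw [SetLike.mem_coe, h e he, Submodule.mem_bot] at hu
  rw [hu, ev0V_zero]
  exact Submodule.zero_mem _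

theorem exists_rk_eq : ∃ e₁ : ℤ, ∀ e, e₁ ≤ e → Φ.rk e = r := by
  obtain ⟨e₁, h⟩ := Φ.spans
  refine ⟨e₁, fun e he => le_antisymm (Φ.rk_le e) (le_trans (le_of_eq ?_) (Φ.rk_mono he))⟩
  rw [rk, (Φ.vals_eq_top h).2, finrank_top, Module.finrank_pi, Fintype.card_fin]

end Sys

end Groth.Agent.SimpsonEst

end
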